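import Cfsg.Agent.H808.RV.FSL
import Cfsg.Agent.H3.OT.Weyl
import Cfsg.Agent.KFacts.Mult.Chev
import Cfsg.Agent.FastGrp
import Cfsg.Agent.Prune
set_option linter.all false

-- part: H808/RV/FPsi
section
prune_inst 0x7f00000000000000000000000000000000000000000000000000000000000000000000000000000000000000000000000000000000000000000000000000000000000000000000000000000000000000003fffffffffffffffffffffffffffbeffbdffffffff
set_option linter.all false
open scoped Cfsg.Agent.FastGrp

/-!
# Frames of fundamental subgroups: root `SL₂` in the Chevalley groups (helper808, TEAM RV, frame data)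

* `prC` the pairing, computably; `cmm`, `orth`, `tabA`, `tabB` : Boolean tables;
* `psi_injective`; `psi_comm`; `cent_norm` : `C_G(h_r(-1))` normalises `⟨X_r, X_{-r}⟩` if `tabA`, `tabB`;
* `chi_vec`, `tor_ext` : the elements of the torus and their values on the fundamental roots.
-/

set_option autoImplicit false
set_option linter.unusedSectionVars false

namespace Cfsg.Agent.H808.RV

open Subgroup Cfsg Cfsg.Lie Cfsg.Lie.ChevalleyDatum Cfsg.Agent.ChevalleyStructure
  Cfsg.Agent.ChevalleyStructure.Elts Cfsg.Agent.ChevalleyStructure.NPerm Cfsg.Agent.ChevalleyStructure.CoxeterGeom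
  Cfsg.Agent.ChevalleyStructure.RootVec
  Cfsg.Agent.Nodes.RGDChev Cfsg.Agent.H412.OT Cfsg.Agent.H3.OT Cfsg.Agent.Nodes.Reps
  Cfsg.Agent.Tits.Roots Cfsg.Agent.Tits.Core
open Cfsg.Agent.Nodes.RGDFoldSL (wS hS coe_wS coe_hS psi psi_up psi_lo psi_hS)
open Cfsg.Agent.ChevalleyStructure.SL2Hom (up lo mem_closure_SL2)

universe u v w

/-! ### tables -/

/-- the pairing, computably -/
def prC (D : ChevalleyDatum) (r s : ℕ) : ℤ :=
  ((List.range D.rank).map fun i => (D.coroot.getD r #[]).getD i 0 * D.cartan i s).sum

theorem pr_eq (D : ChevalleyDatum) (r s : ℕ) : pr D r s = prC D r s := rfl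

/-- `X_b` commutes with `X_a` -/
def cmm (D : ChevalleyDatum) (a b : ℕ) : Bool := (b != a) && (b != D.neg a) && (D.commTerms a b).isEmpty

/-- `X_b` commutes with `X_a`, `X_{-a}` -/
def orth (D : ChevalleyDatum) (a b : ℕ) : Bool := cmm D a b && cmm D (D.neg a) b

/-- the roots with even pairing -/
def tabA (D : ChevalleyDatum) (r : ℕ) : Bool :=
  (List.range D.nroots).all fun s => (prC D r s % 2 != 0) || (s == r) || (s == D.neg r) || orth D r s

/-- the roots with the same parities -/
def tabB (D : ChevalleyDatum) (r : ℕ) : Bool :=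
  (List.range D.nroots).all fun r' => (r' == r) || (r' == D.neg r) ||
    (List.range D.rank).any fun j => (prC D r' (D.simple j) - prC D r (D.simple j)) % 2 != 0

/-! ### root elements -/

section Basic

variable {D : ChevalleyDatum} (hD : InList D) {K : Type u} [Field K]

include hD in
theorem xG_disj {r s : ℕ} (hr : r < D.nroots) (hs : s < D.nroots) (hrs : s ≠ r) {a b : K}
    (h : xG hD r a = xG hD s b) : a = 0 := by
  have h1 := congrArg (fun g : GL D.Idx K => (g : Matrix D.Idx D.Idx K) (Sum.inr ⟨r, hr⟩)
    (Sum.inr ⟨D.neg r, neg_lt hD hr⟩)) h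
  simp only [coe_xG] at h1
  rw [x_entry_self hD hr, x_entry_ne hD hr hs hrs] at h1
  exact pow_eq_zero_iff (two_ne_zero) |>.1 (neg_eq_zero.1 h1)

/-- conjugation of the root `SL₂` -/
theorem conj_psi {r : ℕ} (hr : r < D.nroots) {R : Subgroup (GL D.Idx K)} {g : GL D.Idx K}
    (h1 : ∀ a, g * xG hD r a * g⁻¹ ∈ R) (h2 : ∀ a, g * xG hD (D.neg r) a * g⁻¹ ∈ R)
    (A : Matrix.SpecialLinearGroup (Fin 2) K) : g * psi hD K r A * g⁻¹ ∈ R := by
  have h3 : A ∈ (R.comap (MulAut.conj g).toMonoidHom).comap (psi hD K r) := by
    refine (Subgroup.closure_le _).2 ?_ (mem_closure_SL2 A)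
    rintro _ (⟨t, rfl⟩ | ⟨t, rfl⟩)
    · show g * psi hD K r (up t) * g⁻¹ ∈ R
      rw [psi_up hD hr]; exact h1 t
    · show g * psi hD K r (lo t) * g⁻¹ ∈ R
      rw [psi_lo hD hr]; exact h2 t
  exact h3

theorem xG_mem_range {r : ℕ} (hr : r < D.nroots) (t : K) : xG hD r t ∈ (psi hD K r).range :=
  ⟨up t, psi_up hD hr t⟩

theorem xG_neg_mem_range {r : ℕ} (hr : r < D.nroots) (t : K) : xG hD (D.neg r) t ∈ (psi hD K r).range :=
  ⟨lo t, psi_lo hD hr t⟩

theorem psi_mem_group {r : ℕ} (hr : r < D.nroots) (A : Matrix.SpecialLinearGroup (Fin 2) K) :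
    psi hD K r A ∈ D.group K := by
  have h := conj_psi (K := K) hD hr (R := D.group K) (g := 1)
    (fun a => by rw [one_mul, inv_one, mul_one]; exact xG_mem_group hD _ _)
    (fun a => by rw [one_mul, inv_one, mul_one]; exact xG_mem_group hD _ _) A
  rwa [one_mul, inv_one, mul_one] at h

include hD in
theorem neg_neg_eq' {r : ℕ} (hr : r < D.nroots) : D.neg (D.neg r) = r := by
  have h1 := Unitriangular.neg_add (Unitriangular.orderCheck_of_mem hD) hr
  have h2 := Unitriangular.neg_add (Unitriangular.orderCheck_of_mem hD) (neg_lt hD hr)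
  omega

theorem cmm_comm {a b : ℕ} (ha : a < D.nroots) (hb : b < D.nroots) (h : cmm D a b = true) (t u : K) :
    xG hD b u * xG hD a t = xG hD a t * xG hD b u := by
  obtain ⟨l, M, hp⟩ := exists_isType hD
  unfold cmm at h
  simp only [Bool.and_eq_true, bne_iff_ne, ne_eq] at h
  exact KFacts.Mult.Chev.commute_of_empty hp ha hb h.1.1 h.1.2 h.2 t u

/-- `X_b` centralises the root `SL₂` of `a` -/
theorem orth_comm {a b : ℕ} (ha : a < D.nroots) (hb : b < D.nroots) (h : orth D a b = true) (u : K)
    (A : Matrix.SpecialLinearGroup (Fin 2) K) : xG hD b u * psi hD K a A = psi hD K a A * xG hD b u := by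
  unfold orth at h
  rw [Bool.and_eq_true] at h
  have h3 : A ∈ (centralizer {xG hD b u}).comap (psi hD K a) := by
    refine (Subgroup.closure_le _).2 ?_ (mem_closure_SL2 A)
    rintro _ (⟨t, rfl⟩ | ⟨t, rfl⟩)
    · show psi hD K a (up t) ∈ centralizer {xG hD b u}
      rw [psi_up hD ha, mem_centralizer_singleton_iff]
      exact (cmm_comm hD ha hb h.1 t u).symm
    · show psi hD K a (lo t) ∈ centralizer {xG hD b u}
      rw [psi_lo hD ha, mem_centralizer_singleton_iff]
      exact (cmm_comm hD (neg_lt hD ha) hb h.2 t u).symm
  exact (mem_centralizer_singleton_iff.1 (Subgroup.mem_comap.1 h3)).symm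

/-- strongly orthogonal root `SL₂` commute -/
theorem psi_comm {a b : ℕ} (ha : a < D.nroots) (hb : b < D.nroots) (h : orth D a b = true)
    (h' : orth D a (D.neg b) = true) (A B : Matrix.SpecialLinearGroup (Fin 2) K) :
    psi hD K a A * psi hD K b B = psi hD K b B * psi hD K a A := by
  have h3 : B ∈ (centralizer {psi hD K a A}).comap (psi hD K b) := by
    refine (Subgroup.closure_le _).2 ?_ (mem_closure_SL2 B)
    rintro _ (⟨t, rfl⟩ | ⟨t, rfl⟩)
    · show psi hD K b (up t) ∈ centralizer {psi hD K a A}
      rw [psi_up hD hb, mem_centralizer_singleton_iff]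
      exact orth_comm hD ha hb h t A
    · show psi hD K b (lo t) ∈ centralizer {psi hD K a A}
      rw [psi_lo hD hb, mem_centralizer_singleton_iff]
      exact orth_comm hD ha (neg_lt hD hb) h' t A
  exact (mem_centralizer_singleton_iff.1 (Subgroup.mem_comap.1 h3)).symm

theorem neg_one_zpow_eq (h2 : (2 : K) ≠ 0) {n : ℤ} (h : (-1 : K) ^ n = 1) : n % 2 = 0 := by
  rcases Int.even_or_odd n with h1 | h1
  · exact Int.even_iff.1 h1
  · exfalso
    rw [h1.neg_one_zpow] at h
    apply h2
    linear_combination -h

theorem neg_one_zpow_congr (h2 : (2 : K) ≠ 0) {m n : ℤ} (h : (-1 : K) ^ m = (-1 : K) ^ n) : (m - n) % 2 = 0 := by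
  apply neg_one_zpow_eq h2
  rw [zpow_sub₀ (neg_ne_zero.2 one_ne_zero), h, div_self (zpow_ne_zero _ (neg_ne_zero.2 one_ne_zero))]

/-- `ψ_r` is injective if some root has odd pairing with `r` -/
theorem psi_injective (h2 : (2 : K) ≠ 0) (h4 : 4 ≤ Nat.card K) {r s : ℕ} (hr : r < D.nroots)
    (hs : s < D.nroots) (hodd : prC D r s % 2 ≠ 0) : Function.Injective (psi hD K r) := by
  rw [← MonoidHom.ker_eq_bot_iff, eq_bot_iff]
  have hqs := Cfsg.Agent.SignalizersComponents.SLQuasisimple.isQuasisimple_two (F := K) h4
  rcases Cfsg.Agent.SignalizersComponents.Components.quasisimple_normal hqs (psi hD K r).ker inferInstance with h | h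
  · exfalso
    have h1 : up (1 : K) ∈ (psi hD K r).ker := by rw [h]; exact mem_top _
    rw [MonoidHom.mem_ker, psi_up hD hr, ← xG_zero hD r] at h1
    exact one_ne_zero (xG_injective hD hr h1)
  · intro A hA
    rw [Subgroup.mem_bot]
    by_contra hne
    have h1 := eq_hS h2 (sq_of_center (h hA)) hne
    rw [h1, MonoidHom.mem_ker, psi_hS hD hr] at hA
    have h5 := chi_hG hD hr hs (c := (-1 : K)) (neg_ne_zero.2 one_ne_zero)
    rw [hA, chi_one] at h5
    exact hodd (neg_one_zpow_eq h2 h5.symm)

/-! ### the centraliser of `h_r(-1)` -/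

theorem range_conj {R : Subgroup (GL D.Idx K)} {r : ℕ} (hr : r < D.nroots) {g : GL D.Idx K}
    (h1 : ∀ a, g * xG hD r a * g⁻¹ ∈ R) (h2 : ∀ a, g * xG hD (D.neg r) a * g⁻¹ ∈ R) :
    ∀ x ∈ (psi hD K r).range, g * x * g⁻¹ ∈ R := by
  rintro _ ⟨A, rfl⟩
  exact conj_psi hD hr h1 h2 A

theorem tor_norm {r : ℕ} (hr : r < D.nroots) {t : GL D.Idx K} (ht : t ∈ D.diagonalSubgroup K) :
    ∀ x ∈ (psi hD K r).range, t * x * t⁻¹ ∈ (psi hD K r).range := by
  refine range_conj hD hr (fun a => ?_) (fun a => ?_)
  · rw [tor_conj_xG hD ht hr]
    exact xG_mem_range hD hr _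
  · rw [tor_conj_xG hD ht (neg_lt hD hr)]
    exact xG_neg_mem_range hD hr _

theorem even_root_norm {r s : ℕ} (hr : r < D.nroots) (hs : s < D.nroots)
    (h : s = r ∨ s = D.neg r ∨ orth D r s = true) (u : K) :
    ∀ x ∈ (psi hD K r).range, xG hD s u * x * (xG hD s u)⁻¹ ∈ (psi hD K r).range := by
  intro x hx
  rcases h with rfl | rfl | h
  · exact mul_mem (mul_mem (xG_mem_range hD hr u) hx) (inv_mem (xG_mem_range hD hr u))
  · exact mul_mem (mul_mem (xG_neg_mem_range hD hr u) hx) (inv_mem (xG_neg_mem_range hD hr u))
  · obtain ⟨A, rfl⟩ := hx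
    rw [orth_comm hD hr hs h u A, mul_inv_cancel_right]
    exact ⟨A, rfl⟩

theorem gs_norm {r : ℕ} (hr : r < D.nroots) {S : Set ℕ}
    (hS : ∀ s ∈ S, s < D.nroots ∧ (s = r ∨ s = D.neg r ∨ orth D r s = true)) {u : GL D.Idx K}
    (hu : u ∈ GS D K S) : ∀ x ∈ (psi hD K r).range, u * x * u⁻¹ ∈ (psi hD K r).range := by
  have h1 : GS D K S ≤ normalizer ((psi hD K r).range : Set (GL D.Idx K)) := by
    refine sup_le ?_ (iSup₂_le fun s hs => ?_)
    · exact H102.RV.le_normalizer_of fun t ht x hx => tor_norm hD hr ht x hx
    · refine H102.RV.le_normalizer_of fun t ht x hx => ?_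
      obtain ⟨a, rfl⟩ := (mem_rootSubgroup_iff hD s t).1 ht
      exact even_root_norm hD hr (hS s hs).1 (hS s hs).2 a x hx
  exact fun x hx => (mem_normalizer_iff.1 (h1 hu) x).1 hx

theorem tabA_spec {r : ℕ} (h : tabA D r = true) {s : ℕ} (hs : s < D.nroots) (h0 : prC D r s % 2 = 0) :
    s = r ∨ s = D.neg r ∨ orth D r s = true := by
  unfold tabA at h
  have h1 := List.all_eq_true.1 h s (List.mem_range.2 hs)
  simp only [Bool.or_eq_true, bne_iff_ne, ne_eq, beq_iff_eq] at h1
  tauto

theorem tabB_spec {r : ℕ} (h : tabB D r = true) {r' : ℕ} (hr' : r' < D.nroots)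
    (h0 : ∀ j < D.rank, (prC D r' (D.simple j) - prC D r (D.simple j)) % 2 = 0) : r' = r ∨ r' = D.neg r := by
  unfold tabB at h
  have h1 := List.all_eq_true.1 h r' (List.mem_range.2 hr')
  simp only [Bool.or_eq_true, beq_iff_eq, List.any_eq_true, List.mem_range, bne_iff_ne, ne_eq] at h1
  rcases h1 with (h1 | h1) | ⟨j, hj, h1⟩
  · exact Or.inl h1
  · exact Or.inr h1
  · exact absurd (h0 j hj) h1

/-- the elements of `N` centralising `h_r(-1)` fix `± r` -/
theorem perm_of_comm (h2 : (2 : K) ≠ 0) {r : ℕ} (hr : r < D.nroots) (hB : tabB D r = true)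
    (n : ↥(D.monomialSubgroup K)) (hn : (n : GL D.Idx K) * hG hD r (-1 : K) = hG hD r (-1 : K) * (n : GL D.Idx K)) :
    ((permHom hD K n ⟨r, hr⟩ : Fin D.nroots) : ℕ) = r ∨ ((permHom hD K n ⟨r, hr⟩ : Fin D.nroots) : ℕ) = D.neg r := by
  have hm1 : (-1 : K) ≠ 0 := neg_ne_zero.2 one_ne_zero
  have hz := hG_mem hD hr hm1
  refine tabB_spec hB (Fin.is_lt _) fun j hj => ?_
  obtain ⟨s, hs⟩ : ∃ s, s = (permHom hD K n)⁻¹ ⟨D.simple j, simple_lt hD hj⟩ := ⟨_, rfl⟩
  have h1 : permHom hD K n s = ⟨D.simple j, simple_lt hD hj⟩ := by rw [hs]; exact Equiv.apply_symm_apply _ _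
  have h3 := chi_perm hD n hz s
  have e : (n : GL D.Idx K) * hG hD r (-1) * (n : GL D.Idx K)⁻¹ = hG hD r (-1) := by rw [hn, mul_inv_cancel_right]
  rw [e, chi_hG hD hr (Fin.is_lt _) hm1, chi_hG hD hr s.2 hm1] at h3
  have h4 := pr_perm hD n ⟨r, hr⟩ s
  rw [h1] at h3 h4
  have h5 := neg_one_zpow_congr h2 h3
  simp only at h4
  rw [← h4] at h5
  rw [pr_eq, pr_eq] at h5
  simp only at h5
  omega

include hD in
theorem perm_neg (n : ↥(D.monomialSubgroup K)) {r : ℕ} (hr : r < D.nroots) :
    ((permHom hD K n ⟨D.neg r, neg_lt hD hr⟩ : Fin D.nroots) : ℕ) =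
      D.neg ((permHom hD K n ⟨r, hr⟩ : Fin D.nroots) : ℕ) := by
  obtain ⟨l, M, hp⟩ := exists_isType hD
  let cs : CoxeterSystem M M.Group := M.toCoxeterSystem
  obtain ⟨w, hw⟩ := exists_rep hp cs n
  apply vec_inj hp (Fin.is_lt _) (neg_lt hD (Fin.is_lt _))
  rw [vec_neg hp (Fin.is_lt _)]
  have h1 := hw ⟨D.neg r, neg_lt hD hr⟩
  have h2 := hw ⟨r, hr⟩
  simp only at h1 h2
  rw [h1, h2, vec_neg hp hr, map_neg]

theorem mono_norm (h2 : (2 : K) ≠ 0) {r : ℕ} (hr : r < D.nroots) (hB : tabB D r = true) {n : GL D.Idx K}
    (hnN : n ∈ D.monomialSubgroup K) (hn : n * hG hD r (-1) = hG hD r (-1) * n) :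
    ∀ x ∈ (psi hD K r).range, n * x * n⁻¹ ∈ (psi hD K r).range := by
  have h1 := perm_of_comm hD h2 hr hB ⟨n, hnN⟩ hn
  have hneg := neg_lt hD hr
  -- `n` maps `-r` to the negative of the image of `r`
  have key : ∀ s (hs : s < D.nroots), (s = r ∨ s = D.neg r) →
      (((permHom hD K ⟨n, hnN⟩ ⟨s, hs⟩ : Fin D.nroots) : ℕ) = r ∨
        ((permHom hD K ⟨n, hnN⟩ ⟨s, hs⟩ : Fin D.nroots) : ℕ) = D.neg r) := by
    rintro s hs (rfl | rfl)
    · exact h1
    · rw [perm_neg hD _ hr]
      rcases h1 with h | h <;> rw [h]
      · exact Or.inr rfl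
      · exact Or.inl (neg_neg_eq' hD hr)
  refine range_conj hD hr (fun a => ?_) (fun a => ?_)
  · obtain ⟨c, -, hc⟩ := conj_xG hD ⟨n, hnN⟩ ⟨r, hr⟩
    have h3 := hc a
    simp only at h3
    rw [h3]
    rcases key r hr (Or.inl rfl) with h | h <;> rw [h]
    · exact xG_mem_range hD hr _
    · exact xG_neg_mem_range hD hr _
  · obtain ⟨c, -, hc⟩ := conj_xG hD ⟨n, hnN⟩ ⟨D.neg r, hneg⟩
    have h3 := hc a
    simp only at h3
    rw [h3]
    rcases key _ hneg (Or.inr rfl) with h | h <;> rw [h]
    · exact xG_mem_range hD hr _
    · exact xG_neg_mem_range hD hr _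

/-- **`C_G(h_r(-1))` normalises the root `SL₂`.** -/
theorem cent_norm [Finite K] (h2 : (2 : K) ≠ 0) {r : ℕ} (hr : r < D.nroots) (hA : tabA D r = true)
    (hB : tabB D r = true) {g : GL D.Idx K} (hg : g ∈ D.group K) (hgz : g * hG hD r (-1) = hG hD r (-1) * g) :
    ∀ x ∈ (psi hD K r).range, g * x * g⁻¹ ∈ (psi hD K r).range := by
  have hm1 : (-1 : K) ≠ 0 := neg_ne_zero.2 one_ne_zero
  have hz := hG_mem hD hr hm1
  have hZ : zpowers (hG hD r (-1 : K)) ≤ D.diagonalSubgroup K := by rw [zpowers_le]; exact hz
  have hc : g ∈ centralizer (zpowers (hG hD r (-1 : K)) : Set (GL D.Idx K)) := by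
    rw [mem_centralizer_iff]
    intro x hx
    obtain ⟨n, rfl⟩ := mem_zpowers_iff.1 hx
    exact ((show Commute g (hG hD r (-1 : K)) from hgz).zpow_right n).symm
  obtain ⟨u, hu, k, hk, hkc, v, hv, rfl⟩ := cent_form hD hZ hg hc
  have hS : ∀ s ∈ PsiZ D K (zpowers (hG hD r (-1 : K))), s < D.nroots ∧ (s = r ∨ s = D.neg r ∨ orth D r s = true) := by
    intro s hs
    refine ⟨hs.1, tabA_spec hA hs.1 ?_⟩
    have h3 := hs.2 _ (mem_zpowers _)
    rw [chi_hG hD hr hs.1 hm1] at h3
    exact neg_one_zpow_eq h2 h3
  have hkz : k * hG hD r (-1) = hG hD r (-1) * k := (mem_centralizer_iff.1 hkc _ (mem_zpowers _)).symm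
  intro x hx
  have h1 := gs_norm hD hr hS hv x hx
  have h3 := mono_norm hD h2 hr hB hk hkz _ h1
  have h5 := gs_norm hD hr hS hu _ h3
  have e : u * k * v * x * (u * k * v)⁻¹ = u * (k * (v * x * v⁻¹) * k⁻¹) * u⁻¹ := by group
  rw [e]
  exact h5

end Basic

/-! ### the torus -/

section Tor

variable {D : ChevalleyDatum} {l : ℕ} {M : CoxeterMatrix (Fin l)} (hp : IsType D l M) {K : Type u} [Field K]

theorem prod_zpow {ι : Type*} (s : Finset ι) (c : K) (hc : c ≠ 0) (f : ι → ℤ) :
    ∏ i ∈ s, c ^ f i = c ^ ∑ i ∈ s, f i := by
  classical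
  induction s using Finset.induction_on with
  | empty => simp
  | insert a s ha ih => rw [Finset.prod_insert ha, Finset.sum_insert ha, ih, zpow_add₀ hc]

include hp in
/-- the characters on the fundamental roots determine the others -/
theorem chi_vec {t : GL D.Idx K} (ht : t ∈ D.diagonalSubgroup K) {s : ℕ} (hs : s < D.nroots) :
    chi D K t s = ∏ j : Fin l, chi D K t (D.simple j) ^ vec D l s j := by
  obtain ⟨c, hc, e, -⟩ := tor_data hp.inList ht
  have key : ∀ s < D.nroots, chi D K t s = ∏ i ∈ Finset.range D.rank, c i ^ D.cartan i s := by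
    intro s hs
    rw [chi, dif_pos hs, e, Matrix.diagonal_apply_eq, Sum.elim_inr]
  rw [key s hs]
  have h1 : ∀ j : Fin l, chi D K t (D.simple j) ^ vec D l s j =
      ∏ i ∈ Finset.range D.rank, c i ^ (vec D l s j * D.cartan i (D.simple j)) := by
    intro j
    rw [key _ (simple_lt hp.inList (lt_rank hp j)), ← Finset.prod_zpow]
    refine Finset.prod_congr rfl fun i _ => ?_
    rw [← zpow_mul, mul_comm]
  rw [Finset.prod_congr rfl fun j _ => h1 j, Finset.prod_comm]
  refine Finset.prod_congr rfl fun i hi => ?_
  have hi' := Finset.mem_range.1 hi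
  rw [prod_zpow _ _ (hc i hi')]
  congr 1
  rw [cartan_eq_sum hp.checked hi' hs, hp.rank_eq, ← Fin.sum_univ_eq_sum_range
    (fun j => rt D s j * D.cartan i (D.simple j))]
  rfl

include hp in
/-- the elements of the torus are determined by the characters on the fundamental roots -/
theorem tor_ext {t t' : GL D.Idx K} (ht : t ∈ D.diagonalSubgroup K) (ht' : t' ∈ D.diagonalSubgroup K)
    (h : ∀ j : Fin l, chi D K t (D.simple j) = chi D K t' (D.simple j)) : t = t' := by
  apply Units.ext
  rw [coe_tor hp.inList ht, coe_tor hp.inList ht']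
  congr 1
  funext x
  rcases x with i | s
  · rfl
  · rw [Sum.elim_inr, Sum.elim_inr, chi_vec hp ht s.2, chi_vec hp ht' s.2]
    exact Finset.prod_congr rfl fun j _ => by rw [h j]

/-- `Σ` of the pairings with the roots of a list -/
def sumP (D : ChevalleyDatum) (I : List ℕ) (s : ℕ) : ℤ := (I.map fun r => prC D r s).sum

/-- the product of the involutions `h_r(-1)` -/
noncomputable def zP (hD : InList D) (K : Type u) [Field K] (I : List ℕ) : GL D.Idx K :=
  (I.map fun r => hG hD r (-1 : K)).prod

theorem zP_mem (I : List ℕ) (hI : ∀ r ∈ I, r < D.nroots) : zP hp.inList K I ∈ D.diagonalSubgroup K := by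
  refine list_prod_mem fun x hx => ?_
  obtain ⟨r, hr, rfl⟩ := List.mem_map.1 hx
  exact hG_mem hp.inList (hI r hr) (neg_ne_zero.2 one_ne_zero)

theorem chi_zP (I : List ℕ) (hI : ∀ r ∈ I, r < D.nroots) {s : ℕ} (hs : s < D.nroots) :
    chi D K (zP hp.inList K I) s = (-1 : K) ^ sumP D I s := by
  have hm1 : (-1 : K) ≠ 0 := neg_ne_zero.2 one_ne_zero
  induction I with
  | nil =>
    have h1 : zP hp.inList K [] = 1 := rfl
    have h2 : sumP D [] s = 0 := rfl
    rw [h1, chi_one, h2, zpow_zero]
  | cons r I ih =>
    have hr : r < D.nroots := hI r List.mem_cons_self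
    have hI' : ∀ r ∈ I, r < D.nroots := fun a ha => hI a (List.mem_cons_of_mem _ ha)
    have h1 : zP hp.inList K (r :: I) = hG hp.inList r (-1 : K) * zP hp.inList K I := by
      unfold zP; rw [List.map_cons, List.prod_cons]
    have h2 : sumP D (r :: I) s = prC D r s + sumP D I s := by
      unfold sumP; rw [List.map_cons, List.sum_cons]
    rw [h1, chi_mul hp.inList (hG_mem hp.inList hr hm1) (zP_mem hp I hI'), ih hI', chi_hG hp.inList hr hs hm1, h2,
      zpow_add₀ hm1, pr_eq]

theorem neg_one_zpow_of_even {K : Type u} [Field K] {n : ℤ} (h : n % 2 = 0) : (-1 : K) ^ n = 1 :=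
  (Int.even_iff.2 h).neg_one_zpow

/-- relations between the involutions -/
theorem zP_eq_one {I : List ℕ} (hI : ∀ r ∈ I, r < D.nroots) (h : ∀ j : Fin l, sumP D I (D.simple j) % 2 = 0) :
    zP hp.inList K I = 1 := by
  refine tor_ext hp (zP_mem hp I hI) (one_mem _) fun j => ?_
  rw [chi_zP hp I hI (simple_lt hp.inList (lt_rank hp j)), chi_one, neg_one_zpow_of_even (h j)]

theorem zP_ne_one (h2 : (2 : K) ≠ 0) {I : List ℕ} (hI : ∀ r ∈ I, r < D.nroots) {j : Fin l}
    (h : sumP D I (D.simple j) % 2 ≠ 0) : zP hp.inList K I ≠ 1 := by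
  intro h1
  have h3 := chi_zP (K := K) hp I hI (simple_lt hp.inList (lt_rank hp j))
  rw [h1, chi_one] at h3
  exact h (neg_one_zpow_eq h2 h3.symm)

/-! ### the involutions centralising a frame -/

/-- every root has a nonzero pairing with some root of the list -/
def tabC (D : ChevalleyDatum) (F : List ℕ) : Bool :=
  (List.range D.nroots).all fun s => F.any fun r => (prC D r s != 0) && decide (prC D r s ≤ 3) && decide (-3 ≤ prC D r s)

theorem tabC_spec {F : List ℕ} (h : tabC D F = true) {s : ℕ} (hs : s < D.nroots) :
    ∃ r ∈ F, prC D r s ≠ 0 ∧ prC D r s ≤ 3 ∧ -3 ≤ prC D r s := by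
  unfold tabC at h
  have h1 := List.all_eq_true.1 h s (List.mem_range.2 hs)
  simp only [List.any_eq_true, Bool.and_eq_true, bne_iff_ne, ne_eq, decide_eq_true_iff] at h1
  obtain ⟨r, hr, ⟨h3, h4⟩, h5⟩ := h1
  exact ⟨r, hr, h3, h4, h5⟩

/-- a field element of large order -/
theorem exists_big {E : Type w} [Field E] [Finite E] (h5 : 5 ≤ Nat.card E) : ∃ c : E, c ≠ 0 ∧ ∀ n : ℤ, n ≠ 0 → n ≤ 3 →
    -3 ≤ n → c ^ n ≠ 1 := by
  obtain ⟨g, hg⟩ := IsCyclic.exists_generator (α := Eˣ)
  have h1 : orderOf g = Nat.card E - 1 := by
    rw [orderOf_eq_card_of_forall_mem_zpowers hg, Nat.card_units]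
  refine ⟨g, g.ne_zero, fun n hn h3 h3' h => ?_⟩
  have h6 : g ^ n = 1 := by
    apply Units.ext
    rw [Units.val_zpow_eq_zpow_val, h, Units.val_one]
  have h7 := orderOf_dvd_iff_zpow_eq_one.2 h6
  rw [h1] at h7
  have h8 := Int.le_of_dvd (b := |n|) (abs_pos.2 hn) ((dvd_abs _ _).2 h7)
  have h9 : |n| ≤ 3 := abs_le.2 ⟨h3', h3⟩
  omega

/-- parities: every homomorphism to `± 1` trivial on the roots of the list is a product of the `h_r(-1)` -/
def TabE (D : ChevalleyDatum) (l : ℕ) (F : List ℕ) (Sub : List (List ℕ)) : Prop :=
  ∀ a : Fin l → Bool, (∀ r ∈ F, (∑ j, if a j then vec D l r j else 0) % 2 = 0) →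
    ∃ I ∈ Sub, ∀ j : Fin l, ((if a j then 1 else 0) - sumP D I (D.simple j)) % 2 = 0

theorem perm_fix (hD : InList D) {r : ℕ} (hr : r < D.nroots) {t : GL D.Idx K} (htN : t ∈ D.monomialSubgroup K)
    (ht : t * xG hD r (1 : K) = xG hD r 1 * t) : permHom hD K ⟨t, htN⟩ ⟨r, hr⟩ = ⟨r, hr⟩ := by
  obtain ⟨c, hc0, hc⟩ := conj_xG hD ⟨t, htN⟩ ⟨r, hr⟩
  have h1 := hc 1
  simp only at h1
  rw [ht, mul_inv_cancel_right] at h1
  by_contra hne
  have h3 : ((permHom hD K ⟨t, htN⟩ ⟨r, hr⟩ : Fin D.nroots) : ℕ) ≠ r := fun h => hne (Fin.ext h)
  exact one_ne_zero (xG_disj hD hr (Fin.is_lt _) h3 h1)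

theorem inv_form [Finite K] (h2 : (2 : K) ≠ 0) {E : Subfield K} (h5 : 5 ≤ Nat.card E) {F : List ℕ}
    (hF : ∀ r ∈ F, r < D.nroots) (hC : tabC D F = true)
    (hfix : ∀ n : ↥(D.monomialSubgroup K), (∀ r (hr : r ∈ F), permHom hp.inList K n ⟨r, hF r hr⟩ = ⟨r, hF r hr⟩) →
      permHom hp.inList K n = 1) {Sub : List (List ℕ)} (hSub : ∀ I ∈ Sub, ∀ r ∈ I, r < D.nroots)
    (hE : TabE D l F Sub) {t : GL D.Idx K} (htG : t ∈ D.group K) (htt : t * t = 1)
    (hx : ∀ r ∈ F, t * xG hp.inList r (1 : K) = xG hp.inList r 1 * t)
    (hh : ∀ r ∈ F, ∀ c ∈ E, c ≠ 0 → t * hG hp.inList r c = hG hp.inList r c * t) :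
    ∃ I ∈ Sub, t = zP hp.inList K I := by
  have hD := hp.inList
  let Z : Subgroup (GL D.Idx K) := closure {x | ∃ r ∈ F, ∃ c ∈ E, c ≠ 0 ∧ x = hG hD r c}
  have hZ : Z ≤ D.diagonalSubgroup K := by
    rw [closure_le]
    rintro _ ⟨r, hr, c, -, hc, rfl⟩
    exact hG_mem hD (hF r hr) hc
  have hcen : t ∈ centralizer (Z : Set (GL D.Idx K)) := by
    rw [mem_centralizer_iff]
    intro x hxZ
    have h1 : Z ≤ centralizer {t} := by
      rw [closure_le]
      rintro _ ⟨r, hr, c, hcE, hc, rfl⟩
      rw [SetLike.mem_coe, mem_centralizer_singleton_iff]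
      exact (hh r hr c hcE hc).symm
    exact mem_centralizer_singleton_iff.1 (h1 hxZ)
  have hPsi : PsiZ D K Z = ∅ := by
    rw [Set.eq_empty_iff_forall_notMem]
    intro s hs
    obtain ⟨r, hr, h0, h3, h3'⟩ := tabC_spec hC hs.1
    obtain ⟨c, hc0, hc⟩ := exists_big h5
    have hcK : (c : K) ≠ 0 := fun h => hc0 (Subtype.ext h)
    have h6 := hs.2 _ (subset_closure ⟨r, hr, c, c.2, hcK, rfl⟩)
    rw [chi_hG hD (hF r hr) hs.1 hcK] at h6
    refine hc (prC D r s) h0 h3 h3' (Subtype.ext ?_)
    rw [← pr_eq]
    push_cast
    exact h6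
  have hGS : GS D K (PsiZ D K Z) ≤ D.diagonalSubgroup K := by
    rw [hPsi]
    refine sup_le le_rfl (iSup₂_le fun r hr => absurd hr (Set.notMem_empty r))
  obtain ⟨u, hu, k, hk, -, v, hv, e⟩ := cent_form hD hZ htG hcen
  have htN : t ∈ D.monomialSubgroup K := by
    rw [e]
    exact mul_mem (mul_mem (diagonal_le_monomial D K (hGS hu)) hk) (diagonal_le_monomial D K (hGS hv))
  have hperm := hfix ⟨t, htN⟩ fun r hr => perm_fix hD (hF r hr) htN (hx r hr)
  have htT : t ∈ D.diagonalSubgroup K := by
    have h1 : (⟨t, htN⟩ : ↥(D.monomialSubgroup K)) ∈ (permHom hD K).ker := hperm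
    rw [ker_permHom hD K] at h1
    exact h1
  have hchiF : ∀ r ∈ F, chi D K t r = 1 := by
    intro r hr
    have h1 := tor_conj_xG hD htT (hF r hr) 1
    rw [hx r hr, mul_inv_cancel_right] at h1
    have h3 := xG_injective hD (hF r hr) h1
    rw [mul_one] at h3
    exact h3.symm
  have hsq : ∀ j : Fin l, chi D K t (D.simple j) = 1 ∨ chi D K t (D.simple j) = -1 := by
    intro j
    have h1 := chi_mul hD htT htT (D.simple j)
    rw [htt, chi_one] at h1
    exact mul_self_eq_one_iff.1 h1.symm
  classical
  let a : Fin l → Bool := fun j => decide (chi D K t (D.simple j) = -1)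
  have ha : ∀ j : Fin l, chi D K t (D.simple j) = (-1 : K) ^ (if a j then (1 : ℤ) else 0) := by
    intro j
    by_cases h : chi D K t (D.simple j) = -1
    · have h1 : a j = true := decide_eq_true h
      rw [h1, h]
      simp
    · have h1 : a j = false := decide_eq_false h
      rw [h1, (hsq j).resolve_right h]
      simp
  have hm1 : (-1 : K) ≠ 0 := neg_ne_zero.2 one_ne_zero
  obtain ⟨I, hI, hIa⟩ := hE a (by
    intro r hr
    have h1 := hchiF r hr
    rw [chi_vec hp htT (hF r hr)] at h1
    have h3 : ∀ j : Fin l, chi D K t (D.simple j) ^ vec D l r j = (-1 : K) ^ (if a j then vec D l r j else 0) := by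
      intro j
      rw [ha j, ← zpow_mul]
      congr 1
      split_ifs <;> simp
    rw [Finset.prod_congr rfl fun j _ => h3 j, prod_zpow _ _ hm1] at h1
    exact neg_one_zpow_eq h2 h1)
  refine ⟨I, hI, tor_ext hp htT (zP_mem hp I (hSub I hI)) fun j => ?_⟩
  rw [chi_zP hp I (hSub I hI) (simple_lt hD (lt_rank hp j)), ha j]
  have h1 := neg_one_zpow_of_even (K := K) (hIa j)
  rw [zpow_sub₀ hm1] at h1
  exact (div_eq_one_iff_eq (zpow_ne_zero _ hm1)).1 h1

/-! ### the fixator in the Weyl group, full rank -/

/-- the list spans -/
def TabR (D : ChevalleyDatum) (l : ℕ) (F : List ℕ) : Prop :=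
  ∀ j : Fin l, (2 : ℤ) • vec D l (D.simple j) = (F.map fun r => prC D r (D.simple j) • vec D l r).sum

theorem fix_of_tabR [Finite K] {F : List ℕ} (hF : ∀ r ∈ F, r < D.nroots) (hR : TabR D l F)
    (n : ↥(D.monomialSubgroup K)) (hn : ∀ r (hr : r ∈ F), permHom hp.inList K n ⟨r, hF r hr⟩ = ⟨r, hF r hr⟩) :
    permHom hp.inList K n = 1 := by
  let cs : CoxeterSystem M M.Group := M.toCoxeterSystem
  obtain ⟨w, hw⟩ := exists_rep hp cs n
  have h1 : ∀ r ∈ F, rep cs hp.isCartan w (vec D l r) = vec D l r := by
    intro r hr
    have h3 := hw ⟨r, hF r hr⟩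
    rw [hn r hr] at h3
    exact h3.symm
  have h3 : ∀ (L : List ℕ), (∀ r ∈ L, r ∈ F) → ∀ c : ℕ → ℤ,
      rep cs hp.isCartan w ((L.map fun r => c r • vec D l r).sum) = (L.map fun r => c r • vec D l r).sum := by
    intro L
    induction L with
    | nil => intro _ c; simp
    | cons r L ih =>
      intro hL c
      rw [List.map_cons, List.sum_cons, map_add, map_zsmul, h1 r (hL r List.mem_cons_self),
        ih (fun a ha => hL a (List.mem_cons_of_mem _ ha)) c]
  have h5 : ∀ j : Fin l, rep cs hp.isCartan w (sr j) = sr j := by
    intro j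
    have h6 := h3 F (fun _ h => h) (fun r => prC D r (D.simple j))
    rw [← hR j, vec_simple hp, map_zsmul] at h6
    exact smul_right_injective _ (two_ne_zero : (2 : ℤ) ≠ 0) h6
  have h6 : w = 1 := eq_one_of_fix cs hp.isCartan w h5
  apply Equiv.ext
  intro r
  apply Fin.ext
  refine vec_inj hp (Fin.is_lt _) r.2 ?_
  rw [hw r, h6, map_one]
  rfl

end Tor

end Cfsg.Agent.H808.RV

private theorem dce_5a7cd9dcffe9 : _root_.True := by
  try have : _root_.True := by simp only [_root_.Cfsg.Agent.ChevalleyStructure.NPerm.permHom.congr_simp]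
  exact _root_.True.intro
end

-- part: H808/RV/FTab
section
set_option linter.all false
open scoped Cfsg.Agent.FastGrp

/-!
# Frames of fundamental subgroups: the tables of `F₄`, `E₆`, `E₇`, `E₈` (helper808, TEAM RV, frame data)
-/

set_option autoImplicit false
set_option linter.unusedSectionVars false

namespace Cfsg.Agent.H808.RV

open Subgroup Cfsg Cfsg.Lie Cfsg.Lie.ChevalleyDatum Cfsg.Agent.ChevalleyStructure
  Cfsg.Agent.ChevalleyStructure.Elts Cfsg.Agent.ChevalleyStructure.NPerm Cfsg.Agent.ChevalleyStructure.CoxeterGeom
  Cfsg.Agent.ChevalleyStructure.CoxeterGeomTypes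
  Cfsg.Agent.ChevalleyStructure.RootVec
  Cfsg.Agent.Nodes.RGDChev Cfsg.Agent.H412.OT Cfsg.Agent.H3.OT Cfsg.Agent.Nodes.Reps
  Cfsg.Agent.Tits.Roots Cfsg.Agent.Tits.Core

universe u v w

/-! ### the chain tables of `E₆`, `E₇`, `E₈` as bit masks (for the kernel computations) -/

namespace Fst

/-- the roots with an entry in a row of the chain table -/
noncomputable def msk (l : List (ℕ × Array (ℕ × ℤ))) : ℕ :=
  List.rec (motive := fun _ => ℕ) 0 (fun e _ a => Nat.lor (Nat.pow 2 e.1) a) l

/-- all chains of the row have length one -/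
noncomputable def one (l : List (ℕ × Array (ℕ × ℤ))) : Bool :=
  List.rec (motive := fun _ => Bool) true (fun e _ a => and (Nat.beq e.2.toList.length 1) a) l

/-- `T` is the table of the masks of the rows -/
noncomputable def rows (n : ℕ) (L : List (Array (ℕ × Array (ℕ × ℤ)))) : ℕ → Bool :=
  List.rec (motive := fun _ => ℕ → Bool) (fun T => Nat.beq T 0)
    (fun row _ ih T => and (one row.toList) (and (Nat.beq (msk row.toList) (Nat.mod T (Nat.pow 2 n)))
      (ih (Nat.shiftRight T n)))) L

/-- the bit `(r, s)` of the table -/
def bt (n T r s : ℕ) : Bool :=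
  Nat.beq (Nat.land 1 (Nat.shiftRight (Nat.mod (Nat.shiftRight T (Nat.mul n r)) (Nat.pow 2 n)) s)) 1

theorem bt_eq (n T r s : ℕ) : bt n T r s = ((T >>> (n * r)) % 2 ^ n).testBit s := by
  show Nat.beq (1 &&& (((T >>> (n * r)) % 2 ^ n) >>> s)) 1 = (1 &&& (((T >>> (n * r)) % 2 ^ n) >>> s) != 0)
  generalize ((T >>> (n * r)) % 2 ^ n) >>> s = x
  rw [Nat.one_and_eq_mod_two]
  rcases Nat.mod_two_eq_zero_or_one x with h | h <;> rw [h] <;> rfl

theorem msk_bit (l : List (ℕ × Array (ℕ × ℤ))) (s : ℕ) : (msk l).testBit s = (l.find? fun e => e.1 = s).isSome := by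
  induction l with
  | nil => exact Nat.zero_testBit s
  | cons e l ih =>
    show (2 ^ e.1 ||| msk l).testBit s = _
    rw [Nat.testBit_or, ih, Nat.testBit_two_pow, List.find?_cons]
    cases decide (e.1 = s) <;> rfl

theorem one_spec {l : List (ℕ × Array (ℕ × ℤ))} (h : one l = true) : ∀ e ∈ l, e.2.toList.length = 1 := by
  induction l with
  | nil => exact fun e he => absurd he List.not_mem_nil
  | cons a l ih =>
    have h' : (Nat.beq a.2.toList.length 1 && one l) = true := h
    rw [Bool.and_eq_true] at h'
    intro e he
    rcases List.mem_cons.1 he with rfl | he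
    · exact Nat.eq_of_beq_eq_true h'.1
    · exact ih h'.2 e he

theorem rows_spec {n : ℕ} {L : List (Array (ℕ × Array (ℕ × ℤ)))} {T : ℕ} (h : rows n L T = true) (r : ℕ) :
    one (L[r]?.getD #[]).toList = true ∧ msk (L[r]?.getD #[]).toList = (T >>> (n * r)) % 2 ^ n := by
  induction L generalizing T r with
  | nil =>
    have h' : T = 0 := Nat.eq_of_beq_eq_true h
    rw [h', Nat.zero_shiftRight, Nat.zero_mod]
    exact ⟨rfl, rfl⟩
  | cons a L ih =>
    have h' : (one a.toList && (Nat.beq (msk a.toList) (T % 2 ^ n) && rows n L (T >>> n))) = true := h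
    rw [Bool.and_eq_true, Bool.and_eq_true] at h'
    cases r with
    | zero => exact ⟨h'.1, Nat.eq_of_beq_eq_true h'.2.1⟩
    | succ r =>
      have h1 := ih h'.2.2 r
      rw [← Nat.shiftRight_add, Nat.add_comm n, ← Nat.mul_succ] at h1
      exact h1

/-- the table `T` and the opposite roots are correct -/
noncomputable def ok (D : ChevalleyDatum) (n T : ℕ) : Bool :=
  and (rows n D.chain.toList T) (decide (D.negIdx.toList = (List.range n).map fun r => n - 1 - r))

variable {D : ChevalleyDatum} {n T : ℕ}

theorem neg_eq (h : ok D n T = true) : D.neg = fun r => Nat.sub (Nat.sub n 1) r := by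
  have h1 : D.negIdx.toList = (List.range n).map fun r => n - 1 - r := of_decide_eq_true (Bool.and_eq_true_iff.1 h).2
  funext r
  show D.negIdx.getD r 0 = n - 1 - r
  rw [Array.getD_eq_getD_getElem?, ← Array.getElem?_toList, h1, List.getElem?_map]
  by_cases hr : r < n
  · rw [List.getElem?_range hr]; rfl
  · rw [List.getElem?_eq_none (by rw [List.length_range]; exact Nat.le_of_not_lt hr)]
    show 0 = n - 1 - r
    omega

theorem len_eq (h : ok D n T = true) (r s : ℕ) : (D.chainEntry r s).length = bif bt n T r s then 1 else 0 := by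
  have h1 := rows_spec (Bool.and_eq_true_iff.1 h).1 r
  rw [Array.getElem?_toList, ← Array.getD_eq_getD_getElem?] at h1
  rw [bt_eq, ← h1.2, msk_bit]
  delta ChevalleyDatum.chainEntry
  cases he : (D.chain.getD r #[]).toList.find? (fun e => e.1 = s) with
  | none => rfl
  | some e => exact one_spec h1.1 e (List.mem_of_find?_eq_some he)

/-- the terms of the commutator formula -/
def cmT (D : ChevalleyDatum) (n T r s : ℕ) : List (ℕ × ℤ × ℕ × ℕ) := bif bt n T r s then D.commTerms r s else []

theorem comm_eq (h : ok D n T = true) : D.commTerms = cmT D n T := by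
  funext r s
  delta cmT
  have h1 := len_eq h r s
  have h2 := len_eq h s r
  cases hb : bt n T r s with
  | true => rfl
  | false =>
    rw [hb] at h1
    have h0 : ∀ i, D.chainRoot r s i = none := fun i => by
      delta ChevalleyDatum.chainRoot
      rw [List.getElem?_eq_none (by rw [h1]; exact Nat.zero_le _)]; rfl
    have h3 : ∀ i, D.chainRoot s r (i + 2) = none := fun i => by
      delta ChevalleyDatum.chainRoot
      rw [List.getElem?_eq_none (by rw [h2]; cases bt n T s r <;> exact Nat.le_add_left _ _ |>.trans (Nat.le_refl _))]; rfl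
    delta ChevalleyDatum.commTerms
    simp only [h0, h3 0, h3 1]
    rfl

/-- an integer from four bits -/
def dz (x : ℕ) : ℤ := bif Nat.beq (Nat.land x 1) 1 then Int.negSucc (Nat.shiftRight x 1) else Int.ofNat (Nat.shiftRight x 1)

/-- `t` is the list `l` -/
noncomputable def rowZ (l : List ℤ) : ℕ → Bool :=
  List.rec (motive := fun _ => ℕ → Bool) (fun t => Nat.beq t 0)
    (fun a _ ih t => and (decide (a = dz (Nat.mod t 16))) (ih (Nat.shiftRight t 4))) l

/-- `T` is the table `L`, with rows of `w` bits -/
noncomputable def rowsZ (w : ℕ) (L : List (Array ℤ)) : ℕ → Bool :=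
  List.rec (motive := fun _ => ℕ → Bool) (fun T => Nat.beq T 0)
    (fun a _ ih T => and (rowZ a.toList (Nat.mod T (Nat.pow 2 w))) (ih (Nat.shiftRight T w))) L

/-- an entry of the table -/
def gz (w T i j : ℕ) : ℤ :=
  dz (Nat.mod (Nat.shiftRight (Nat.mod (Nat.shiftRight T (Nat.mul w i)) (Nat.pow 2 w)) (Nat.mul 4 j)) 16)

theorem rowZ_spec {l : List ℤ} {t : ℕ} (h : rowZ l t = true) (j : ℕ) : l[j]?.getD 0 = dz ((t >>> (4 * j)) % 16) := by
  induction l generalizing t j with
  | nil =>
    have h' : t = 0 := Nat.eq_of_beq_eq_true h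
    rw [h', Nat.zero_shiftRight]
    rfl
  | cons a l ih =>
    have h' : (decide (a = dz (t % 16)) && rowZ l (t >>> 4)) = true := h
    rw [Bool.and_eq_true] at h'
    cases j with
    | zero => exact of_decide_eq_true h'.1
    | succ j =>
      have h1 := ih h'.2 j
      rw [← Nat.shiftRight_add, Nat.add_comm 4, ← Nat.mul_succ] at h1
      exact h1

theorem rowsZ_spec {w : ℕ} {L : List (Array ℤ)} {T : ℕ} (h : rowsZ w L T = true) (i : ℕ) :
    rowZ (L[i]?.getD #[]).toList ((T >>> (w * i)) % 2 ^ w) = true := by
  induction L generalizing T i with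
  | nil =>
    have h' : T = 0 := Nat.eq_of_beq_eq_true h
    rw [h', Nat.zero_shiftRight, Nat.zero_mod]
    rfl
  | cons a L ih =>
    have h' : (rowZ a.toList (T % 2 ^ w) && rowsZ w L (T >>> w)) = true := h
    rw [Bool.and_eq_true] at h'
    cases i with
    | zero => exact h'.1
    | succ i =>
      have h1 := ih h'.2 i
      rw [← Nat.shiftRight_add, Nat.add_comm w, ← Nat.mul_succ] at h1
      exact h1

theorem gz_eq {w T : ℕ} {A : Array (Array ℤ)} (h : rowsZ w A.toList T = true) (i j : ℕ) :
    (A.getD i #[]).getD j 0 = gz w T i j := by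
  have h1 := rowZ_spec (rowsZ_spec h i) j
  rw [Array.getElem?_toList, Array.getElem?_toList, ← Array.getD_eq_getD_getElem?, ← Array.getD_eq_getD_getElem?] at h1
  exact h1

/-- the pairing from the tables of the coroots and of the Cartan integers -/
noncomputable def prT (l n C A r s : ℕ) : ℤ :=
  Nat.rec (motive := fun _ => ℤ) (Int.ofNat 0) (fun i a => Int.add a (Int.mul (gz (Nat.mul 4 l) C r i) (gz (Nat.mul 4 n) A i s))) l

/-- the tables are correct -/
noncomputable def okZ (D : ChevalleyDatum) (l n C A : ℕ) : Bool :=
  and (Nat.beq D.rank l) (and (rowsZ (Nat.mul 4 l) D.coroot.toList C) (rowsZ (Nat.mul 4 n) D.cartanSR.toList A))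

theorem prC_eq {l C A : ℕ} (h : okZ D l n C A = true) : prC D = prT l n C A := by
  obtain ⟨h1, h2⟩ := Bool.and_eq_true_iff.1 h
  obtain ⟨h2, h3⟩ := Bool.and_eq_true_iff.1 h2
  funext r s
  have key : ∀ m, ((List.range m).map fun i => (D.coroot.getD r #[]).getD i 0 * D.cartan i s).sum =
      Nat.rec (motive := fun _ => ℤ) (Int.ofNat 0)
        (fun i a => Int.add a (Int.mul (gz (Nat.mul 4 l) C r i) (gz (Nat.mul 4 n) A i s))) m := by
    intro m
    induction m with
    | zero => rfl
    | succ m ih =>
      rw [List.range_succ, List.map_append, List.sum_append, ih, List.map_singleton, List.sum_singleton, gz_eq h2,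
        show D.cartan m s = _ from gz_eq h3 m s]
      rfl
  show ((List.range D.rank).map _).sum = _
  rw [Nat.eq_of_beq_eq_true h1]
  exact key l

/-- the masks of `E6` -/
def tE6 : ℕ :=
  nat_lit 0x3ff07fe0000004001dc0738fd00000080862c195b3b0000010128342a6d5700000202503834768f0000040c06c0c19bc700000814294142adab00001024518184b673000020198a0248ce6d0000402a940290d5b500008033600320e3d900002dc00a4400f16e000056c0148800eab600009b40611000dcda0000e383802000bf1c0000fc3c0000007fe00027000006ccde0027004b000029556d004b009300005199b30093010d00018a2673010d02150002942aad02150419000360331e0419080e001c0a438b01611016002c14835502a1201a00346102e604c1401c003b8001f80701016101c00a780b080e02a102c014b415101604c10340612c26201a07010383801c38401c08620c440b8443086210a2144415488510a220c2184460d10620c2092424888c444909241224448892889112240948291122444a09481290522244889412902448891149112224482490922231112424904304608b06221843044508a112a8222845084610c221d02230461038021c3801c1c080e0580464348602c083206808a82d28034085407010d01e500380868080e01f8001dc00380283206740862c0058048540aac128340068088680d1c25038007010982078cc06c0009820a840b554294000a840b080ce64518000b080c900cd998a0000c900d200b6aa940000d200e4007b33600000e40007fe0000003c3f000038fd000401c1c700005b3b00088602d900006d57001128036a0000768f00225003b400009bc704c006cc010000adab09402954020000b67312405198040000ce6d21818a24080000d5b542829428100000e3d983036030200000f16e2c1c0a40400000eab6542c1480800000dcda98346101000000bf1ce03b80020000007fe0ffc00000000000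

theorem okE6 : ok chevE6 72 tE6 = true := by decide +kernel

/-- the masks of `E7` -/
def tE7 : ℕ :=
  nat_lit 0x7fffffff8000000020000000001f07fe0001fffd00000001000008000781e1f801f81fec0000000800004200e00bb8e038e38f70000000400002110c00376c816cb25bc0000002000010894000eed406d5525f000000100000844a0003dda01da690fc00000080008c0000ee7000e380e3f0f0000004000450010c5ac00c960cb3a5c00000200022400941ad0054685555a7000001000111004a073801a1c1a68f1c000008000818060361301829982f19b00000400040a028528540a12aa15aaac0000200020481228c160308b3099ccb00001000100c03314064124332466ccc000080008050154a01a0520d5216d53000040004018066c007019039903d98c000200000980e003660180319bc099d0001000004a058052a80a014ab684ab40008000024826028cc03009336624cd0004000010c068314481204533990cd4002000008502a14a1405021555a8555001000004180c86c0601810598f41994008000005801ce0520088818f165839004000002a00b582900244065aaaa1640200000130035a30800a201a5cd3069010000007000e770000310070fc701c4080000005bbc00052210001f0965b81040000002b77000291080007a4aab6042000000136ec00308840001da4d36811000000071dd007004200006f1c71c04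80000001f8781e0001000017f81f801400000007fe0f80000000003fff800040002099e0000000366319bc0002099e000104ab800000052a94ab6800104ab8000824ce00000028cc63366000824ce000410cd8000003144a5339800410cd8002085560000014a14a555a00208556001041998000006c063198f0010419980080583a00000e052118f160080583a00402a1680000582904a5aa80402a1680201306a00001a30814a5cc0201306a0100701c8000077000630fc0100701c80096003c0001e005220f0960096003c004a80170000b8029103a4a804a80170024c006c00036030880da4c024c006c011c001d0000e8700402f1c011c001d0078000780003de000007f8007800078020016e0800f000148f8025820016e081000ad82005c000a45d012a1000ad8208004da0801b000c226c09308004da084001c702007401c011704704001c70220007e00801e0780003c1e020007e00808160384038420053c1081608160384040a816101610802968840a840a81610204c068406842030964204c204c0684101c01c101c1087003a101c101c01c100886188818884205c2108860886188804428a220a221082a90844284428a220220c308830884230684220c220c3088022492441244211188842248224924401122891089108449442112211228910022514881488422448842250225148801128a440a442112244211281128a440089144884488422922108910891448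802249244124421118884224822492440110c304430442160c42110c110c304404451422142210954108445044514220111861106110843a04211181118611008380380838085c00e108380838038082160320432042690c042160216032040868150215021169401086808681502021c06810681083ca00421c021c068101007e00040783c0001e07801007e000440e380020e20e8803802e0040e38002105b20010c9036443000d80105b2001041b500085480ba250003a0041b50008107680041a401f128000f001076800401e0001e001fe000007bc0001e0001e00b800388038f40200e170000b800388036003240325b0110c06c000360032400e8015201525c089401d0000e80152003c006900690f044a00780003c0069001380e00803f0c6000ee00001380e0080560c804033a52810c580000560c804016854020155a520941a00001685402005c1a010068f1884a07000005c1a0100199820800f198c6036000001998208006aa104005aaa528528000006aa104001b30820019cca5228c000001b30820007324100066cc63314000000732410001d52080016d52954a0000001d5208000799040003d98c66c00000007990400020001fffc0000000001f07fe00000002801f81fe800008000781e1f800000012038e38f600004200e00bb8e00000008816cb25b80002110c00376c80000004206d5525e00010894000eed40000002081da690f8000844a0003dda00000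0102380e3f0e008c0000ee7000e00000080960cb3a580450010c5ac00c800000402685555a6022400941ad0054000002009c1a68f18111004a073801a0000010029982f19a08180603613018200000800aaa15aaa840a028528540a1000004002b3099cca20481228c16030800002000b32466cc900c03314064124000010002d5216d528050154a01a052000008000b9903d98c018066c007019000004000319bc099c0980e003660180200020000cab684ab04a058052a80a01000100003336624cc24826028cc0300800080000d33990cd10c068314481204000400003555a85548502a14a140502000200000d98f41994180c86c06018100010000038f1658385801ce05200888000800000e5aaaa162a00b5829002440004000003a5cd306930035a30800a20002000000f0fc701c7000e7700003100010000003f0965b805bbc0005221000008000000fa4aab602b7700029108000040000003da4d368136ec0030884000020000000ef1c71c071dd007004200001000000037f81f801f8781e00010000080000000bfff80007fe0f8000000000400000001fffffffe00000000000000000000000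

theorem okE7 : ok chevE7 126 tE7 = true := by decide +kernel

/-- the masks of `E8` -/
def tE8 : ℕ :=
  nat_lit 0xa442082112c0844b12cb72ddefdffe00000000000000000000000000000148841042254108952555b56ef7effd000000000000000000000000000006110820844982112649a6d9b77bf7fb000000000000000000000000000038021041088e0422388e38ee3bbdfbf70000000000000000000000000003c000208210f00843c0f03f0fc3defdef000000000000000000000000007c000001041f00107c00ffc00ffc1f7edf0000000000000000000000001f8000000007e000207fff00000fffe07f3f000000000000000000000007e000000001f800001f8000fffff0001fbf3f0000000000000000000000f8208000003e0000002f83ff003ff003e0bedf000000000000000000000f0841040003c000000037bc3f0fc0f03c213def0000000000000000000071108208401c000000003bddc771c711c4423bf700000000000000000001922104108860000000003deed9b65926488437fb00000000000000000002a44208211280000000003ef76adaaa4a91082ffd00000000000000000003488410422500000000003f7bb4ed348d22101ffe000000000000000001fc0000000000000007ffffc0000000000fffff807f00000000000000003e0c0000200000003ef800ffc00000003ff003ff419f0000000000000003c214000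040040003c1780f0fc000000fc0f03c3ec2af000000000000001c442400008008401c01b81771c0000071c711c45dc4b70000000000000064884400010010886001d81bb6400000b65926489bc8bb00000000000000a9108400020021128001e81dda800000daaa4a9117d0bd00000000000000d2210400040042250001f01eed000000ed348d220fe0be0000000000000f000218000801800003de01e00fc0003f0000f03fc1c34f0000000000007100042800100280401c2e02e071c001c7000711c7a2c55700000000000192000848002004808860360360b64002d90019264b64c95b000000000002a40010880040088112803a03a0da80036a002a4a92e8d15d000000000003480021080080108225003c03c0ed0003b400348d21f0e15e00000000001c010040300100030c001dc004e701c01c0701c011f863466700000000006402008050020005140862c0056b06402c1906402674a54a6b0000000000a8040100900400092412834005ad0a80342a0a804aad29526d0000000000d0080201100800114425038005ce0d0038340d008d1e31626e0000000003041004006010000618c06c00067330404cc13041078cc64c73000000000508200800a020000a2942940006b55080554250820b554a5475000000000610401001204000124a45180006d66100598461040ce6526476000000000920802000c080000c3198a00007399200664892080cd98c5879000000000a41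0040014100001452a94000075aa4006a90a4100b6a94687a000000000c820080018200001863360000079cc8007320c82007b318707c000000007000010046000118e000001dce380001c3800701c7e00463878700000001900002008a00022960000862d65800064580190659d008a58b8b00000002a00004011200044a600012835a68000a86802a0aaab01129938d00000003400008022200088c600025039c70000d0700340d34702231a38e0000000c100010040c001031a000c06c269800304980c1305e3040c68d93000000142000200814002052a00142942aa800508a814250ad50814a9595000000184000401024004094a00245182cb000610b01846133910252a596000000248000802018008063200198a032c800920c8248923362018c99990000002900010040280100a52002a94034d000a40d0290a42da40294a99a0000003200020080300200c62003360038e000c80e0320c81ec80318b19c000000c010040004c0001301c01c006cc1180300518c013781304c070ea3000001402008000940002502c02c0295412805009294025b4250940b16a5000001804010001240004904c04c0519813006011318046cc491241326a6000002408020002180008603403418a24148090214a4089cc862180d1aa9000002810040004280010a054054294281500a04152810ab50a428152aaa000003020080008300020c064064360301600c08163020c7a0c8301932ac0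00004440100002c0000b0038039c0a40188111018c440e2cb02c00e1cb1000004880200005400015005805ac14801901220194880d5550540162cb2000005100400009800026006806b461001a014401a5100b9a609801a34b400000620080000e0000380070073b80001c018801c62007e380e001c38b80000180010041300000013380780006cc6006000618cde0041304ce00f430000280020082500000025580b8002954a00a000a2956d00825095601745000030004010490000004998138005198c00c0012319b3010491266027460000480080208600000086680d8018a25201200224a67302086219a01b490000500100410a0000010aa81580294294014004252aad0410a42aa02b4a0000600200820c0000020cc8198036031801800826331e0820c83320334c000088040100b0000000b0700e81c0a42202201028c78b100b02c1c01d510000900802015000000150b01682c14824024020294b5520150542c02d520000a01004026000000260d01a834610280280402a52e6402609834035540000c02008038000000380e01c83b800300300802c61f880380e0380395800010840012c00000000b7000f3c00a44004210030f84b12c002dc001e61000110800254000000015b00175c0148800442003174952540056c002e62000121000498000000026d001b6c061100048400326d26498009b40036640001420008e0000000038e001d74380200050800345e388e00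0e38003a68000184000f0000000003f0001e7bc00000061000383fc0f0000fc0003c7000020844b00000000000b77be00000a4420800003f044b12cb7000001f81000210895000000000015bbde0000148841000003e88952555b000002f82000221126000000000026ddee0000611082000003d912649a6d000003784000242238000000000038eef60003802104000003ba2388e38e000003b880002843c000000000003f0f7a003c0002080000037c3c0f03f0000003d90000307c0000000000003ff07c07c0000010000002ffc00ffc00000003ea00003f800000000000003fff81f800000000000001fffff00000000003f40000c000010041304ce7c00000000006cc61863378000010041304ce7c003001400002008250956bc0000000002954a28a55b400002008250956bc0050018000040104912673c0000000005198c30c66cc000040104912673c00600240000802086219adc0000000018a25249299cc0000802086219adc0090028000100410a42ab5c00000000294294514aab4000100410a42ab5c00a0030000200820c83339c00000000360318618cc78000200820c83339c00c004400040100b02c1cec00000001c0a4228a31e2c00040100b02c1cec01100480008020150542d6c00000002c148249252d540008020150542d6c012005000100402609835ac00000003461028a294b9800100402609835ac01400600020080380e039cc00000003b80030c3187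e00020080380e039cc01800840040012c002dc0f40000003c00a4410c3e12c0040012c002dc0f40210088008002540056c1740000005c014881145d254008002540056c174022009001000498009b41b40000006c061101249b49801000498009b41b402400a0020008e000e381d40000007438020145178e0020008e000e381d402800c004000f0000fc01e40000007bc00001860ff0004000f0000fc01e403001040800012cb70000f800000f8000a44207c112c0044b000002dde040410108100002555b0001780000178001488407a2254008950000056ee0404201102000049a6d0001b800001b80061108076449801126000009b76040440120400008e38e0001d800001d8038021006e88e00223800000e3ba04048014080000f03f00001e800001e83c0002005f0f00043c000000fc3c04050018100000ffc000001f000001f7c00000003ff00007c0000000ffc00406002040044b000002dde040003e00000a443f00112c0800012cb70000f80810208008950000056ee040005e000014885e802254100002555b000178082021001126000009b76040006e000061109d8044982000049a6d0001b808402200223800000e3ba0400076000380211b8088e0400008e38e0001d80880240043c000000fc3c040007a003c000217810f0080000f03f00001e8090028007c0000000ffc0040007c07c000000f81f00100000ffc000001f00a004040804b000b7001e0800782080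00a47c082012c0804b000b7001e081010408100950015b002e0800b820800148ba1040254100950015b002e081020410201260026d00360800d820800611362080498201260026d0036081040420402380038e003a0800e8208038022e41008e0402380038e003a081080440803c0003f0003c0800f02083c0001e8200f00803c0003f0003c0811008040840b02c0701c2100708410400a782082102c0840b02c0701c2102010808108150540b02c2100b084104014b441042054108150540b02c2102020810210260980d0342100d0841040612c82084098210260980d0342102040820420380e00e0382100e0841043801d041080e0420380e00e03821020810040844310c310c44203110820840b842082110c0844310c310c44204011008108852145114442051108208415484104221410885214511444204021010211064186118442061108208460d0820844182110641861184420404200408449124922488409221041088c4420821124084491249224884080120081089124512448841122104108928841042244108912451244884080240040844a128a4291080a442082112244208211280844a128a429108100180081089425148522101488410422448841042250108942514852210200240102112248a248910822442082114910820844882112248a2489108100480102112449248922102488410422311082084490211244924892210200420204221886182608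84182210410b06210410886042218861826088408084020422288a284a11082844208212a821041088a0422288a284a110810088020422308c308c22103088410421d021041088c0422308c308c221020081040841c0700701c04207010820b801c208210700841c0700701c04204102040842c0b0190640841902104134860208210b00842c0b0190640840810404084340d02a0a81082a0420822d280208210d0084340d02a0a81081010804084380e0340d0210340841041e500208210e0084380e0340d02102010088103c000fc0003c0100f0041780003c1040f00103c000fc0003c010220108105c0071c001c402071008274401c01041700105c0071c001c4020420208106c00b64006480419201046c886001041b00106c00b6400648040820408107400da800a90082a402085d128001041d00107400da800a90081020808107800ed000d201034804103e250001041e00107800ed000d201020200500f8000003ff00000800f81f0000003e03e0002003ff00000003e001400901780000fc0f0000100f081e840003c005e000203c3f0000003c2002401101b800071c7100002071101d88401c0006e000205dc7000001c44004402101d8000b659200004192201b90886000076000206ed9000006488008404101e8000daaa4000082a44017a112800007a00020776a00000a910010408101f0000ed34800010348800fc225000007c000207bb400000d22002040060200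3ff00000003e0000ffc00000003ef800000f8000003ff0000081800a0203c3f0000003c2000f0fa0040003c17800001780000fc0f000010280120205dc7000001c440071176008401c01b800001b800071c71000020480220206ed9000006488019226e010886001d800001d8000b659200004088042020776a00000a91002a445e021128001e800001e8000daaa4000081080820207bb400000d220034883e042250001f000001f0000ed3480001020800c027803f0000f0002000ff061800003de00000027803f0000f0002003001402b81c70007100040071e8a280401c2e0000002b81c7000710004005002402d82d90019200080192d924808860360000002d82d9001920008009004402e836a002a4001002a4ba288112803a0000002e836a002a40010011008402f03b400348002003487c308225003c0000002f03b400348002002100180339c0701c010040007e18c30c001dc0000000339c0701c0100400060028035ac19064020080019d2945140862c000000035ac1906402008000a0048036b42a0a804010002ab4a492412834000000036b42a0a8040100012008803738340d008020003478c51442503800000003738340d00802000220030039ccc130410040001e3318618c06c0000000039ccc130410040000c005003ad54250820080002d5528a294294000000003ad542508200800014009003b5984610401000033994924a4518000000003b5984610401000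024006003ce6489208020000336630c3198a0000000003ce64892080200001800a003d6a90a4100400002daa51452a940000000003d6a90a4100400002800c003e7320c8200800001ecc618633600000000003e7320c820080000300002fc0000000000fffff800000000000001f81fffc00000000000001fc000057c00000003ff003ff40000008000003e03e0ffc0000000000003e0c00009bc000000fc0f03c3ec000001040003c005ef0fc000000000003c21400011dc0000071c711c45dc00000208401c0006f771c00000000001c442400021ec00000b65926489bc00000410886000077bb64000000000064884400041f400000daaa4a9117c0000082112800007bdda80000000000a9108400081f800000ed348d220fc0000104225000007deed00000000000d221040000e3c0003f0000f03fc1c000860000003de78000fc000000000f000218000165c001c7000711c7a2c0010a000401c2eb80071c0000000071000428000266c002d90019264b64c00212000886036d800b64000000019200084800046740036a002a4a92e8c0042200112803ae800da800000002a40010880008678003b400348d21f0c0084200225003cf000ed000000003480021080001a9c01c0701c011f86340100c00c001dc1380701c0000001c010040300002aac02c1906402674a54020140140862c1580b06400000064020080500004ab40342a0a804aad29404024024128341680d0a8000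000a8040100900008ab8038340d008d1e31408044044250381700e0d0000000d00802011000032cc04cc13041078cc6410018018c06c019813304000003041004006000052d40554250820b554a420028029429401a81550800000508200800a000092d80598461040ce65244004804a451801b016610000006104010012000062e40664892080cd98c48003003198a001c81992000000920802000c0000a2e806a90a4100b6a94500050052a94001d01aa4000000a4100400140000c2f007320c82007b318600060063360001e01cc8000000c82008001800001d1c3800701c7e00463801180380001dce00e001c00007000010046000002d2c580190659d008a58022805800862d601600640001900002008a000004d346802a0aaab0112980448098012835a01a00a80002a000040112000008d38700340d3470223180888118025039c01c00d00003400008022200000354c980c1305e3040c6810300680c06c260260304000c100010040c000005554a814250ad50814a820500a8142942a02a050800142000200814000009558b0184613391025284090128245182c02c061000184000401024000006564c8248923362018c880600c8198a03203209200024800080201800000a568d0290a42da40294900a01482a940340340a400029000100402800000c570e0320c81ec80318a00c018833600380380c800032000200803000000398d18c013781304c0701300071c006cc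0046300400c010040004c0000005995294025b4250940b025000b2c02954004a500801402008000940000009999318046cc491241304900134c05198004c6010018040100012400000069a54a4089cc862180d086000d3418a24005290200240802000218000000a9a952810ab50a4281510a001554294280054a0400281004000428000000c9b163020c7a0c8301920c001964360300058c080030200800083000000071c58c440e2cb02c00e0b0000e39c0a400063110004440100002c0000000b1c994880d55505401615000165ac1480006522000488020000540000000d1d1a5100b9a609801a260001a6b46100006944000510040000980000000e1e1c62007e380e001c380001c73b8000007188000620080000e000000003e0e18cde0041304ce001339e000006cc6180000418001004130000000005e162956d00825095600255ae00002954a280000828002008250000000009e1a319b301049126600499ce00005198c300001030004010490000000006e264a67302086219a00866b600018a25248000204800802086000000000ae2a52aad0410a42aa010aad60002942945000040500100410a000000000ce326331e0820c8332020cce60003603186000080600200820c00000000076468c78b100b02c1c00b073a001c0a422880010088040100b0000000000b64a94b5520150542c0150b5a002c1482490002009008020150000000000d652a52e64026098340260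d6a003461028a000400a010040260000000000e662c61f880380e0380380e72003b80030c000800c0200803800000000007a870f84b12c002dc000b703c03c00a44108010010840012c00000000000ba8b174952540056c0015b05c05c01488110020011080025400000000000da9326d26498009b40026d06c06c06110120040012100049800000000000eaa345e388e000e380038e0740743802014008001420008e000000000000f2c383fc0f0000fc0003f007807bc00001801000184000f00000000000007d07f044b12cb7000000b7780f8000a44200200020844b00000000000000bd0be88952555b0000015bb8178001488400400021089500000000000000dd13d912649a6d0000026dd81b8006110800800022112600000000000000ed23ba2388e38e0000038ee81d8038021001000024223800000000000000f5437c3c0f03f0000003f0f01e83c000200200002843c000000000000000f982ffc00ffc00000003ff001f7c000000040000307c0000000000000000fe01fffff00000000003ffffe0000000000000003f8000000000000000007ff80844b12cb72ddefc0000000000a442082112c0000000000000000000bff4108952555b56ef7c0000000001488410422540000000000000000000dfec2112649a6d9b77bc0000000006110820844980000000000000000000efdc422388e38ee3bbdc0000000038021041088e00000000000000000000f7bc843c0f0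3f0fc3dec00000003c000208210f000000000000000000000fb7d07c00ffc00ffc1f40000007c000001041f0000000000000000000000fcfdf8000fffff0001f800001f8000000007e00000000000000000000000fcfe07fff00000fffe040007e000000001f8000000000000000000000000fb7ef83ff003ff003e0800f8208000003e00000000000000000000000000f7bf7bc3f0fc0f03c2100f0841040003c000000000000000000000000000efdfbddc771c711c442071108208401c0000000000000000000000000000dfefdeed9b65926488419221041088600000000000000000000000000000bff7ef76adaaa4a91082a4420821128000000000000000000000000000007ffbf7bb4ed348d221034884104225000000000000000000000000000000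

theorem okE8 : ok chevE8 240 tE8 = true := by decide +kernel

/-- the coroots of `F4` -/
def cF4 : ℕ :=
  nat_lit 0x464226422442486424222222022248624842444204424422042200220002242022200220442004200020220002002000100001001100001003103310011011101310000100110311331103313331373137510111111113113753133115313531

/-- the Cartan integers of `F4` -/
def aF4 : ℕ :=
  nat_lit 0x210002100212100021210214321021210002121002100021021021002100210210021241231210021021002100210210004030021221121044004330044300330212211210040300000244410002224333111000000222444311100023331000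

theorem prF4 : prC chevF4 = prT 4 48 cF4 aF4 := prC_eq (by decide +kernel)

/-- the coroots of `E6` -/
def cE6 : ℕ :=
  nat_lit 0x246442246422244422224422024422244222224222024222222222022222002222222202022202002202000202000002244220224220024220222220022220002220222020022020002020000020222200022200002200000200222000022000002000220000020000200000100000010000110000001000011000111000000100001100011100111100000010001010011010111010001110011110111110013110113110133110000001000101001101011101111101001111011111111111013111113111133111013311113311133311135311135331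

/-- the Cartan integers of `E6` -/
def aE6 : ℕ :=
  nat_lit 0x210212102100002121021002100210214321021002100210212100002102121021000002102100210210021002102100210021241231210021002102100210021021002102100021000221100021002211000210021224110022311210021000221100210002211000210002221110000002100022211102224111000000222311102221110002100000022211100210000002221110000022222241110111000000222022231111110000022211100000021000002222222222411111100001111000000000000222200002222223111111111100000

theorem prE6 : prC chevE6 = prT 6 72 cE6 aE6 := prC_eq (by decide +kernel)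

/-- the coroots of `E7` -/
def cE7 : ℕ :=
  nat_lit 0x246864424686422468442246644224464422246442024644224664222446422224642202464222444422224442202444222224422022442200244222444222224422202442222224222022422200242222222222022222200222220002222222220202222020022202000220200002020000002244422022442200244220222422002242200024220222222002222200022220000222022220200222020002202000020200000020222220002222000022200000220000002002222000022200000220000002000222000002200000020000220000002000002000000100000001000001100000001000001100001110000000100000110000111000111100000001000001100001110001111001111100000001000010100011010011101011110100001110001111001111101111110001311001131101113110013311011331101333110000000100001010001101001110101111011111101000111100111110111111111111100131110113111111311101331111133111133311100133110113311111331101333111133311133331101353111135311133531113553110135331113533113353311355331135733113575311357533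

/-- the Cartan integers of `E7` -/
def aE7 : ℕ :=
  nat_lit 0x2100210212100212102100210000021210210021000210002100210214321021002100021000210021021210000021002102121002121021002100000000021002102100212100210210021000210021021002100021000210021241231210021000210002100210210021000210021021002121002102100210000000210021000221100221100021002100022110002100210002100021224110022311210002100021002100022110002100210002211002211000210021000002100002221110000002221110000210000222111000021000212224111000000222311121000210000222111000021000022211100000022211100002100021000000002222221111110000000021000000222211110222241111000000000000222231111022221111000000210000000022222211111100000000210000222211110000000000002222111100000000222222224111101111000000000000222202222311111111000000002222111100000000000022221111000210000000000000002222222222222224111111111100000111110000000000000000000022222000002222222222311111111111111100000000000000021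

theorem prE7 : prC chevE7 = prT 7 126 cE7 aE7 := prC_eq (by decide +kernel)

/-- the coroots of `E8` -/
def cE8 : ℕ :=
  nat_lit 0x468ac864268ac864248ac864246ac8642468c8642468a8642468a6642468a8442468a64424688644246686442446864422468644024686442468a6622468a6422468864224668642244686422246864202468642246884422466844224468442224684420246844224666442244664422246644202466442244464422244644202446442222464420224644200246442246664222446642222466422024664222444642222446422024464222224642202246422002464222444442222444422024444222224442202244422002444222222442202224422002244220002442224444222224442220244422222244222022442220024422222224222022242220022422200024222222222220222222200222222000222220000222222222202022222020022220200022202000022020000020200000002244442202244422002444220222442200224422000244220222242200222422000224220000242202222222002222220002222200002222000002220222220200222202000222020000220200000202000000020222222000222220000222200000222000000220000000200222220000222200000222000000220000000200022220000022200000022000000020000222000000220000000200000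220000000200000020000000100000000100000011000000001000000110000011100000000100000011000001110000111100000000100000011000001110000111100011111000000001000000110000011100001111000111110011111100000000100000101000011010001110100111101011111010000011100001111000111110011111101111111000013110001131100111311011113110001331100113311011133110013331101133311013333110000000010000010100001101000111010011110101111101111111010000111100011111001111110111111111111111000131110011311101113111111131110013311101133111111331110133311111333111133331110001331100113311011133111111331100133311011333111113331101333311113333111333331100135311011353111113531101335311113353111333531101355311113553111335531113555311001353310113533111135331013353311133533113335331013553311135533113355331135553310135733111357331133573311355733113577331013575311135753113357531135575311357753113579531135795510135753311357533133575331355753313577533135795331357973313579553135797531357b7531359b7531379b7531579b7533579b753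

/-- the Cartan integers of `E8` -/
def aE8 : ℕ :=
  nat_lit 0x210000000000210000021000210021021210002102121002121021000212102100210002100000021210210021000210000210000210002100210214321021002100021000021000021000210021021210000002100021002102121000210212100212102100021210210021000210000021000000000021021000000002100000210002100210210021021021002121002102102100210210021000210000210021021002100021000021000021000210021241231210021000210000210000210002100210210021000021000210021021002102102100212100210210210021021002100021000002100000000210002100000021000002100021002100022110210002211002211000210221100021002100021000022110002100210002100002100002100021224110022311210002100002100002100021002100022110000210002100210002211021000221100221100021022110002100210002100000210000002100000210000210000021000210000222111000022211100000022211100002221110000210002100000222111000021000210000210000212224111000000222311121000021000021000210000222111000002100021000022211100002221110000002221110000222111000021000210000021000021000000021002100000210000022221111000000000022222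211111100000000002222111100000210000000222211110000021000021222241111000000000000222231111210000210000022221111000000021000002222111100000000002222221111110000000000222211110000021000002100210000000002121000000022222111110000000000000000000022222222221111111111000000000021000000000022222111110222224111110000000000000000000022222311111022222111110000000000210000000000222222222211111111110000000000000000000022222111110000000212100000000002211000002100000000002222222222111111111100000000000000000000222221111100000000000022222222224111110111110000000000000000000022222022222311111111110000000000002222211111000000000000000000002222222222111111111100000000002100000221100000000000202222221111111000000000000000000000000000000000002222222222222222222224111111111111111000000111111000000000000000000000000000000222222000000222222222222222311111111111111111111100000000000000000000000000000000000222222211111101000000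

theorem prE8 : prC chevE8 = prT 8 240 cE8 aE8 := prC_eq (by decide +kernel)

end Fst

def FF4 : List ℕ := [0, 6, 17, 22]
def FE6 : List ℕ := [0, 11, 27, 32]
def FE7 : List ℕ := [0, 33, 38, 47, 52, 59, 62]
def FE8 : List ℕ := [0, 13, 80, 87, 98, 104, 113, 118]

/-- all sublists of the basis -/
def SF4 : List (List ℕ) := [0, 6, 17].sublists
def SE6 : List (List ℕ) := [0, 11, 27].sublists
def SE7 : List (List ℕ) := [0, 33, 47].sublists
def SE8 : List (List ℕ) := [0, 13, 80, 87].sublists

theorem lt_F4 : ∀ s ∈ FF4, s < chevF4.nroots := by decide +kernel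
theorem lt_E6 : ∀ s ∈ FE6, s < chevE6.nroots := by decide +kernel
theorem lt_E7 : ∀ s ∈ FE7, s < chevE7.nroots := by decide +kernel
theorem lt_E8 : ∀ s ∈ FE8, s < chevE8.nroots := by decide +kernel

theorem tabC_F4 : tabC chevF4 FF4 = true := by
  delta tabC; rw [Fst.prF4]; decide +kernel
theorem tabC_E6 : tabC chevE6 FE6 = true := by
  delta tabC; rw [Fst.prE6]; decide +kernel
theorem tabC_E7 : tabC chevE7 FE7 = true := by
  delta tabC; rw [Fst.prE7]; decide +kernel
theorem tabC_E8 : tabC chevE8 FE8 = true := by
  delta tabC; rw [Fst.prE8]; decide +kernel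

theorem tabR_F4 : TabR chevF4 4 FF4 := by
  unfold TabR; rw [Fst.prF4]; decide +kernel
theorem tabR_E7 : TabR chevE7 7 FE7 := by
  unfold TabR; rw [Fst.prE7]; decide +kernel
theorem tabR_E8 : TabR chevE8 8 FE8 := by
  unfold TabR; rw [Fst.prE8]; decide +kernel

instance decTabE (D : ChevalleyDatum) (l : ℕ) (F : List ℕ) (Sub : List (List ℕ)) : Decidable (TabE D l F Sub) := by
  unfold TabE; infer_instance

theorem tabE_F4 : TabE chevF4 4 FF4 SF4 := by
  delta TabE sumP; rw [Fst.prF4]; decide +kernel
theorem tabE_E6 : TabE chevE6 6 FE6 SE6 := by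
  delta TabE sumP; rw [Fst.prE6]; decide +kernel
theorem tabE_E7 : TabE chevE7 7 FE7 SE7 := by
  delta TabE sumP; rw [Fst.prE7]; decide +kernel
theorem tabE_E8 : TabE chevE8 8 FE8 SE8 := by
  delta TabE sumP; rw [Fst.prE8]; decide +kernel

/-! ### further tables -/

/-- pairwise strongly orthogonal -/
def tabO (D : ChevalleyDatum) (F : List ℕ) : Bool :=
  F.all fun a => F.all fun b => (a == b) || (orth D a b && orth D a (D.neg b))

/-- the involutions are different -/
def tabN (D : ChevalleyDatum) (F : List ℕ) : Bool :=
  F.all fun a => F.all fun b => (a == b) || (List.range D.rank).any fun j => sumP D [a, b] (D.simple j) % 2 != 0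

/-- the involutions are not trivial -/
def tabZ (D : ChevalleyDatum) (F : List ℕ) : Bool :=
  F.all fun a => (List.range D.rank).any fun j => prC D a (D.simple j) % 2 != 0

/-- the relations -/
def tabQ (D : ChevalleyDatum) (F : List ℕ) : Bool :=
  F.all fun a => F.all fun b => (a == b) ||
    (F.any fun c => (c != a) && (c != b) && (List.range D.rank).all fun j => sumP D [a, b, c] (D.simple j) % 2 == 0) ||
    (F.any fun c => F.any fun d => (c != a) && (c != b) && (d != a) && (d != b) && (c != d) &&
      (List.range D.rank).all fun j => sumP D [a, b, c, d] (D.simple j) % 2 == 0)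

theorem tabO_F4 : tabO chevF4 FF4 = true := by decide +kernel
theorem tabO_E6 : tabO chevE6 FE6 = true := by
  delta tabO orth cmm; rw [Fst.comm_eq Fst.okE6, Fst.neg_eq Fst.okE6]; decide +kernel
theorem tabO_E7 : tabO chevE7 FE7 = true := by
  delta tabO orth cmm; rw [Fst.comm_eq Fst.okE7, Fst.neg_eq Fst.okE7]; decide +kernel
theorem tabO_E8 : tabO chevE8 FE8 = true := by
  delta tabO orth cmm; rw [Fst.comm_eq Fst.okE8, Fst.neg_eq Fst.okE8]; decide +kernel
theorem tabN_F4 : tabN chevF4 FF4 = true := by
  delta tabN sumP; rw [Fst.prF4]; decide +kernel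
theorem tabN_E6 : tabN chevE6 FE6 = true := by
  delta tabN sumP; rw [Fst.prE6]; decide +kernel
theorem tabN_E7 : tabN chevE7 FE7 = true := by
  delta tabN sumP; rw [Fst.prE7]; decide +kernel
theorem tabN_E8 : tabN chevE8 FE8 = true := by
  delta tabN sumP; rw [Fst.prE8]; decide +kernel
theorem tabZ_F4 : tabZ chevF4 FF4 = true := by
  delta tabZ; rw [Fst.prF4]; decide +kernel
theorem tabZ_E6 : tabZ chevE6 FE6 = true := by
  delta tabZ; rw [Fst.prE6]; decide +kernel
theorem tabZ_E7 : tabZ chevE7 FE7 = true := by
  delta tabZ; rw [Fst.prE7]; decide +kernel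
theorem tabZ_E8 : tabZ chevE8 FE8 = true := by
  delta tabZ; rw [Fst.prE8]; decide +kernel
theorem tabQ_F4 : tabQ chevF4 FF4 = true := by
  delta tabQ sumP; rw [Fst.prF4]; decide +kernel
theorem tabQ_E6 : tabQ chevE6 FE6 = true := by
  delta tabQ sumP; rw [Fst.prE6]; decide +kernel
theorem tabQ_E7 : tabQ chevE7 FE7 = true := by
  delta tabQ sumP; rw [Fst.prE7]; decide +kernel
theorem tabQ_E8 : tabQ chevE8 FE8 = true := by
  delta tabQ sumP; rw [Fst.prE8]; decide +kernel
theorem subF4 : ∀ I ∈ SF4, ∀ r ∈ I, r ∈ FF4 := by decide +kernel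
theorem subE6 : ∀ I ∈ SE6, ∀ r ∈ I, r ∈ FE6 := by decide +kernel
theorem subE7 : ∀ I ∈ SE7, ∀ r ∈ I, r ∈ FE7 := by decide +kernel
theorem subE8 : ∀ I ∈ SE8, ∀ r ∈ I, r ∈ FE8 := by decide +kernel

/-! ### the fixator for `E₆` -/

/-- a vector invariant modulo 3 -/
def v6 : Fin 6 → ℤ := ![1, 0, 2, 0, 1, 2]
/-- the pairings of `v6`, divided by 3 -/
def m6 : Fin 6 → ℤ := ![0, 0, 1, -1, 0, 1]

theorem pair_v6 : ∀ i : Fin 6, pairing (cartanOf chevE6 6) i v6 = 3 * m6 i := by decide +kernel

theorem rep_mod3 {M : CoxeterMatrix (Fin 6)} (hp : IsType chevE6 6 M) {W : Type*} [Group W] (cs : CoxeterSystem M W)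
    (w : W) : ∃ u : Fin 6 → ℤ, rep cs hp.isCartan w v6 = v6 + (3 : ℤ) • u := by
  obtain ⟨ω, rfl⟩ := cs.wordProd_surjective w
  induction ω with
  | nil => exact ⟨0, by rw [CoxeterSystem.wordProd_nil, map_one, smul_zero, add_zero]; rfl⟩
  | cons i ω ih =>
    obtain ⟨u, hu⟩ := ih
    refine ⟨rep cs hp.isCartan (cs.simple i) u - m6 i • sr i, ?_⟩
    rw [CoxeterSystem.wordProd_cons, rep_mul_apply, hu, map_add, map_zsmul]
    have h1 : rep cs hp.isCartan (cs.simple i) v6 = v6 - (3 * m6 i) • sr i := by
      rw [rep_simple_eq, pair_v6]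
    rw [h1, smul_sub, mul_smul]
    abel

theorem tab6a : ∀ s < chevE6.nroots, ∀ j : Fin 6, (∀ r ∈ FE6, prC chevE6 r s = prC chevE6 r (chevE6.simple j)) →
    s ∈ (![[56, 36], [46], [42, 37], [39], [37, 42], [36, 56]] : Fin 6 → List ℕ) j := by
  rw [Fst.prE6]; decide +kernel

theorem tab6b : ∀ s0 ∈ [56, 36], ∀ s2 ∈ [42, 37], ∀ s4 ∈ [37, 42], ∀ s5 ∈ [36, 56],
    (∀ i : Fin 6, (vec chevE6 6 s0 i + 2 * vec chevE6 6 s2 i + vec chevE6 6 s4 i + 2 * vec chevE6 6 s5 i - v6 i) % 3 = 0) →
    s0 = 56 ∧ s2 = 42 ∧ s4 = 37 ∧ s5 = 36 := by decide +kernel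

theorem sum_v6 : v6 = (sr 0 + (2 : ℤ) • sr 2 + sr 4 + (2 : ℤ) • sr 5 : Fin 6 → ℤ) := by decide +kernel

theorem simpleE6 : ∀ j : Fin 6, chevE6.simple j = (![56, 46, 42, 39, 37, 36] : Fin 6 → ℕ) j := by decide +kernel

end Cfsg.Agent.H808.RV

private theorem dce_8ef2f9575f10 : _root_.True := by
  try have : _root_.True := by simp only [_root_.Cfsg.Agent.H808.RV.ftOk.eq_1]
  exact _root_.True.intro
end

-- part: H808/RV/FTabA_mg
section
set_option linter.all false
open scoped Cfsg.Agent.FastGrp

-- part: H808/RV/FTabA
section
/-!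
# Frames of fundamental subgroups: the roots with even pairing (helper808, TEAM RV, frame data)
-/

set_option autoImplicit false

namespace Cfsg.Agent.H808.RV

open Cfsg Cfsg.Lie

theorem tabA_F4 : ∀ r ∈ FF4, tabA chevF4 r = true := by
  delta tabA; rw [Fst.prF4]; decide +kernel
theorem tabA_E6 : ∀ r ∈ FE6, tabA chevE6 r = true := by
  delta tabA orth cmm; rw [Fst.prE6, Fst.comm_eq Fst.okE6, Fst.neg_eq Fst.okE6]; decide +kernel
theorem tabA_E7 : ∀ r ∈ FE7, tabA chevE7 r = true := by
  delta tabA orth cmm; rw [Fst.prE7, Fst.comm_eq Fst.okE7, Fst.neg_eq Fst.okE7]; decide +kernel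

theorem tabA_E8 : ∀ r ∈ FE8, tabA chevE8 r = true := by
  delta tabA orth cmm; rw [Fst.prE8, Fst.comm_eq Fst.okE8, Fst.neg_eq Fst.okE8]; decide +kernel

theorem tabB_F4 : ∀ r ∈ FF4, tabB chevF4 r = true := by
  delta tabB; rw [Fst.prF4]; decide +kernel
theorem tabB_E6 : ∀ r ∈ FE6, tabB chevE6 r = true := by
  delta tabB; rw [Fst.prE6, Fst.neg_eq Fst.okE6]; decide +kernel
theorem tabB_E7 : ∀ r ∈ FE7, tabB chevE7 r = true := by
  delta tabB; rw [Fst.prE7, Fst.neg_eq Fst.okE7]; decide +kernel
theorem tabB_E8 : ∀ r ∈ FE8, tabB chevE8 r = true := by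
  delta tabB; rw [Fst.prE8, Fst.neg_eq Fst.okE8]; decide +kernel

end Cfsg.Agent.H808.RV
end

-- part: H808/RV/FSix
section
/-!
# Frames of fundamental subgroups: the fixator of the frame in the Weyl group of `E₆` (helper808, TEAM RV, frame data)
-/

set_option autoImplicit false
set_option linter.unusedSectionVars false

namespace Cfsg.Agent.H808.RV

open Subgroup Cfsg Cfsg.Lie Cfsg.Lie.ChevalleyDatum Cfsg.Agent.ChevalleyStructure
  Cfsg.Agent.ChevalleyStructure.Elts Cfsg.Agent.ChevalleyStructure.NPerm Cfsg.Agent.ChevalleyStructure.CoxeterGeom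
  Cfsg.Agent.ChevalleyStructure.CoxeterGeomTypes
  Cfsg.Agent.ChevalleyStructure.RootVec
  Cfsg.Agent.Nodes.RGDChev Cfsg.Agent.H412.OT Cfsg.Agent.H3.OT Cfsg.Agent.Nodes.Reps
  Cfsg.Agent.Tits.Roots Cfsg.Agent.Tits.Core

universe u

variable {M : CoxeterMatrix (Fin 6)} (hp : IsType chevE6 6 M) {K : Type u} [Field K]

theorem fix_E6 (n : ↥(chevE6.monomialSubgroup K))
    (hn : ∀ r (hr : r ∈ FE6), permHom hp.inList K n ⟨r, lt_E6 r hr⟩ = ⟨r, lt_E6 r hr⟩) :
    permHom hp.inList K n = 1 := by
  let cs : CoxeterSystem M M.Group := M.toCoxeterSystem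
  obtain ⟨w, hw⟩ := exists_rep hp cs n
  let σ : Fin 6 → Fin chevE6.nroots := fun j => permHom hp.inList K n ⟨chevE6.simple j, simple_lt hp.inList (lt_rank hp j)⟩
  have hσ : ∀ j : Fin 6, rep cs hp.isCartan w (sr j) = vec chevE6 6 (σ j) := by
    intro j
    have h1 := hw ⟨chevE6.simple j, simple_lt hp.inList (lt_rank hp j)⟩
    simp only at h1
    rw [vec_simple hp] at h1
    exact h1.symm
  have hc : ∀ j : Fin 6, ((σ j : Fin chevE6.nroots) : ℕ) ∈
      (![[56, 36], [46], [42, 37], [39], [37, 42], [36, 56]] : Fin 6 → List ℕ) j := by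
    intro j
    refine tab6a _ (Fin.is_lt _) j fun r hr => ?_
    have h1 := pr_perm hp.inList n ⟨r, lt_E6 r hr⟩ ⟨chevE6.simple j, simple_lt hp.inList (lt_rank hp j)⟩
    rw [hn r hr] at h1
    exact h1
  obtain ⟨u, hu⟩ := rep_mod3 hp cs w
  have h1 : v6 + (3 : ℤ) • u = vec chevE6 6 (σ 0) + (2 : ℤ) • vec chevE6 6 (σ 2) + vec chevE6 6 (σ 4) +
      (2 : ℤ) • vec chevE6 6 (σ 5) := by
    rw [← hu]
    conv_lhs => rw [sum_v6]
    rw [map_add, map_add, map_add, map_zsmul, map_zsmul, hσ, hσ, hσ, hσ]
  have h2 : ∀ i : Fin 6, (vec chevE6 6 (σ 0) i + 2 * vec chevE6 6 (σ 2) i + vec chevE6 6 (σ 4) i +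
      2 * vec chevE6 6 (σ 5) i - v6 i) % 3 = 0 := by
    intro i
    have h3 := congrFun h1 i
    simp only [Pi.add_apply, Pi.smul_apply, smul_eq_mul] at h3
    omega
  have h0 := hc 0
  have h02 := hc 2
  have h04 := hc 4
  have h05 := hc 5
  have h01 := hc 1
  have h03 := hc 3
  obtain ⟨e0, e2, e4, e5⟩ := tab6b _ h0 _ h02 _ h04 _ h05 h2
  have e1 : ((σ 1 : Fin chevE6.nroots) : ℕ) = 46 := List.mem_singleton.1 h01
  have e3 : ((σ 3 : Fin chevE6.nroots) : ℕ) = 39 := List.mem_singleton.1 h03
  have h5 : ∀ j : Fin 6, rep cs hp.isCartan w (sr j) = sr j := by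
    intro j
    rw [hσ j, ← vec_simple hp, simpleE6 j]
    fin_cases j
    · show vec chevE6 6 (σ 0) = _
      rw [e0]; rfl
    · show vec chevE6 6 (σ 1) = _
      rw [e1]; rfl
    · show vec chevE6 6 (σ 2) = _
      rw [e2]; rfl
    · show vec chevE6 6 (σ 3) = _
      rw [e3]; rfl
    · show vec chevE6 6 (σ 4) = _
      rw [e4]; rfl
    · show vec chevE6 6 (σ 5) = _
      rw [e5]; rfl
  have h6 : w = 1 := eq_one_of_fix cs hp.isCartan w h5
  apply Equiv.ext
  intro r
  apply Fin.ext
  refine vec_inj hp (Fin.is_lt _) r.2 ?_
  rw [hw r, h6, map_one]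
  rfl

end Cfsg.Agent.H808.RV
end
end

-- part: H808/RV/FMain
section
set_option linter.all false
open scoped Cfsg.Agent.FastGrp

/-!
# Frames of fundamental subgroups (helper808, TEAM RV, frame data)

* `Rel z` : the relations of the involutions of the frame; `Rel.same` : if they all lie in components, they lie in the
  same component;
* `main_frame` : the frame in a subgroup of `D.group K`;
* `frame_f4`, `frame_e6`, `frame_e7`, `frame_e8` : for every Sylow 2-subgroup of the group.
-/

set_option autoImplicit false
set_option linter.unusedSectionVars false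

namespace Cfsg.Agent.H808.RV

open Subgroup Cfsg Cfsg.Lie Cfsg.Lie.ChevalleyDatum Cfsg.Agent.ChevalleyStructure
  Cfsg.Agent.ChevalleyStructure.Elts Cfsg.Agent.ChevalleyStructure.NPerm Cfsg.Agent.ChevalleyStructure.CoxeterGeom
  Cfsg.Agent.ChevalleyStructure.RootVec
  Cfsg.Agent.Nodes.RGDChev Cfsg.Agent.H412.OT Cfsg.Agent.H3.OT Cfsg.Agent.Nodes.Reps
open Cfsg.Agent.Nodes.RGDFoldSL (wS hS coe_wS coe_hS psi psi_up psi_lo psi_hS map_up map_lo map_hS)
open Cfsg.Agent.ChevalleyStructure.SL2Hom (up lo mem_closure_SL2)
open Cfsg.Agent.H102.RV (Fund IsSyl Comps FrameIn)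

universe u v w

/-! ### relations -/

/-- The relations between the involutions of a frame -/
structure Rel {S : Type u} [Group S] {ι : Type*} (z : ι → S) : Prop where
  inj : Function.Injective z
  comm : ∀ i i', z i * z i' = z i' * z i
  ord : ∀ i, orderOf (z i) = 2
  rel : ∀ i i', i ≠ i' → (∃ k, k ≠ i ∧ k ≠ i' ∧ z i * z i' * z k = 1) ∨
    ∃ k l, k ≠ i ∧ k ≠ i' ∧ l ≠ i ∧ l ≠ i' ∧ k ≠ l ∧ z i * z i' * z k * z l = 1

theorem Rel.conj {S : Type u} [Group S] {ι : Type*} {z : ι → S} (h : Rel z) (g : S) : Rel fun i => g * z i * g⁻¹ := by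
  refine ⟨fun i i' hi => h.inj (mul_left_cancel (mul_right_cancel hi)), fun i i' => ?_, fun i => ?_, fun i i' hne => ?_⟩
  · have e1 : g * z i * g⁻¹ * (g * z i' * g⁻¹) = g * (z i * z i') * g⁻¹ := by group
    have e2 : g * z i' * g⁻¹ * (g * z i * g⁻¹) = g * (z i' * z i) * g⁻¹ := by group
    rw [e1, e2, h.comm]
  · rw [H102.RV.orderOf_conj, h.ord]
  · rcases h.rel i i' hne with ⟨k, h1, h2, h3⟩ | ⟨k, l, h1, h2, h3, h4, h5, h6⟩
    · left
      refine ⟨k, h1, h2, ?_⟩
      have e : g * z i * g⁻¹ * (g * z i' * g⁻¹) * (g * z k * g⁻¹) = g * (z i * z i' * z k) * g⁻¹ := by group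
      rw [e, h3, mul_one, mul_inv_cancel]
    · right
      refine ⟨k, l, h1, h2, h3, h4, h5, ?_⟩
      have e : g * z i * g⁻¹ * (g * z i' * g⁻¹) * (g * z k * g⁻¹) * (g * z l * g⁻¹) =
        g * (z i * z i' * z k * z l) * g⁻¹ := by group
      rw [e, h6, mul_one, mul_inv_cancel]

/-- The involutions of the frame lie in the same component. -/
theorem Rel.same {S : Type u} [Group S] {ι : Type*} [Nonempty ι] {z : ι → S} (h : Rel z) {H : Subgroup S}
    {𝒦 : Set (Subgroup S)} (hC : Comps H 𝒦) (hz : ∀ i, ∃ K ∈ 𝒦, z i ∈ K) : ∃ K ∈ 𝒦, ∀ i, z i ∈ K := by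
  obtain ⟨i₀⟩ := (inferInstance : Nonempty ι)
  choose K hK hzK using hz
  have key : ∀ i i', i ≠ i' → K i = K i' := by
    intro i i' hne
    rcases h.rel i i' hne with ⟨k, h1, h2, h3⟩ | ⟨k, l, h1, h2, h3, h4, h5, h6⟩
    · exact (H102.RV.same_three hC (hK i) (hK i') (hK k) (hzK i) (hzK i') (hzK k) (h.ord i) (h.ord i') (h.ord k) h3).1
    · exact (H102.RV.same_four hC (hK i) (hK i') (hK k) (hK l) (hzK i) (hzK i') (hzK k) (hzK l) (h.ord i) (h.ord i')
        (h.ord k) (h.ord l) (fun e => hne (h.inj e)) (fun e => h1 (h.inj e).symm) (fun e => h3 (h.inj e).symm)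
        (h.comm _ _) (h.comm _ _) (h.comm _ _) (h.comm _ _) (h.comm _ _) (h.comm _ _) h6).1
  refine ⟨K i₀, hK i₀, fun i => ?_⟩
  by_cases hi : i = i₀
  · rw [← hi]; exact hzK i
  · rw [← key i i₀ hi]; exact hzK i

/-! ### the tables of a frame -/

/-- The tables used for a frame -/
structure Tabs (D : ChevalleyDatum) (l : ℕ) (F : List ℕ) (Sub : List (List ℕ)) : Prop where
  lt : ∀ r ∈ F, r < D.nroots
  A : ∀ r ∈ F, tabA D r = true
  B : ∀ r ∈ F, tabB D r = true
  C : tabC D F = true
  O : tabO D F = true
  N : tabN D F = true
  Z : tabZ D F = true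
  Q : tabQ D F = true
  E : TabE D l F Sub
  sub : ∀ I ∈ Sub, ∀ r ∈ I, r ∈ F

theorem tabs_F4 : Tabs chevF4 4 FF4 SF4 :=
  ⟨lt_F4, tabA_F4, tabB_F4, tabC_F4, tabO_F4, tabN_F4, tabZ_F4, tabQ_F4, tabE_F4, subF4⟩
theorem tabs_E6 : Tabs chevE6 6 FE6 SE6 :=
  ⟨lt_E6, tabA_E6, tabB_E6, tabC_E6, tabO_E6, tabN_E6, tabZ_E6, tabQ_E6, tabE_E6, subE6⟩
theorem tabs_E7 : Tabs chevE7 7 FE7 SE7 :=
  ⟨lt_E7, tabA_E7, tabB_E7, tabC_E7, tabO_E7, tabN_E7, tabZ_E7, tabQ_E7, tabE_E7, subE7⟩
theorem tabs_E8 : Tabs chevE8 8 FE8 SE8 :=
  ⟨lt_E8, tabA_E8, tabB_E8, tabC_E8, tabO_E8, tabN_E8, tabZ_E8, tabQ_E8, tabE_E8, subE8⟩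

section Main

variable {D : ChevalleyDatum} {l : ℕ} {M : CoxeterMatrix (Fin l)} (hp : IsType D l M) {K : Type u} [Field K]

/-- the homomorphism of `SL₂` of a subfield -/
noncomputable def jE (hD : InList D) (E : Subfield K) (r : ℕ) : Matrix.SpecialLinearGroup (Fin 2) E →* GL D.Idx K :=
  (psi hD K r).comp (Matrix.SpecialLinearGroup.map E.subtype)

theorem map_injective (E : Subfield K) :
    Function.Injective (Matrix.SpecialLinearGroup.map (n := Fin 2) E.subtype) := by
  intro A B h
  apply Subtype.ext
  ext i j
  have h1 := congrArg (fun X : Matrix.SpecialLinearGroup (Fin 2) K => X.1 i j) h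
  simpa using h1

theorem tabO_spec {F : List ℕ} (h : tabO D F = true) {a b : ℕ} (ha : a ∈ F) (hb : b ∈ F) (hab : a ≠ b) :
    orth D a b = true ∧ orth D a (D.neg b) = true := by
  unfold tabO at h
  have h1 := List.all_eq_true.1 (List.all_eq_true.1 h a ha) b hb
  simp only [Bool.or_eq_true, beq_iff_eq, Bool.and_eq_true] at h1
  tauto

include hp in
theorem tabN_spec {F : List ℕ} (h : tabN D F = true) {a b : ℕ} (ha : a ∈ F) (hb : b ∈ F) (hab : a ≠ b) :
    ∃ j : Fin l, sumP D [a, b] (D.simple j) % 2 ≠ 0 := by
  unfold tabN at h
  have h1 := List.all_eq_true.1 (List.all_eq_true.1 h a ha) b hb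
  simp only [Bool.or_eq_true, beq_iff_eq, List.any_eq_true, List.mem_range, bne_iff_ne, ne_eq] at h1
  obtain ⟨j, hj, h3⟩ := h1.resolve_left hab
  exact ⟨⟨j, by rwa [← hp.rank_eq]⟩, h3⟩

include hp in
theorem tabZ_spec {F : List ℕ} (h : tabZ D F = true) {a : ℕ} (ha : a ∈ F) :
    ∃ j : Fin l, prC D a (D.simple j) % 2 ≠ 0 := by
  unfold tabZ at h
  have h1 := List.all_eq_true.1 h a ha
  simp only [List.any_eq_true, List.mem_range, bne_iff_ne, ne_eq] at h1
  obtain ⟨j, hj, h3⟩ := h1
  exact ⟨⟨j, by rwa [← hp.rank_eq]⟩, h3⟩

include hp in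
theorem tabQ_spec {F : List ℕ} (h : tabQ D F = true) {a b : ℕ} (ha : a ∈ F) (hb : b ∈ F) (hab : a ≠ b) :
    (∃ c ∈ F, c ≠ a ∧ c ≠ b ∧ ∀ j : Fin l, sumP D [a, b, c] (D.simple j) % 2 = 0) ∨
    ∃ c ∈ F, ∃ d ∈ F, c ≠ a ∧ c ≠ b ∧ d ≠ a ∧ d ≠ b ∧ c ≠ d ∧ ∀ j : Fin l, sumP D [a, b, c, d] (D.simple j) % 2 = 0 := by
  unfold tabQ at h
  have h1 := List.all_eq_true.1 (List.all_eq_true.1 h a ha) b hb
  simp only [Bool.or_eq_true, beq_iff_eq, List.any_eq_true, List.all_eq_true, List.mem_range, bne_iff_ne, ne_eq,
    Bool.and_eq_true] at h1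
  rcases h1 with (h1 | ⟨c, hc, ⟨h2, h3⟩, h4⟩) | ⟨c, hc, d, hd, ⟨⟨⟨⟨h2, h3⟩, h4⟩, h5⟩, h6⟩, h7⟩
  · exact absurd h1 hab
  · exact Or.inl ⟨c, hc, h2, h3, fun j => h4 j (lt_rank hp j)⟩
  · exact Or.inr ⟨c, hc, d, hd, h2, h3, h4, h5, h6, fun j => h7 j (lt_rank hp j)⟩

/-- **The frame.** -/
theorem main_frame' [Finite K] (h2 : (2 : K) ≠ 0) {E : Subfield K} (h5 : 5 ≤ Nat.card E) {F : List ℕ}
    {Sub : List (List ℕ)} (T : Tabs D l F Sub)
    (hfix : ∀ n : ↥(D.monomialSubgroup K), (∀ r (hr : r ∈ F), permHom hp.inList K n ⟨r, T.lt r hr⟩ = ⟨r, T.lt r hr⟩) →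
      permHom hp.inList K n = 1)
    {S : Type v} [Group S] [Finite S] {f : S →* GL D.Idx K} (hf : Function.Injective f) (hfG : ∀ x, f x ∈ D.group K)
    (hmem : ∀ r ∈ F, ∀ t ∈ E, xG hp.inList r t ∈ f.range ∧ xG hp.inList (D.neg r) t ∈ f.range)
    (hE : ∀ r ∈ F, ∀ A, psi hp.inList K r A ∈ f.range → psi hp.inList K r A ∈ (jE hp.inList E r).range)
    (P : Sylow 2 S) :
    ∃ (L : {r // r ∈ F} → Subgroup S) (z : {r // r ∈ F} → S), FrameD (P : Subgroup S) L z ∧ Rel z ∧
      ∃ g : S, ∀ r, ∀ y ∈ L r, ∃ B, f y = f g * jE hp.inList E r B * (f g)⁻¹ := by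
  have hD := hp.inList
  have hm1 : (-1 : K) ≠ 0 := neg_ne_zero.2 one_ne_zero
  have h2E : (2 : E) ≠ 0 := by
    intro h
    apply h2
    have h0 := congrArg E.subtype h
    rwa [map_ofNat, map_zero] at h0
  have h4 : 4 ≤ Nat.card E := by omega
  have h4K : 4 ≤ Nat.card K := h4.trans (Nat.card_le_card_of_injective _ E.subtype_injective)
  have hpsi : ∀ r ∈ F, Function.Injective (psi hD K r) := by
    intro r hr
    obtain ⟨j, hj⟩ := tabZ_spec hp T.Z hr
    exact psi_injective hD h2 h4K (T.lt r hr) (simple_lt hD (lt_rank hp j)) hj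
  have hj : ∀ r ∈ F, Function.Injective (jE hD E r) := fun r hr => (hpsi r hr).comp (map_injective E)
  have hjle : ∀ r ∈ F, (jE hD E r).range ≤ f.range := by
    rintro r hr _ ⟨A, rfl⟩
    have h3 : A ∈ (f.range).comap (jE hD E r) := by
      refine (Subgroup.closure_le _).2 ?_ (mem_closure_SL2 A)
      rintro _ (⟨t, rfl⟩ | ⟨t, rfl⟩)
      · show psi hD K r (Matrix.SpecialLinearGroup.map E.subtype (up t)) ∈ f.range
        rw [map_up, psi_up hD (T.lt r hr)]
        exact (hmem r hr t t.2).1
      · show psi hD K r (Matrix.SpecialLinearGroup.map E.subtype (lo t)) ∈ f.range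
        rw [map_lo, psi_lo hD (T.lt r hr)]
        exact (hmem r hr t t.2).2
    exact h3
  have hjhS : ∀ r ∈ F, ∀ c : E, jE hD E r (hS c) = hG hD r (c : K) := by
    intro r hr c
    show psi hD K r (Matrix.SpecialLinearGroup.map E.subtype (hS c)) = _
    rw [map_hS, psi_hS hD (T.lt r hr)]
    rfl
  have hz : ∀ r : {r // r ∈ F}, ∃ x : S, f x = jE hD E r (hS (-1)) := fun r => hjle r r.2 ⟨_, rfl⟩
  choose z hz using hz
  have hzh : ∀ r : {r // r ∈ F}, f (z r) = hG hD r (-1 : K) := by
    intro r
    rw [hz, hjhS r r.2]
    rfl
  let L : {r // r ∈ F} → Subgroup S := fun r => (jE hD E r).range.comap f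
  have hfund : ∀ r, Fund (L r) (z r) := by
    intro r
    refine fund_of hf h2E h4 (hj r r.2) (hjle r r.2) (hz r) fun g hg A => ?_
    have h6 : f g * hG hD r (-1 : K) = hG hD r (-1 : K) * f g := by rw [← hzh, ← map_mul, hg, map_mul]
    have h7 := cent_norm hD h2 (T.lt r r.2) (T.A r r.2) (T.B r r.2) (hfG g) h6 (jE hD E r A) ⟨_, rfl⟩
    obtain ⟨B, hB⟩ := h7
    rw [← hB]
    apply hE r r.2
    rw [hB]
    obtain ⟨a, ha⟩ := hjle r r.2 ⟨A, rfl⟩
    exact ⟨g * a * g⁻¹, by rw [map_mul, map_mul, map_inv, ha]⟩
  have hcomm : ∀ r r' : {r // r ∈ F}, r ≠ r' → ∀ a ∈ L r, ∀ b ∈ L r', a * b = b * a := by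
    rintro r r' hne a ⟨A, hA⟩ b ⟨B, hB⟩
    apply hf
    have h6 := tabO_spec T.O r.2 r'.2 (fun h => hne (Subtype.ext h))
    rw [map_mul, map_mul, ← hA, ← hB]
    exact psi_comm hD (T.lt r r.2) (T.lt r' r'.2) h6.1 h6.2 _ _
  have hinv : ∀ t : S, orderOf t = 2 → (∀ r, ∀ x ∈ L r, t * x = x * t) → t ∈ closure (Set.range z) := by
    intro t ht htc
    have hc : ∀ r ∈ F, ∀ A, f t * jE hD E r A = jE hD E r A * f t := by
      intro r hr A
      obtain ⟨a, ha⟩ := hjle r hr ⟨A, rfl⟩
      have h6 := htc ⟨r, hr⟩ a ⟨A, ha.symm⟩
      rw [← ha, ← map_mul, h6, map_mul]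
    obtain ⟨I, hI, e⟩ := inv_form hp h2 h5 T.lt T.C hfix (fun I hI r hr => T.lt r (T.sub I hI r hr)) T.E (hfG t)
      (by rw [← map_mul, H102.RV.sq_of_orderOf ht, map_one])
      (fun r hr => by
        have h6 := hc r hr (up 1)
        have h7 : jE hD E r (up 1) = xG hD r (1 : K) := by
          show psi hD K r (Matrix.SpecialLinearGroup.map E.subtype (up 1)) = _
          rw [map_up, psi_up hD (T.lt r hr), map_one]
        rwa [h7] at h6)
      (fun r hr c hcE hc0 => by
        have h6 := hc r hr (hS ⟨c, hcE⟩)
        rwa [hjhS r hr] at h6)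
    have h6 : ∀ I : List ℕ, (∀ r ∈ I, r ∈ F) → ∃ x ∈ closure (Set.range z), f x = zP hD K I := by
      intro I
      induction I with
      | nil => exact fun _ => ⟨1, one_mem _, by rw [map_one]; rfl⟩
      | cons r I ih =>
        intro hI
        obtain ⟨x, hx, e⟩ := ih fun a ha => hI a (List.mem_cons_of_mem _ ha)
        refine ⟨z ⟨r, hI r List.mem_cons_self⟩ * x, mul_mem (subset_closure ⟨_, rfl⟩) hx, ?_⟩
        rw [map_mul, hzh, e]
        unfold zP
        rw [List.map_cons, List.prod_cons]
    obtain ⟨x, hx, e'⟩ := h6 I (T.sub I hI)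
    have h7 : t = x := hf (by rw [e, e'])
    rw [h7]
    exact hx
  have hrel : Rel z := by
    have hzz : ∀ r, z r * z r = 1 := fun r => H102.RV.sq_of_orderOf (hfund r).ord
    refine ⟨fun r r' h => ?_, fun r r' => ?_, fun r => (hfund r).ord, fun r r' hne => ?_⟩
    · by_contra hne
      obtain ⟨j, hj⟩ := tabN_spec hp T.N r.2 r'.2 (fun h => hne (Subtype.ext h))
      refine zP_ne_one (K := K) hp h2 (I := [r, r']) ?_ hj ?_
      · intro a ha
        simp only [List.mem_cons, List.not_mem_nil, or_false] at ha
        rcases ha with rfl | rfl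
        · exact T.lt _ r.2
        · exact T.lt _ r'.2
      · have h6 : zP hD K [(r : ℕ), (r' : ℕ)] = f (z r * z r') := by
          unfold zP
          rw [map_mul, hzh, hzh]
          simp
        rw [h6, ← h, hzz, map_one]
    · by_cases h : r = r'
      · rw [h]
      · exact hcomm r r' h _ (hfund r).mem _ (hfund r').mem
    · have hlt : ∀ r : {r // r ∈ F}, (r : ℕ) < D.nroots := fun r => T.lt r r.2
      rcases tabQ_spec hp T.Q r.2 r'.2 (fun h => hne (Subtype.ext h)) with ⟨c, hc, h6, h7, h8⟩ |
        ⟨c, hc, d, hd, h6, h7, h8, h9, h10, h11⟩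
      · left
        refine ⟨⟨c, hc⟩, fun h => h6 (congrArg Subtype.val h), fun h => h7 (congrArg Subtype.val h), ?_⟩
        apply hf
        have h12 := zP_eq_one (K := K) hp (I := [r, r', c]) (by
          intro a ha
          simp only [List.mem_cons, List.not_mem_nil, or_false] at ha
          rcases ha with rfl | rfl | rfl
          · exact hlt r
          · exact hlt r'
          · exact T.lt _ hc) h8
        rw [map_mul, map_mul, hzh, hzh, hzh, map_one, ← h12]
        unfold zP
        simp [mul_assoc]
      · right
        refine ⟨⟨c, hc⟩, ⟨d, hd⟩, fun h => h6 (congrArg Subtype.val h), fun h => h7 (congrArg Subtype.val h),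
          fun h => h8 (congrArg Subtype.val h), fun h => h9 (congrArg Subtype.val h),
          fun h => h10 (congrArg Subtype.val h), ?_⟩
        apply hf
        have h12 := zP_eq_one (K := K) hp (I := [r, r', c, d]) (by
          intro a ha
          simp only [List.mem_cons, List.not_mem_nil, or_false] at ha
          rcases ha with rfl | rfl | rfl | rfl
          · exact hlt r
          · exact hlt r'
          · exact T.lt _ hc
          · exact T.lt _ hd) h11
        rw [map_mul, map_mul, map_mul, hzh, hzh, hzh, hzh, map_one, ← h12]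
        unfold zP
        simp [mul_assoc]
  obtain ⟨g, hg⟩ := exists_frame hfund (fun r Q hQ => syl_quat hf h2E (hj r r.2) (hjle r r.2) (hz r) hQ) hcomm hinv P
  refine ⟨_, _, hg, hrel.conj g, g, ?_⟩
  intro r y hy
  rw [H102.RV.mem_map_conj] at hy
  obtain ⟨B, hB⟩ := hy
  refine ⟨B, ?_⟩
  rw [hB, map_mul, map_mul, map_inv]
  group

end Main

end Cfsg.Agent.H808.RV
end
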