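import Cfsg.Agent.H808.RV.FMain
import Cfsg.Agent.ChevalleyStructure.TwE6BN
import Cfsg.Agent.H454.PiBS.Panel
import Cfsg.Agent.H165.RV.Defs
import Mathlib
import Cfsg.Agent.Mrg.Omega.Lie.CenSL
import Cfsg.Agent.Hexagon.TwD4Par
import Cfsg.Agent.ChevalleyStructure.TwE6Basic
import Cfsg.Agent.ChevalleyStructure.SL2All
import Cfsg.Agent.OddHalf.LongSL.Tw_m3
import Cfsg.Agent.S1102
import Cfsg.Agent.H166.TwDiag
import Cfsg.Agent.LieRecognition.BNCox
import Cfsg.Agent.Lib.FastPerm
import Cfsg.Agent.H408.Hall.MTwo_m3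
import Cfsg.Agent.PermutationGroups.OnanScott
import Cfsg.Agent.H165.WielA
import Cfsg.Agent.S0205
import Cfsg.Agent.H553.OddHall_m3
import Cfsg.Agent.H988.CopCyc.Red
import Cfsg.Agent.H207.RV.Equi
import Cfsg.Agent.Lib.MinNormalNonabelian
import Cfsg.Agent.H170.HL.OmRows_m3
import Cfsg.Agent.H556.FHallOmega
import Cfsg.Agent.AutOrth.Main
import Cfsg.Agent.H640.Red2
import Cfsg.Agent.H845.LiftIrr
import Cfsg.Agent.S0199
import Cfsg.Agent.FastGrp
import Cfsg.Agent.Prune
set_option linter.all false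

section
prune_inst 0x7f00000000000000000000000000000000000000000000000000000000000000000000000000000000000000000000000000000000000000000000000000000000000000000000000000000000000000003fffffffffdfffffffffffffffffbeffbdffffffff

section
prune_inst 0xfcecfb2ff8a1dedfff7e7faed4dffdf9b83ffff6dff9cbbfe0a1ef0bdf4b0acdc56b8d0fe010fe0ec2e21410f87b53f9ffc23fea6bdc7ffffd5ff41ffbff8fade6b50851d4883e0fbc0fff03f0778e7f000000000020000000000000000000000000000000

-- part: H808/RV/FTw
section
set_option linter.all false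
open scoped Cfsg.Agent.FastGrp

/-!
# Frames of fundamental subgroups: `²E₆(q)` inside `E₆(q²)` (helper808, TEAM RV, frame data)
-/

set_option autoImplicit false
set_option linter.unusedSectionVars false

namespace Cfsg.Agent.H808.RV

open Subgroup Cfsg Cfsg.Lie Cfsg.Lie.ChevalleyDatum Cfsg.Agent.ChevalleyStructure
  Cfsg.Agent.ChevalleyStructure.Elts Cfsg.Agent.Nodes.RGDChev
open Cfsg.Agent.ChevalleyStructure.TwE6Basic (hE6 x rho epsE wP wp sg fix mem_fix sg_x n n_conj twisted_le_fix single_mem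
  rho_wP wP_val)
open Cfsg.Agent.ChevalleyStructure.GraphSymm
open Cfsg.Agent.Nodes.RGDFoldSL (wS hS coe_wS coe_hS psi psi_up psi_lo psi_hS map_up map_lo map_hS)
open Cfsg.Agent.ChevalleyStructure.SL2Hom (up lo mem_closure_SL2)

universe u v w

variable {K : Type u} [Field K] {q : ℕ} {φ : K →+* K}

theorem eps_fixed : ∀ r : Fin 72, rho r = r → epsE r = 1 := by decide +kernel

theorem sg_fixed {r : Fin 72} (hr : rho r = r) (t : K) : sg φ (x r.val t) = x r.val (φ t) := by
  have h : symmE6.ε r = 1 := eps_fixed r hr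
  rw [sg_x, h, hr, Int.cast_one, one_mul]

/-- the root elements with parameter in the fixed field lie in the twisted group -/
def GoodR (K : Type u) [Field K] (q : ℕ) (φ : K →+* K) (r : Fin 72) : Prop :=
  rho r = r ∧ ∀ t : K, φ t = t → x r.val t ∈ twistedE6 K q

theorem good_step (hφ : ∀ t, φ t = t ^ q) (hqq : ∀ t : K, (t ^ q) ^ q = t) (i : Fin 4) {r : Fin 72}
    (h : GoodR K q φ r) : GoodR K q φ (wP i r) := by
  have hρ : rho (wP i r) = wP i r := by rw [rho_wP, h.1]
  refine ⟨hρ, fun t ht => ?_⟩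
  obtain ⟨η, hη, hc⟩ := n_conj (K := K) i r.isLt
  have hnG : n (K := K) i ∈ twistedE6 K q := Cfsg.Agent.ChevalleyStructure.TwE6BN.n_mem_G φ hφ i
  have key : ∀ u : K, φ u = u → x (wP i r).val (η * u) ∈ twistedE6 K q := by
    intro u hu
    rw [wP_val, ← hc u]
    exact mul_mem (mul_mem hnG (h.2 u hu)) (inv_mem hnG)
  have hη1 : φ η = η := by
    have h1 := twisted_le_fix φ hφ hqq (key 1 (map_one φ))
    rw [mem_fix, sg_fixed hρ, mul_one] at h1
    exact Cfsg.Agent.ChevalleyStructure.TwE6Basic.x_injective (wP i r).isLt h1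
  have h1 := key (η⁻¹ * t) (by rw [map_mul, map_inv₀, hη1, ht])
  rwa [mul_inv_cancel_left₀ hη] at h1

theorem good_start {r : Fin 72} (hφ : ∀ t, φ t = t ^ q) (hr : r.val ∈ [46, 25, 39, 32]) (hρ : rho r = r) :
    GoodR K q φ r := ⟨hρ, fun t ht => single_mem (by rw [← hφ, ht]) hr⟩

theorem good_word (hφ : ∀ t, φ t = t ^ q) (hqq : ∀ t : K, (t ^ q) ^ q = t) (w : List (Fin 4)) {r : Fin 72}
    (h : GoodR K q φ r) : GoodR K q φ (w.foldl (fun s i => wP i s) r) := by
  induction w generalizing r with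
  | nil => exact h
  | cons i w ih => exact ih (good_step hφ hqq i h)

/-- the words -/
def words : List (List (Fin 4)) := [[], [2], [2, 3], [1, 2, 1, 3, 2, 1, 0], [0, 2, 1, 3, 2, 1, 0]]

theorem tab_words : ∀ r : Fin 72, r.val ∈ [0, 11, 27, 32, 71, 60, 44, 39] → ∃ s : Fin 72, s.val ∈ [46, 25, 39, 32] ∧
    rho s = s ∧ ∃ w ∈ words, w.foldl (fun s i => wP i s) s = r := by decide +kernel

theorem good_all (hφ : ∀ t, φ t = t ^ q) (hqq : ∀ t : K, (t ^ q) ^ q = t) {r : Fin 72}
    (hr : r.val ∈ [0, 11, 27, 32, 71, 60, 44, 39]) : GoodR K q φ r := by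
  obtain ⟨s, hs, hρ, w, -, rfl⟩ := tab_words r hr
  exact good_word hφ hqq w (good_start hφ hs hρ)

theorem tab_FE6 : ∀ r ∈ FE6, r < 72 ∧ r ∈ [0, 11, 27, 32, 71, 60, 44, 39] ∧ chevE6.neg r < 72 ∧
    chevE6.neg r ∈ [0, 11, 27, 32, 71, 60, 44, 39] := by decide +kernel

/-- the fixed field -/
def Ef (φ : K →+* K) : Subfield K := φ.eqLocusField (RingHom.id K)

theorem tw_mem (hφ : ∀ t, φ t = t ^ q) (hqq : ∀ t : K, (t ^ q) ^ q = t) (hD : InList chevE6) {r : ℕ} (hr : r ∈ FE6)
    {t : K} (ht : t ∈ Ef φ) : xG hD r t ∈ twistedE6 K q ∧ xG hD (chevE6.neg r) t ∈ twistedE6 K q := by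
  obtain ⟨h1, h2, h3, h4⟩ := tab_FE6 r hr
  exact ⟨(good_all hφ hqq (r := ⟨r, h1⟩) h2).2 t ht, (good_all hφ hqq (r := ⟨_, h3⟩) h4).2 t ht⟩

theorem sg_psi (hφ : ∀ t, φ t = t ^ q) (hqq : ∀ t : K, (t ^ q) ^ q = t) (hD : InList chevE6) {r : ℕ} (hr : r ∈ FE6)
    (A : Matrix.SpecialLinearGroup (Fin 2) K) :
    sg φ (psi hD K r A) = psi hD K r (Matrix.SpecialLinearGroup.map φ A) := by
  obtain ⟨h1, h2, h3, h4⟩ := tab_FE6 r hr
  have hr1 : r < chevE6.nroots := lt_E6 r hr
  have g1 := (good_all (K := K) hφ hqq (r := ⟨r, h1⟩) h2).1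
  have g2 := (good_all (K := K) hφ hqq (r := ⟨_, h3⟩) h4).1
  have h5 : A ∈ ((sg φ).comp (psi hD K r)).eqLocus ((psi hD K r).comp (Matrix.SpecialLinearGroup.map φ)) := by
    refine (Subgroup.closure_le _).2 ?_ (mem_closure_SL2 A)
    rintro _ (⟨t, rfl⟩ | ⟨t, rfl⟩)
    · show sg φ (psi hD K r (up t)) = psi hD K r (Matrix.SpecialLinearGroup.map φ (up t))
      rw [map_up, psi_up hD hr1, psi_up hD hr1]
      exact sg_fixed g1 t
    · show sg φ (psi hD K r (lo t)) = psi hD K r (Matrix.SpecialLinearGroup.map φ (lo t))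
      rw [map_lo, psi_lo hD hr1, psi_lo hD hr1]
      exact sg_fixed g2 t
  exact h5

/-- the elements of `SL₂(K)` fixed by the field automorphism -/
theorem mem_map_of_fix {A : Matrix.SpecialLinearGroup (Fin 2) K} (h : Matrix.SpecialLinearGroup.map φ A = A) :
    ∃ B : Matrix.SpecialLinearGroup (Fin 2) (Ef φ), Matrix.SpecialLinearGroup.map (Ef φ).subtype B = A := by
  have h1 : ∀ i j, φ (A.1 i j) = A.1 i j := by
    intro i j
    have := congrArg (fun X : Matrix.SpecialLinearGroup (Fin 2) K => X.1 i j) h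
    simpa using this
  let B₀ : Matrix (Fin 2) (Fin 2) (Ef φ) := fun i j => ⟨A.1 i j, h1 i j⟩
  have hdet : B₀.det = 1 := by
    apply (Ef φ).subtype_injective
    have h3 := A.2
    rw [Matrix.det_fin_two] at h3 ⊢
    rw [map_one, map_sub, map_mul, map_mul]
    exact h3
  refine ⟨⟨B₀, hdet⟩, ?_⟩
  apply Subtype.ext
  ext i j
  rfl

theorem tw_fix (hφ : ∀ t, φ t = t ^ q) (hqq : ∀ t : K, (t ^ q) ^ q = t) (hD : InList chevE6) {r : ℕ} (hr : r ∈ FE6)
    (hinj : Function.Injective (psi hD K r)) {A : Matrix.SpecialLinearGroup (Fin 2) K}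
    (hA : psi hD K r A ∈ twistedE6 K q) : psi hD K r A ∈ (jE hD (Ef φ) r).range := by
  have h1 := twisted_le_fix φ hφ hqq hA
  rw [mem_fix, sg_psi hφ hqq hD hr] at h1
  obtain ⟨B, hB⟩ := mem_map_of_fix (hinj h1)
  exact ⟨B, by rw [← hB]; rfl⟩

/-! ### the frames of the groups -/

section Rows

theorem f4T : IsType chevF4 4 CoxeterMatrix.F₄ := by simp [IsType, typeList]
theorem e6T : IsType chevE6 6 CoxeterMatrix.E₆ := by simp [IsType, typeList]
theorem e7T : IsType chevE7 7 CoxeterMatrix.E₇ := by simp [IsType, typeList]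
theorem e8T : IsType chevE8 8 CoxeterMatrix.E₈ := by simp [IsType, typeList]

variable {S : Type v} [Group S] [Finite S]

theorem card_field {K : Type u} [Field K] [Finite K] {p : ℕ} [CharP K p] (hp : p.Prime) : p ≤ Nat.card K := by
  have := Fintype.ofFinite K
  have := Fact.mk hp
  obtain ⟨n, -, h⟩ := FiniteField.card K p
  rw [Nat.card_eq_fintype_card, h]
  exact Nat.le_self_pow n.ne_zero p

theorem two_ne {K : Type u} [Field K] {p : ℕ} [CharP K p] (hp : 5 ≤ p) : (2 : K) ≠ 0 := by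
  intro h
  have h1 : p ∣ 2 := (CharP.cast_eq_zero_iff K p 2).1 (by exact_mod_cast h)
  have := Nat.le_of_dvd (by norm_num) h1
  omega

variable {F : Type u} [Field F] [Finite F] {p : ℕ} [CharP F p]

end Rows

end Cfsg.Agent.H808.RV
end

-- part: H565/RV/Own
section
set_option linter.all false
open scoped Cfsg.Agent.FastGrp

/-!
# TEAM RV, row `NRow` in the own odd characteristic: the building part (helper565)

`G` acts on the building `Δ` with the system `S : Sys Δ G p`, `p` odd.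

* `two_dvd_of_swap` : a subgroup `M` normalised by `s ∉ M`, `s² ∈ M`, has even index;
* `exists_smul` : `G` is transitive on the chambers;
* `smul_mem_Res` : if `U x ≤ H` then `H x ⊆ Res (Ty Δ H x) x`;
* `res_eq_of_swap` : if all `(W_J, W_J)`-double cosets are self-inverse and `P ∈ Syl₂(G)` stabilises `Res J x` and `Res J y`,
  then these residues are equal;
* `odd_index` : if some `P ∈ Syl₂(G)` stabilises `Res J x` then `W_J` has odd index in `W`.
-/

set_option autoImplicit false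
set_option linter.unusedSectionVars false

open scoped Pointwise

namespace Cfsg.Agent.H565.RV

open Cfsg Subgroup Cfsg.Agent.Tits.Core Cfsg.Agent.Tits.Core.Bldg Cfsg.Agent.Tits.Exchange Cfsg.Agent.Tits
open Cfsg.Agent.FixBN (Sys)
open Cfsg.Agent.FixOdd (Tw)
open Cfsg.Agent.H454.PiBS

/-- a subgroup normalised by `s ∉ M` with `s² ∈ M` has even index -/
theorem two_dvd_of_swap {G : Type*} [Group G] [Finite G] {M : Subgroup G} {s : G} (hs : s ∉ M) (hs2 : s * s ∈ M)
    (hn : ∀ m ∈ M, s * m * s⁻¹ ∈ M) (hn' : ∀ m ∈ M, s⁻¹ * m * s ∈ M) : 2 ∣ M.index := by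
  have hsN : s ∈ normalizer (M : Set G) := by
    rw [mem_normalizer_iff]
    intro m
    refine ⟨hn m, fun h => ?_⟩
    have := hn' _ h
    have e : s⁻¹ * (s * m * s⁻¹) * s = m := by group
    rwa [e] at this
  set N := normalizer (M : Set G) with hN
  have hMN : M ≤ N := le_normalizer
  have hnor : (M.subgroupOf N).Normal := by
    rw [normal_subgroupOf_iff_le_normalizer hMN]
  have h1 : orderOf (QuotientGroup.mk (⟨s, hsN⟩ : N) : N ⧸ M.subgroupOf N) = 2 := by
    apply orderOf_eq_prime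
    · rw [pow_two, ← QuotientGroup.mk_mul, QuotientGroup.eq_one_iff, mem_subgroupOf]
      exact hs2
    · rw [Ne, QuotientGroup.eq_one_iff, mem_subgroupOf]
      exact hs
  have h2 : 2 ∣ Nat.card (N ⧸ M.subgroupOf N) := by rw [← h1]; exact orderOf_dvd_natCard _
  exact (h2 : 2 ∣ M.relIndex N).trans (relIndex_dvd_index_of_le hMN)

theorem eq_one_of_sq {G : Type*} [Group G] {x : G} (h : Odd (orderOf x)) (h1 : x * x = 1) : x = 1 := by
  have h2 : orderOf x ∣ 2 := orderOf_dvd_of_pow_eq_one (by rw [pow_two]; exact h1)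
  rcases (Nat.dvd_prime Nat.prime_two).1 h2 with h3 | h3
  · exact orderOf_eq_one_iff.1 h3
  · rw [h3] at h; exact absurd h (by decide)

variable {I : Type*} {M : CoxeterMatrix I} {W : Type*} [Group W] {cs : CoxeterSystem M W} {C : Type*}

local prefix:100 "ℓ" => cs.length

variable {Δ : Bldg cs C} {G : Type*} [Group G] [MulAction G C] {p : ℕ} (S : Sys Δ G p) [F : OppRes.Cox cs]

include S in
/-- `G` is transitive on the chambers -/
theorem exists_smul (hth : Δ.Thick) (x y : C) : ∃ g : G, g • x = y := by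
  have hy : y ∈ Δ.Res Set.univ x := by rw [Δ.Res_univ]; trivial
  refine Δ.Res_induction (J := Set.univ) (p := fun y => ∃ g : G, g • x = y) ⟨1, one_smul _ _⟩ ?_ hy
  rintro y - z i - hyz ⟨g, rfl⟩
  -- a third chamber of the panel
  obtain ⟨a, b, hab, ha, hb⟩ := hth (g • x) i
  obtain ⟨t, ht, htz⟩ : ∃ t, Δ.δ (g • x) t = cs.simple i ∧ t ≠ z := by
    by_cases h : a = z
    · exact ⟨b, hb, fun h' => hab (h.trans h'.symm)⟩
    · exact ⟨a, ha, h⟩
  have h1 : Δ.δ t (g • x) = cs.simple i := by rw [Δ.symm, ht, cs.inv_simple]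
  have h2 : Δ.δ t z = cs.simple i := by
    rcases Δ.step t (g • x) z i hyz with h | h
    · rw [h1, cs.simple_mul_simple_self, Δ.eq_one] at h
      exact absurd h htz
    · rw [h, h1]
  obtain ⟨u, -, hu⟩ := S.exists_move (h1.trans h2.symm)
  exact ⟨u * g, by rw [mul_smul, hu]⟩

include S in
/-- `G` is transitive on the pairs of chambers at given distance -/
theorem exists_smul_pair (hth : Δ.Thick) {x y a b : C} (h : Δ.δ x y = Δ.δ a b) : ∃ g : G, g • x = a ∧ g • y = b := by
  obtain ⟨g, hg⟩ := exists_smul S hth x a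
  have h1 : Δ.δ a (g • y) = Δ.δ a b := by rw [← h, ← hg, S.iso]
  obtain ⟨u, hu, hub⟩ := S.exists_move h1
  exact ⟨u * g, by rw [mul_smul, hg, S.fix a u hu], by rw [mul_smul, hub]⟩

/-- the `H`-orbit of `x` lies in the residue of type `Ty Δ H x` -/
theorem smul_mem_Res (hth : Δ.Thick) {H : Subgroup G} {x : C} (hx : S.U x ≤ H) :
    ∀ (n : ℕ) (h : G), h ∈ H → ℓ (Δ.δ x (h • x)) = n → h • x ∈ Δ.Res (Ty Δ H x) x := by
  intro n
  induction n with
  | zero =>
    intro h _ hn
    rw [cs.length_eq_zero_iff, Δ.eq_one] at hn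
    rw [← hn]
    exact Δ.self_mem_Res _ _
  | succ n ih =>
    intro h hh hn
    have hne : Δ.δ x (h • x) ≠ 1 := fun h1 => by rw [h1, cs.length_one] at hn; omega
    obtain ⟨i, hi⟩ := cs.exists_leftDescent_of_ne_one hne
    rw [cs.isLeftDescent_iff] at hi
    have hi' : ℓ (cs.simple i * Δ.δ x (h • x)) < ℓ (Δ.δ x (h • x)) := by omega
    obtain ⟨x', hx', hx'y⟩ := FixBN.exists_first Δ hi'
    -- a third chamber
    obtain ⟨a, b, hab, ha, hb⟩ := hth x i
    obtain ⟨z, hz, hzx'⟩ : ∃ t, Δ.δ x t = cs.simple i ∧ t ≠ x' := by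
      by_cases h : a = x'
      · exact ⟨b, hb, fun h' => hab (h.trans h'.symm)⟩
      · exact ⟨a, ha, h⟩
    have h1 : Δ.δ z x = cs.simple i := by rw [Δ.symm, hz, cs.inv_simple]
    have h2 : Δ.δ z x' = cs.simple i := by
      rcases Δ.step z x x' i hx' with h | h
      · rw [h1, cs.simple_mul_simple_self, Δ.eq_one] at h
        exact absurd h hzx'
      · rw [h, h1]
    have h3 : Δ.δ z (h • x) = Δ.δ x (h • x) := by
      have h4 := Δ.δ_mul_of h2 hx'y (by
        rw [← mul_assoc, cs.simple_mul_simple_self, one_mul, cs.length_simple]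
        omega)
      rw [h4, ← mul_assoc, cs.simple_mul_simple_self, one_mul]
    have h5 : Δ.δ (h • x) z = Δ.δ (h • x) x := by rw [Δ.symm z, Δ.symm x, h3]
    obtain ⟨u, hu, huz⟩ := S.exists_move h5.symm
    have huH : u ∈ H := by
      have h6 := S.conj_mem_U hu h⁻¹
      rw [inv_smul_smul] at h6
      have h7 := mul_mem (mul_mem hh (hx h6)) (inv_mem hh)
      have h8 : h * (h⁻¹ * u * h⁻¹⁻¹) * h⁻¹ = u := by group
      rwa [h8] at h7
    have hiT : i ∈ Ty Δ H x := ⟨u, huH, by rw [huz, hz]⟩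
    have hx'R : x' ∈ Δ.Res (Ty Δ H x) x := by
      rw [mem_Res, hx']; exact Subgroup.subset_closure ⟨i, hiT, rfl⟩
    obtain ⟨k, hk, hkx⟩ := exists_smul_of_mem_Res S hx hx'R
    have h9 : Δ.δ x ((k⁻¹ * h) • x) = cs.simple i * Δ.δ x (h • x) := by
      rw [← hx'y, ← hkx, mul_smul, ← S.iso k x (k⁻¹ • h • x), smul_inv_smul]
    have h10 := ih (k⁻¹ * h) (mul_mem (inv_mem hk) hh) (by rw [h9]; omega)
    have h11 : h • x ∈ Δ.Res (Ty Δ H x) (k • x) := by
      have h12 := S.smul_mem_Res (g := k) h10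
      rwa [mul_smul, smul_inv_smul] at h12
    rw [hkx, Δ.Res_eq_of_mem hx'R] at h11
    exact h11

/-- `H` stabilises the residues of the types containing `Ty Δ H x` -/
theorem smul_Res_eq (hth : Δ.Thick) {H : Subgroup G} {x : C} (hx : S.U x ≤ H) {J : Set I} (hJ : Ty Δ H x ⊆ J) {h : G}
    (hh : h ∈ H) : h • Δ.Res J x = Δ.Res J x := by
  rw [S.smul_Res]
  exact Δ.Res_eq_of_mem (Δ.Res_mono hJ x (smul_mem_Res S hth hx _ h hh rfl))

/-- all `(W_J, W_J)`-double cosets are self-inverse -/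
def SelfInv (cs : CoxeterSystem M W) (J : Set I) : Prop :=
  ∀ w : W, ∃ a ∈ WJ cs J, ∃ b ∈ WJ cs J, w⁻¹ = a * w * b

include S in
/-- two residues of the same type stabilised by a Sylow 2-subgroup -/
theorem res_eq_of_swap [Finite G] (hth : Δ.Thick) {J : Set I} (hJ : SelfInv cs J) {x y : C} {P : Subgroup G}
    (hP : ¬ 2 ∣ P.index) (h1 : ∀ g ∈ P, g • Δ.Res J x = Δ.Res J x) (h2 : ∀ g ∈ P, g • Δ.Res J y = Δ.Res J y) :
    Δ.Res J x = Δ.Res J y := by
  by_contra hne
  obtain ⟨a, ha, b, hb, hab⟩ := hJ (Δ.δ x y)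
  -- `z ∈ Res x`, `t ∈ Res y` with `δ z t = δ y x`
  obtain ⟨x', hx', hx'y⟩ : ∃ x' ∈ Δ.Res J x, Δ.δ x' y = a * Δ.δ x y := by
    obtain ⟨x', hx', h3⟩ := Δ.exists_δ_mul_mem_Res y (Δ.self_mem_Res J x) (inv_mem ha)
    refine ⟨x', hx', ?_⟩
    rw [Δ.symm y x', h3, Δ.symm x y, mul_inv_rev, inv_inv, inv_inv]
  obtain ⟨y', hy', hy'x⟩ := Δ.exists_δ_mul_mem_Res x' (Δ.self_mem_Res J y) hb
  rw [hx'y, ← hab, ← Δ.symm] at hy'x
  -- `δ x' y' = δ y x`
  obtain ⟨s, hs1, hs2⟩ := exists_smul_pair S hth (x := y) (y := x) (a := x') (b := y') hy'x.symm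
  have e1 : s • Δ.Res J y = Δ.Res J x := by rw [S.smul_Res, hs1, Δ.Res_eq_of_mem hx']
  have e2 : s • Δ.Res J x = Δ.Res J y := by rw [S.smul_Res, hs2, Δ.Res_eq_of_mem hy']
  set M := MulAction.stabilizer G (Δ.Res J x) ⊓ MulAction.stabilizer G (Δ.Res J y) with hM
  have hPM : P ≤ M := fun g hg => ⟨h1 g hg, h2 g hg⟩
  have key : ∀ {s : G}, s • Δ.Res J y = Δ.Res J x → s • Δ.Res J x = Δ.Res J y → ∀ m ∈ M, s * m * s⁻¹ ∈ M := by
    rintro s e1 e2 m ⟨hm1, hm2⟩
    have hm1' : m • Δ.Res J x = Δ.Res J x := hm1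
    have hm2' : m • Δ.Res J y = Δ.Res J y := hm2
    have e1' : s⁻¹ • Δ.Res J x = Δ.Res J y := by rw [inv_smul_eq_iff, e1]
    have e2' : s⁻¹ • Δ.Res J y = Δ.Res J x := by rw [inv_smul_eq_iff, e2]
    refine ⟨?_, ?_⟩
    · change (s * m * s⁻¹) • Δ.Res J x = Δ.Res J x
      rw [mul_smul, mul_smul, e1', hm2', e1]
    · change (s * m * s⁻¹) • Δ.Res J y = Δ.Res J y
      rw [mul_smul, mul_smul, e2', hm1', e2]
  have hdvd : 2 ∣ M.index := by
    refine two_dvd_of_swap (s := s) ?_ ?_ (key e1 e2) ?_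
    · rintro ⟨h3, -⟩
      have h3' : s • Δ.Res J x = Δ.Res J x := h3
      exact hne (h3'.symm.trans e2)
    · refine ⟨?_, ?_⟩
      · change (s * s) • Δ.Res J x = Δ.Res J x
        rw [mul_smul, e2, e1]
      · change (s * s) • Δ.Res J y = Δ.Res J y
        rw [mul_smul, e1, e2]
    · have e1' : s⁻¹ • Δ.Res J x = Δ.Res J y := by rw [inv_smul_eq_iff, e1]
      have e2' : s⁻¹ • Δ.Res J y = Δ.Res J x := by rw [inv_smul_eq_iff, e2]
      intro m hm
      have := key e2' e1' m hm
      rwa [inv_inv] at this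
  exact hP (hdvd.trans (index_dvd_of_le hPM))

/-! ### parity of the index -/

theorem card_eq_of_ker {X A B : Type*} (φ : X → A) (ψ : X → B) (hφ : Function.Surjective φ)
    (hψ : Function.Surjective ψ) (h : ∀ x y, φ x = φ y ↔ ψ x = ψ y) : Nat.card A = Nat.card B := by
  have e1 := (Setoid.quotientKerEquivOfSurjective φ hφ).symm
  have e2 : Quotient (Setoid.ker φ) ≃ Quotient (Setoid.ker ψ) :=
    Quotient.congr (Equiv.refl X) (fun a b => h a b)
  exact Nat.card_congr (e1.trans (e2.trans (Setoid.quotientKerEquivOfSurjective ψ hψ)))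

/-- parity of the number of orbits of a group of odd order -/
theorem odd_card_iff {D X : Type*} [Group D] [MulAction D X] [Finite X] [Finite D] (hD : Odd (Nat.card D)) :
    Odd (Nat.card X) ↔ Odd (Nat.card (MulAction.orbitRel.Quotient D X)) := by
  classical
  have := Fintype.ofFinite (MulAction.orbitRel.Quotient D X)
  rw [Nat.card_congr (MulAction.selfEquivSigmaOrbits D X), Nat.card_sigma, Finset.odd_sum_iff_odd_card_odd]
  have h1 : (Finset.univ.filter fun ω : MulAction.orbitRel.Quotient D X =>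
      Odd (Nat.card (MulAction.orbit D ω.out))) = Finset.univ := by
    rw [Finset.filter_eq_self]
    intro ω _
    have h2 : Nat.card (MulAction.orbit D ω.out) ∣ Nat.card D := by
      rw [Nat.card_coe_set_eq, ← MulAction.index_stabilizer]
      exact Subgroup.index_dvd_card _
    exact Odd.of_dvd_nat hD h2
  rw [h1, Finset.card_univ, Nat.card_eq_fintype_card]

omit F in
theorem δ_mem_coset {J : Set I} (x : C) {y z : C} (hz : z ∈ Δ.Res J y) : (Δ.δ x y)⁻¹ * Δ.δ x z ∈ WJ cs J := by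
  refine Δ.Res_induction (J := J) (p := fun z => (Δ.δ x y)⁻¹ * Δ.δ x z ∈ WJ cs J) ?_ ?_ hz
  · rw [inv_mul_cancel]; exact one_mem _
  · intro a _ b i hi hab ih
    rcases Δ.step x a b i hab with h | h
    · rw [h, ← mul_assoc]
      exact mul_mem ih (Subgroup.subset_closure ⟨i, hi, rfl⟩)
    · rw [h]; exact ih

include S in
/-- **Parity.** -/
theorem odd_index [Finite G] [hp : Fact p.Prime] (hp2 : p ≠ 2) (hth : Δ.Thick) {J : Set I} {x : C} {P : Subgroup G}
    (hP : ¬ 2 ∣ P.index) (h1 : ∀ g ∈ P, g • Δ.Res J x = Δ.Res J x) : Odd (WJ cs J).index := by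
  classical
  set R := Δ.Res J x with hR
  have hodd : Odd (Nat.card (MulAction.orbit G R)) := by
    rw [Nat.card_coe_set_eq, ← MulAction.index_stabilizer, ← Nat.not_even_iff_odd, even_iff_two_dvd]
    intro h2
    exact hP (h2.trans (index_dvd_of_le (fun g hg => h1 g hg)))
  have hfin : Finite (MulAction.orbit G R) := (Set.finite_range (fun g : G => g • R)).to_subtype
  have hUodd : Odd (Nat.card (S.U x)) := by
    obtain ⟨n, hn⟩ := IsPGroup.iff_card.1 (S.isP x)
    rw [hn]
    exact (hp.out.odd_of_ne_two hp2).pow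
  rw [odd_card_iff (D := S.U x) hUodd] at hodd
  have hmem : ∀ y : C, Δ.Res J y ∈ MulAction.orbit G R := by
    intro y
    obtain ⟨g, hg⟩ := exists_smul S hth x y
    exact ⟨g, by change g • R = _; rw [hR, S.smul_Res, hg]⟩
  have hcard : Nat.card (MulAction.orbitRel.Quotient (S.U x) (MulAction.orbit G R)) = Nat.card (W ⧸ WJ cs J) := by
    refine card_eq_of_ker (X := C)
      (fun y => (Quotient.mk'' (⟨Δ.Res J y, hmem y⟩ : MulAction.orbit G R) :
        MulAction.orbitRel.Quotient (S.U x) (MulAction.orbit G R)))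
      (fun y => (QuotientGroup.mk (Δ.δ x y) : W ⧸ WJ cs J)) ?_ ?_ ?_
    · intro ω
      induction ω using Quotient.inductionOn' with
      | _ a =>
      obtain ⟨_, g, rfl⟩ := a
      refine ⟨g • x, ?_⟩
      change (Quotient.mk'' (⟨Δ.Res J (g • x), hmem (g • x)⟩ : MulAction.orbit G R) :
        MulAction.orbitRel.Quotient (S.U x) (MulAction.orbit G R)) = Quotient.mk'' ⟨g • R, _⟩
      congr 1
      apply Subtype.ext
      change Δ.Res J (g • x) = g • R
      rw [hR, S.smul_Res]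
    · intro ω
      obtain ⟨w, rfl⟩ := QuotientGroup.mk_surjective ω
      obtain ⟨y, hy⟩ := Δ.exists_δ x w
      exact ⟨y, by simp only [hy]⟩
    · intro y z
      rw [Quotient.eq'', MulAction.orbitRel_apply, QuotientGroup.eq]
      constructor
      · rintro ⟨⟨u, hu⟩, h2⟩
        have h3 : u • Δ.Res J z = Δ.Res J y := congrArg Subtype.val h2
        rw [S.smul_Res] at h3
        have h4 : y ∈ Δ.Res J (u • z) := by rw [h3]; exact Δ.self_mem_Res _ _
        have h5 := δ_mem_coset x (Δ.mem_Res_symm h4)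
        have h6 : Δ.δ x (u • z) = Δ.δ x z := by
          conv_lhs => rw [← S.fix x u hu]
          exact S.iso u x z
        rwa [h6] at h5
      · intro h2
        obtain ⟨t, ht, ht'⟩ := Δ.exists_δ_mul_mem_Res x (Δ.self_mem_Res J y) h2
        rw [mul_inv_cancel_left] at ht'
        obtain ⟨u, hu, hut⟩ := S.exists_move ht'.symm
        refine ⟨⟨u, hu⟩, Subtype.ext ?_⟩
        change u • Δ.Res J z = Δ.Res J y
        rw [S.smul_Res, hut, Δ.Res_eq_of_mem ht]
  rw [hcard] at hodd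
  exact hodd

/-! ### the row -/

open Cfsg.Agent.H165.RV

/-- the condition on the type: if `W_J` is proper of odd index, there is `i ∉ J` such that the double cosets of
`W_{I - i}` are self-inverse and the automorphisms of odd order of the Coxeter matrix fix `i` -/
def TyOK (cs : CoxeterSystem M W) : Prop :=
  ∀ J : Set I, J ≠ Set.univ → Odd (WJ cs J).index → ∃ i ∉ J, SelfInv cs {i}ᶜ ∧ ∀ σ ∈ autM M, Odd (orderOf σ) → σ i = i

theorem σ_pow (t : Tw Δ G) (x : C) {n : ℕ} (h : t.θ ^ n = 1) : t.σ ^ n = 1 := by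
  have h1 : ∀ (m : ℕ) (x y : C), Δ.δ ((t.θ ^ m) x) ((t.θ ^ m) y) = (t.φ : W → W)^[m] (Δ.δ x y) := by
    intro m
    induction m with
    | zero => intro x y; rfl
    | succ m ih =>
      intro x y
      rw [pow_succ', Function.iterate_succ_apply', ← ih]
      exact t.δ_θ _ _
  have h2 : ∀ (m : ℕ) (i : I), (t.φ : W → W)^[m] (cs.simple i) = cs.simple ((t.σ ^ m) i) := by
    intro m
    induction m with
    | zero => intro i; rfl
    | succ m ih =>
      intro i
      rw [Function.iterate_succ_apply', ih, pow_succ', Equiv.Perm.mul_apply]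
      exact t.φ_simple _
  ext i
  rw [Equiv.Perm.one_apply]
  apply F.inj
  rw [← h2]
  obtain ⟨y, hy⟩ := Δ.exists_δ x (cs.simple i)
  rw [← hy, ← h1, h]
  rfl

include S in
/-- **The row `NRow` for a Hall subgroup containing a Sylow `p`-subgroup.** -/
theorem nAt_of_type [Finite I] [Finite W] [Finite G] [Nontrivial G] [hp : Fact p.Prime] (hp2 : p ≠ 2) (hth : Δ.Thick)
    (hgen : ∀ K : Subgroup G, (∀ y : C, S.U y ≤ K) → K = ⊤) {π : Set ℕ} (h2 : 2 ∈ π) (hpi : p ∈ π)
    (hM : TyOK cs) (htw : ∀ τ : MulAut G, ∃ t : Tw Δ G, t.τ = τ ∧ ∀ n : ℕ, τ ^ n = 1 → t.θ ^ n = 1)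
    {H : Subgroup G} (hH : IsPiHall π H) : NAt H := by
  intro P hPH φ hφ hfix
  obtain ⟨x, P0, -, hx⟩ := exists_U_le S hH hpi (V := ⊥) IsPGroup.of_bot bot_le
  have hxH : S.U x ≤ H := by rw [hx]; exact Subgroup.map_subtype_le _
  by_cases hJ : Ty Δ H x = Set.univ
  · refine ⟨⊤, top_ne_bot, ?_, fun _ _ _ _ => Subgroup.mem_top _, ?_⟩
    · rw [hgen H (U_le_of_univ S hxH hJ)]
    · rw [eq_top_iff]
      intro g _
      exact ⟨φ.symm g, Subgroup.mem_top _, φ.apply_symm_apply g⟩
  have hPi : ¬ 2 ∣ (P : Subgroup G).index := P.not_dvd_index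
  have hstab : ∀ {K : Set I}, Ty Δ H x ⊆ K → ∀ g ∈ (P : Subgroup G), g • Δ.Res K x = Δ.Res K x :=
    fun hK g hg => smul_Res_eq S hth hxH hK (hPH hg)
  have hodd := odd_index S hp2 hth hPi (hstab (le_refl _))
  obtain ⟨i, hi, hself, hσ⟩ := hM _ hJ hodd
  set K : Set I := {i}ᶜ with hK
  have hJK : Ty Δ H x ⊆ K := by
    intro j hj
    rw [hK, Set.mem_compl_singleton_iff]
    rintro rfl
    exact hi hj
  obtain ⟨t, ht, htn⟩ := htw φ
  have hσi : t.σ i = i := by
    apply hσ _ (tw_mem_autM t)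
    refine Odd.of_dvd_nat hφ (orderOf_dvd_of_pow_eq_one (σ_pow t x (htn _ (pow_orderOf_eq_one φ))))
  have hst : t.Stab K := by
    intro j hj
    rw [hK, Set.mem_compl_singleton_iff] at hj ⊢
    intro h
    exact hj (t.σ.injective (h.trans hσi.symm))
  have himg := t.image_Res hst x
  have hPt : ∀ g ∈ (P : Subgroup G), g • Δ.Res K (t.θ x) = Δ.Res K (t.θ x) := by
    intro g hg
    have h1 : g • t.θ x = t.θ (g • x) := by rw [t.θ_smul, ht, hfix g hg]
    rw [S.smul_Res, h1]
    apply Δ.Res_eq_of_mem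
    apply t.θ_mem_Res hst
    have h2 := hstab hJK g hg
    rw [S.smul_Res] at h2
    rw [← h2]
    exact Δ.self_mem_Res _ _
  have hR := res_eq_of_swap S hth hself hPi (hstab hJK) hPt
  refine ⟨S.UR (Δ.Res K x), ?_, ?_, ?_, ?_⟩
  · -- nontrivial
    intro hbot
    obtain ⟨y, hy⟩ := Δ.exists_δ x (cs.simple i)
    have h1 : y ∈ Δ.Res K x := by
      refine mem_Res_of_fix S hth fun u hu => ?_
      rw [hbot, Subgroup.mem_bot] at hu
      rw [hu, one_smul]
    rw [mem_Res, hy] at h1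
    have h2 : i ∈ K := F.descent_mem K _ h1 i (by
      rw [cs.simple_mul_simple_self, cs.length_one, cs.length_simple]; exact one_pos)
    rw [hK] at h2
    exact h2 rfl
  · exact fun u hu => hxH (hu x (Δ.self_mem_Res _ _))
  · intro h hh n hn
    have h1 := (S.conj_mem_UR_iff (Q := Δ.Res K x) (g := h)).2 hn
    rwa [smul_Res_eq S hth hxH hJK hh] at h1
  · have hle : (S.UR (Δ.Res K x)).map (φ : G ≃* G).toMonoidHom ≤ S.UR (Δ.Res K x) := by
      rintro _ ⟨u, hu, rfl⟩
      intro y hy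
      rw [hR, ← himg] at hy
      obtain ⟨z, hz, rfl⟩ := hy
      have h1 := Cfsg.Agent.H519.Bld.τ_mem_U t (hu z hz)
      rw [ht] at h1
      exact h1
    refine Subgroup.eq_of_le_of_card_ge hle (le_of_eq ?_)
    exact (Subgroup.card_map_of_injective (f := (φ : G ≃* G).toMonoidHom) (φ : G ≃* G).injective).symm

end Cfsg.Agent.H565.RV
end

-- part: H86/RV/D4M
section
prune_inst 0x130080051e2100000000502900020444c0000920060040144010a400208432009022900b4b01113400aa2004008004001cc00400200000000000000000505011008020011400000200000008084000000000000000000000000000000000004200000000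
set_option linter.all false
open scoped Cfsg.Agent.FastGrp

-- part: H86/RV/Abs
section
/-!
# Two commuting copies of `Γ` with a common diagonal automorphism (helper86)

* `sq_dvd` : `|Γ|²` divides the order of `⟨φ Γ, ψ Γ, h⟩`;
* `odd_quot` : `(x ^ n - 1) / (x - 1)` is odd for `x`, `n` odd;
* `exists_sylow_le` : a subgroup whose order is divisible by the `2`-part of `|S|` contains a Sylow `2`-subgroup.
-/

set_option autoImplicit false

namespace Cfsg.Agent.H86.RV

open Subgroup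

section

variable {Γ G : Type*} [Group Γ] [Finite Γ] [Group G] [Finite G]

theorem card_pair (φ ψ : Γ →* G) (hφ : Function.Injective φ) (hψ : Function.Injective ψ)
    (hc : ∀ a b, φ a * ψ b = ψ b * φ a) (hz : Nat.card (center Γ) ∣ 2) :
    Nat.card Γ * Nat.card Γ ∣ 2 * Nat.card ↥(φ.range ⊔ ψ.range) := by
  set f : Γ × Γ →* G := MonoidHom.noncommCoprod φ ψ (fun a b => hc a b) with hf
  have hr : f.range = φ.range ⊔ ψ.range := MonoidHom.noncommCoprod_range φ ψ _
  have hfa : ∀ p : Γ × Γ, f p = φ p.1 * ψ p.2 := fun p => rfl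
  have h1 : Nat.card f.ker * Nat.card f.range = Nat.card Γ * Nat.card Γ := by
    rw [← Subgroup.index_ker, Subgroup.card_mul_index, Nat.card_prod]
  have h2 : Nat.card f.ker ∣ Nat.card (center Γ) := by
    have hmem : ∀ p ∈ f.ker, p.1 ∈ center Γ := by
      intro p hp
      rw [MonoidHom.mem_ker, hfa] at hp
      rw [mem_center_iff]
      intro g
      apply hφ
      rw [map_mul, map_mul, mul_eq_one_iff_eq_inv.1 hp, ← map_inv, hc]
    let k : f.ker →* center Γ :=
      { toFun := fun p => ⟨p.1.1, hmem _ p.2⟩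
        map_one' := rfl
        map_mul' := fun _ _ => rfl }
    have hk : Function.Injective k := by
      rw [injective_iff_map_eq_one]
      rintro ⟨⟨a, b⟩, hp⟩ hk1
      have ha : a = 1 := congrArg Subtype.val hk1
      subst ha
      have hb : φ 1 * ψ b = 1 := hp
      rw [map_one, one_mul] at hb
      have hb1 : b = 1 := hψ (hb.trans (map_one ψ).symm)
      subst hb1
      rfl
    rw [← Nat.card_congr (MonoidHom.ofInjective hk).toEquiv.symm]
    exact card_subgroup_dvd_card k.range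
  rw [← h1, hr]
  exact Nat.mul_dvd_mul (h2.trans hz) dvd_rfl

/-- **`|Γ|²` divides the order of `⟨φ Γ, ψ Γ, h⟩`** -/
theorem sq_dvd (φ ψ : Γ →* G) (hφ : Function.Injective φ) (hψ : Function.Injective ψ)
    (hc : ∀ a b, φ a * ψ b = ψ b * φ a) (hz : Nat.card (center Γ) ∣ 2) {h : G}
    (α β : Γ →* Γ) (h1 : ∀ a, h * φ a * h⁻¹ = φ (α a)) (h2 : ∀ a, h * ψ a * h⁻¹ = ψ (β a))
    (hn : ∀ a : Γ, ∃ b, α b ≠ a * b * a⁻¹) (hh : h * h ∈ φ.range ⊔ ψ.range) :
    Nat.card Γ * Nat.card Γ ∣ Nat.card ↥(φ.range ⊔ ψ.range ⊔ zpowers h) := by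
  refine (card_pair φ ψ hφ hψ hc hz).trans ?_
  set N : Subgroup G := φ.range ⊔ ψ.range with hN
  have hconj : ∀ x ∈ N, h * x * h⁻¹ ∈ N := by
    have h3 : N ≤ N.comap (MulAut.conj h).toMonoidHom := by
      nth_rewrite 1 [hN]
      refine sup_le ?_ ?_
      · rintro _ ⟨a, rfl⟩
        show h * φ a * h⁻¹ ∈ N
        rw [h1]
        exact (le_sup_left : φ.range ≤ N) ⟨_, rfl⟩
      · rintro _ ⟨a, rfl⟩
        show h * ψ a * h⁻¹ ∈ N
        rw [h2]
        exact (le_sup_right : ψ.range ≤ N) ⟨_, rfl⟩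
    exact fun x hx => h3 hx
  have hnorm : h ∈ normalizer (N : Set G) := by
    have hmap : N.map (MulAut.conj h).toMonoidHom = N := by
      apply Subgroup.eq_of_le_of_card_ge
      · rintro _ ⟨x, hx, rfl⟩
        exact hconj x hx
      · rw [Subgroup.card_map_of_injective (MulAut.conj h).injective]
    rw [mem_normalizer_iff]
    intro x
    refine ⟨hconj x, fun hx => ?_⟩
    have h3 : h * x * h⁻¹ ∈ N.map (MulAut.conj h).toMonoidHom := by rw [hmap]; exact hx
    obtain ⟨y, hy, hyx⟩ := h3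
    have h4 : h * y * h⁻¹ = h * x * h⁻¹ := hyx
    have h5 : y = x := mul_left_cancel (mul_right_cancel h4)
    rw [← h5]; exact hy
  have hle : N ≤ N ⊔ zpowers h := le_sup_left
  have hHn : N ⊔ zpowers h ≤ normalizer (N : Set G) := sup_le le_normalizer (by rwa [zpowers_le])
  have hnot : h ∉ N := by
    intro hmem
    have hr := MonoidHom.noncommCoprod_range φ ψ (fun a b => hc a b)
    have h3 := hr.ge hmem
    obtain ⟨⟨a, b⟩, hab⟩ := h3
    have hab' : φ a * ψ b = h := hab
    obtain ⟨c, hc'⟩ := hn a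
    apply hc'
    apply hφ
    rw [← h1, ← hab', map_mul, map_mul, map_inv]
    calc φ a * ψ b * φ c * (φ a * ψ b)⁻¹ = φ a * (ψ b * φ c) * (ψ b)⁻¹ * (φ a)⁻¹ := by group
      _ = φ a * (φ c * ψ b) * (ψ b)⁻¹ * (φ a)⁻¹ := by rw [hc]
      _ = φ a * φ c * (φ a)⁻¹ := by group
  have hNn : (N.subgroupOf (N ⊔ zpowers h)).Normal := (normal_subgroupOf_iff_le_normalizer hle).2 hHn
  have h4 : 2 ∣ (N.subgroupOf (N ⊔ zpowers h)).index := by
    let x : ↥(N ⊔ zpowers h) := ⟨h, (le_sup_right : zpowers h ≤ N ⊔ zpowers h) (mem_zpowers h)⟩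
    have h5 : orderOf (QuotientGroup.mk' (N.subgroupOf (N ⊔ zpowers h)) x) = 2 := by
      apply orderOf_eq_prime
      · rw [← map_pow, pow_two]
        exact (QuotientGroup.eq_one_iff _).2 (mem_subgroupOf.2 hh)
      · intro h6
        exact hnot (mem_subgroupOf.1 ((QuotientGroup.eq_one_iff _).1 h6))
    rw [← h5]
    exact orderOf_dvd_natCard _
  rw [← Subgroup.card_mul_index (N.subgroupOf (N ⊔ zpowers h)), mul_comm 2]
  refine Nat.mul_dvd_mul ?_ h4
  exact dvd_of_eq (Nat.card_congr (subgroupOfEquivOfLe hle).toEquiv.symm)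

end

/-- `(x ^ n - 1) / (x - 1)` is odd for `x`, `n` odd -/
theorem odd_quot {x n : ℕ} (hx : Odd x) (hn : Odd n) : ∃ c, Odd c ∧ x ^ n - 1 = (x - 1) * c := by
  refine ⟨∑ i ∈ Finset.range n, x ^ i, ?_, ?_⟩
  · rw [Finset.odd_sum_iff_odd_card_odd]
    have : (Finset.range n).filter (fun i => Odd (x ^ i)) = Finset.range n := by
      rw [Finset.filter_eq_self]
      exact fun i _ => hx.pow
    rw [this, Finset.card_range]
    exact hn
  · obtain ⟨m, hm⟩ := hx
    have h1 := geom_sum_mul_add (2 * m) n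
    rw [← hm] at h1
    rw [← h1, mul_comm]
    have h2 : x - 1 = 2 * m := by omega
    rw [h2]
    omega

/-- a subgroup whose order is divisible by the `2`-part of `|S|` contains a Sylow `2`-subgroup -/
theorem exists_sylow_le {S : Type*} [Group S] [Finite S] (H : Subgroup S)
    (h : ∀ k, 2 ^ k ∣ Nat.card S → 2 ^ k ∣ Nat.card H) : ∃ P : Sylow 2 S, (P : Subgroup S) ≤ H := by
  have : Fact (Nat.Prime 2) := ⟨Nat.prime_two⟩
  obtain ⟨Q⟩ : Nonempty (Sylow 2 H) := inferInstance
  obtain ⟨P, hP⟩ := (Q.isPGroup'.map H.subtype).exists_le_sylow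
  have h1 : Nat.card ↥((Q : Subgroup H).map H.subtype) = Nat.card (Q : Subgroup H) :=
    Subgroup.card_map_of_injective H.subtype_injective
  have h2 : (Q : Subgroup H).map H.subtype = (P : Subgroup S) := by
    apply Subgroup.eq_of_le_of_card_ge hP
    rw [h1]
    obtain ⟨k, hk⟩ := IsPGroup.iff_card.1 P.isPGroup'
    have h3 : 2 ^ k ∣ Nat.card H := h k (hk ▸ card_subgroup_dvd_card _)
    have h4 : 2 ^ k ∣ Nat.card (Q : Subgroup H) := by
      have := Q.pow_dvd_card_of_pow_dvd_card h3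
      exact this
    rw [hk]
    exact Nat.le_of_dvd Nat.card_pos h4
  refine ⟨P, ?_⟩
  rw [← h2]
  exact map_subtype_le _

end Cfsg.Agent.H86.RV
end

-- part: H86/RV/D4
section
/-!
# The subgroup `(SL₂ ∘ SL₂).2` of `G₂(E)` inside `D₄(E)` (helper86)
-/

set_option autoImplicit false
set_option maxHeartbeats 400000

namespace Cfsg.Agent.H86.RV

open Cfsg.Lie Cfsg.Agent.ChevalleyStructure
open Cfsg.Agent.ChevalleyStructure.Elts (InList)
open Cfsg.Agent.Omega.Lie.CenSL Cfsg.Agent.Omega.Lie.CenChev Cfsg.Agent.Omega.Lie.CenRGD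
open Cfsg.Agent.Nodes.RGDChev

universe u

theorem hp4 : IsType chevD4 4 coxeterD4 := by simp [IsType, typeList]

theorem hD4 : InList chevD4 := hp4.inList

section

variable {E : Type u} [Field E]

/-- `SL₂ → GL` for the root `r` -/
noncomputable def ps (E : Type u) [Field E] (r : ℕ) (hr : r < 24) : SL2 E →* GL chevD4.Idx E :=
  (chevD4.group E).subtype.comp (phiR hp4 E r hr)

theorem ps_up {r : ℕ} (hr : r < 24) (t : E) : ps E r hr (up t) = Elts.xG hD4 r t :=
  Units.ext (SL2Hom.phi_upper (goodR hp4 hr) (up t) t rfl)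

theorem ps_lo {r : ℕ} (hr : r < 24) (t : E) : ps E r hr (lo t) = Elts.xG hD4 (chevD4.neg r) t :=
  Units.ext (SL2Hom.phi_lower (goodR hp4 hr) (lo t) t rfl)

theorem odd_tab : ∀ r < 24, ∃ s < chevD4.nroots, ((RootCombGood.car chevD4 r s : ℤ) : ZMod 2) ≠ 0 := by
  have h : ∀ r < 24, ∃ s < 24, ((RootCombGood.car chevD4 r s : ℤ) : ZMod 2) ≠ 0 := by decide +kernel
  exact h

theorem ps_inj (h2 : (2 : E) ≠ 0) {r : ℕ} (hr : r < 24) : Function.Injective (ps E r hr) := by
  have h1 := phiV_inj hp4 (K := E) (r := r) hr (odd_tab r hr) h2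
  rw [phiV_vec hp4 hr] at h1
  exact (Subtype.val_injective).comp h1

/-! ### commuting pairs -/

theorem ps_comm {r s : ℕ} (hr : r < 24) (hs : s < 24) (hne : s ≠ r) (hneg : s ≠ chevD4.neg r)
    (h1 : chevD4.commTerms r s = []) (h2 : chevD4.commTerms r (chevD4.neg s) = [])
    (h3 : chevD4.commTerms (chevD4.neg r) s = []) (h4 : chevD4.commTerms (chevD4.neg r) (chevD4.neg s) = [])
    (N N' : SL2 E) : ps E s hs N * ps E r hr N' = ps E r hr N' * ps E s hs N := by
  have h5 := phi_comm hp4 (K := E) (r := r) (s := s) hr hs hne hneg h1 h2 h3 h4 N N'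
  rw [phiV_vec hp4 hr, phiV_vec hp4 hs] at h5
  exact congrArg Subtype.val h5

theorem comm_tab : ∀ r ∈ [18, 13, 12], ∀ s ∈ [23, 18, 13, 12], s ≠ r → s ≠ chevD4.neg r ∧
    chevD4.commTerms r s = [] ∧ chevD4.commTerms r (chevD4.neg s) = [] ∧
    chevD4.commTerms (chevD4.neg r) s = [] ∧ chevD4.commTerms (chevD4.neg r) (chevD4.neg s) = [] := by
  decide +kernel

theorem ps_comm' {r s : ℕ} (hr : r < 24) (hs : s < 24) (h1 : r ∈ [18, 13, 12]) (h2 : s ∈ [23, 18, 13, 12]) (h3 : s ≠ r)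
    (N N' : SL2 E) : ps E s hs N * ps E r hr N' = ps E r hr N' * ps E s hs N := by
  obtain ⟨a, b, c, d, e⟩ := comm_tab r h1 s h2 h3
  exact ps_comm hr hs h3 a b c d e N N'

/-! ### the torus -/

theorem coe_hGc {r : ℕ} (hr : r < 24) {c : E} (h0 : c ≠ 0) :
    ((Elts.hG hD4 r c : GL chevD4.Idx E) : Matrix chevD4.Idx chevD4.Idx E) =
      TorusConj.torus chevD4 E (fun s => Strings.cartanR chevD4 r s) c := by
  rw [Elts.coe_hG, StringMem.hMat_eq hD4 hr h0]
  rfl

theorem hG_x {r s : ℕ} (hr : r < 24) (hs : s < 24) {c : E} (h0 : c ≠ 0) (b : E) :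
    Elts.hG hD4 r c * Elts.xG hD4 s b * (Elts.hG hD4 r c)⁻¹ = Elts.xG hD4 s (c ^ Strings.cartanR chevD4 r s * b) := by
  rw [mul_inv_eq_iff_eq_mul]
  apply Units.ext
  rw [Units.val_mul, Units.val_mul, Elts.coe_xG, Elts.coe_xG, coe_hGc hr h0]
  exact TorusConj.torus_mul_x hp4.checked (additive_car hp4 r) h0 s b hs


theorem hG_ps {r : ℕ} (hr : r < 24) {c : E} (h0 : c ≠ 0) {d : E} (hd : d ≠ 0)
    (e1 : c ^ Strings.cartanR chevD4 14 r = d) (e2 : c ^ Strings.cartanR chevD4 14 (chevD4.neg r) = d⁻¹)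
    (hn : chevD4.neg r < 24) (N : SL2 E) :
    Elts.hG hD4 14 c * ps E r hr N * (Elts.hG hD4 14 c)⁻¹ = ps E r hr (dl d hd N) := by
  have h1 : (MulAut.conj (Elts.hG hD4 14 c)).toMonoidHom.comp (ps E r hr) = (ps E r hr).comp (dl d hd) := by
    apply hom_ext
    · intro t
      show Elts.hG hD4 14 c * ps E r hr (up t) * (Elts.hG hD4 14 c)⁻¹ = ps E r hr (dl d hd (up t))
      rw [dl_up, ps_up, ps_up, hG_x (by norm_num) hr h0, e1]
    · intro t
      show Elts.hG hD4 14 c * ps E r hr (lo t) * (Elts.hG hD4 14 c)⁻¹ = ps E r hr (dl d hd (lo t))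
      rw [dl_lo, ps_lo, ps_lo, hG_x (by norm_num) hn h0, e2]
  exact DFunLike.congr_fun h1 N

/-- `diag(c, c⁻¹)` -/
def dg (c : E) (h0 : c ≠ 0) : SL2 E := mk c 0 0 c⁻¹ (by rw [mul_inv_cancel₀ h0]; ring)

theorem ps_dg {r : ℕ} (hr : r < 24) {c : E} (h0 : c ≠ 0) : ps E r hr (dg c h0) = Elts.hG hD4 r c := by
  apply Units.ext
  rw [Elts.coe_hG, HMatDiagAll.hMat_eq_Phi (goodR hp4 hr) h0]
  exact coe_phiR hp4 hr (dg c h0)

theorem torus_add {m m' : ℕ → ℤ} {c : E} (h0 : c ≠ 0) :
    TorusConj.torus chevD4 E m c * TorusConj.torus chevD4 E m' c = TorusConj.torus chevD4 E (fun s => m s + m' s) c := by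
  rw [TorusConj.torus_def, TorusConj.torus_def, TorusConj.torus_def, Matrix.diagonal_mul_diagonal]
  congr 1
  funext i
  rcases i with i | s
  · show (1 : E) * 1 = 1
    ring
  · show c ^ m s.val * c ^ m' s.val = c ^ (m s.val + m' s.val)
    rw [zpow_add₀ h0]

theorem torus_congr {m m' : ℕ → ℤ} {c : E} (h : ∀ s < 24, m s = m' s) :
    TorusConj.torus chevD4 E m c = TorusConj.torus chevD4 E m' c := by
  rw [TorusConj.torus_def, TorusConj.torus_def]
  congr 1
  funext i
  rcases i with i | s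
  · rfl
  · show c ^ m s.val = c ^ m' s.val
    rw [h s.val s.isLt]

theorem sq_tab : ∀ s < 24, Strings.cartanR chevD4 14 s + Strings.cartanR chevD4 14 s +
    (Strings.cartanR chevD4 18 s + Strings.cartanR chevD4 13 s + Strings.cartanR chevD4 12 s) =
    Strings.cartanR chevD4 23 s := by
  decide +kernel

/-- **`h₁₄(c)² h₁₈(c) h₁₃(c) h₁₂(c) = h₂₃(c)`** -/
theorem hG_sq {c : E} (h0 : c ≠ 0) : Elts.hG hD4 14 c * Elts.hG hD4 14 c *
    (Elts.hG hD4 18 c * Elts.hG hD4 13 c * Elts.hG hD4 12 c) = Elts.hG hD4 23 c := by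
  apply Units.ext
  rw [Units.val_mul, Units.val_mul, Units.val_mul, Units.val_mul, coe_hGc (by norm_num) h0, coe_hGc (by norm_num) h0,
    coe_hGc (by norm_num) h0, coe_hGc (by norm_num) h0, coe_hGc (by norm_num) h0, torus_add h0, torus_add h0,
    torus_add h0, torus_add h0]
  exact torus_congr sq_tab

/-! ### the two homomorphisms -/

/-- the long root group of `G₂` -/
noncomputable def phi (E : Type u) [Field E] : SL2 E →* GL chevD4.Idx E := ps E 23 (by norm_num)

/-- the short root group of `G₂` -/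
noncomputable def psi (E : Type u) [Field E] : SL2 E →* GL chevD4.Idx E where
  toFun g := ps E 18 (by norm_num) g * ps E 13 (by norm_num) g * ps E 12 (by norm_num) g
  map_one' := by simp
  map_mul' g k := by
    have h1 := ps_comm' (E := E) (r := 13) (s := 18) (by norm_num) (by norm_num) (by simp) (by simp) (by norm_num) k g
    have h2 := ps_comm' (E := E) (r := 12) (s := 18) (by norm_num) (by norm_num) (by simp) (by simp) (by norm_num) k g
    have h3 := ps_comm' (E := E) (r := 12) (s := 13) (by norm_num) (by norm_num) (by simp) (by simp) (by norm_num) k g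
    rw [map_mul, map_mul, map_mul]
    calc ps E 18 (by norm_num) g * ps E 18 (by norm_num) k * (ps E 13 (by norm_num) g * ps E 13 (by norm_num) k) *
          (ps E 12 (by norm_num) g * ps E 12 (by norm_num) k)
        = ps E 18 (by norm_num) g * (ps E 18 (by norm_num) k * ps E 13 (by norm_num) g) *
          (ps E 13 (by norm_num) k * ps E 12 (by norm_num) g) * ps E 12 (by norm_num) k := by group
      _ = ps E 18 (by norm_num) g * (ps E 13 (by norm_num) g * ps E 18 (by norm_num) k) *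
          (ps E 12 (by norm_num) g * ps E 13 (by norm_num) k) * ps E 12 (by norm_num) k := by rw [h1, h3]
      _ = ps E 18 (by norm_num) g * ps E 13 (by norm_num) g * (ps E 18 (by norm_num) k *
          ps E 12 (by norm_num) g) * ps E 13 (by norm_num) k * ps E 12 (by norm_num) k := by group
      _ = ps E 18 (by norm_num) g * ps E 13 (by norm_num) g * (ps E 12 (by norm_num) g *
          ps E 18 (by norm_num) k) * ps E 13 (by norm_num) k * ps E 12 (by norm_num) k := by rw [h2]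
      _ = _ := by group

theorem psi_apply (g : SL2 E) : psi E g =
    ps E 18 (by norm_num) g * ps E 13 (by norm_num) g * ps E 12 (by norm_num) g := rfl

theorem phi_psi (a b : SL2 E) : phi E a * psi E b = psi E b * phi E a := by
  have h1 := ps_comm' (E := E) (r := 18) (s := 23) (by norm_num) (by norm_num) (by simp) (by simp) (by norm_num) a b
  have h2 := ps_comm' (E := E) (r := 13) (s := 23) (by norm_num) (by norm_num) (by simp) (by simp) (by norm_num) a b
  have h3 := ps_comm' (E := E) (r := 12) (s := 23) (by norm_num) (by norm_num) (by simp) (by simp) (by norm_num) a b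
  rw [psi_apply, phi, ← mul_assoc, ← mul_assoc, h1, mul_assoc _ (ps E 23 _ a), h2, ← mul_assoc,
    mul_assoc _ (ps E 23 _ a), h3, ← mul_assoc]

end

end Cfsg.Agent.H86.RV
end

-- part: H86/RV/D4M
section
/-!
# `G₂(E) ∩ ³D₄`: a subgroup of order divisible by `|SL₂(E)|²` (helper86)
-/

set_option autoImplicit false
set_option maxHeartbeats 400000

namespace Cfsg.Agent.H86.RV

open Cfsg.Lie Cfsg.Agent.ChevalleyStructure
open Cfsg.Agent.ChevalleyStructure.D4NConj Cfsg.Agent.ChevalleyStructure.D4NCheck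
open Cfsg.Agent.ChevalleyStructure.D4U
open Cfsg.Agent.Omega.Lie.CenSL Cfsg.Agent.Omega.Lie.CenChev Cfsg.Agent.Omega.Lie.CenRGD

universe u

section

variable {E : Type u} [Field E]

/-! ### `SL₂` -/

theorem of_comm {b : SL2 E} (h1 : up 1 * b = b * up 1) (h2 : lo 1 * b = b * lo 1) :
    b.1 0 1 = 0 ∧ b.1 1 0 = 0 ∧ b.1 0 0 = b.1 1 1 := by
  have e1 := congrArg (fun g : SL2 E => g.1 0 0) h1
  have e2 := congrArg (fun g : SL2 E => g.1 0 1) h1
  have e3 := congrArg (fun g : SL2 E => g.1 0 0) h2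
  simp only [mul_ent, up00, up01, up10, up11, lo00, lo01, lo10, lo11] at e1 e2 e3
  refine ⟨?_, ?_, ?_⟩
  · linear_combination -e3
  · linear_combination e1
  · linear_combination -e2

theorem eq_of_comm {b : SL2 E} (h1 : up 1 * b = b * up 1) (h2 : lo 1 * b = b * lo 1) :
    b = 1 ∨ b = dg (-1) (by simp) := by
  obtain ⟨h3, h4, h5⟩ := of_comm h1 h2
  have h6 := det_ent b
  rw [h3, h4, ← h5, mul_zero, sub_zero] at h6
  rcases mul_self_eq_one_iff.1 h6 with h7 | h7
  · left
    apply ext2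
    · rw [h7]; simp
    · rw [h3]; simp
    · rw [h4]; simp
    · rw [← h5, h7]; simp
  · right
    apply ext2
    · rw [h7]; simp [dg]
    · rw [h3]; simp [dg]
    · rw [h4]; simp [dg]
    · rw [← h5, h7]; simp [dg]

theorem dg_sq : (dg (-1) (by simp) : SL2 E) ^ 2 = 1 := by
  rw [pow_two]
  apply ext2 <;> simp [mul_ent, dg]

theorem card_center_dvd : Nat.card (Subgroup.center (SL2 E)) ∣ 2 := by
  have h1 : Subgroup.center (SL2 E) ≤ Subgroup.zpowers (dg (-1) (by simp)) := by
    intro x hx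
    rw [Subgroup.mem_center_iff] at hx
    rcases eq_of_comm (hx (up 1)) (hx (lo 1)) with h | h
    · rw [h]; exact one_mem _
    · rw [h]; exact Subgroup.mem_zpowers _
  refine (Subgroup.card_dvd_of_le h1).trans ?_
  rw [Nat.card_zpowers]
  exact orderOf_dvd_of_pow_eq_one dg_sq

/-- the diagonal automorphism of a nonsquare is not inner -/
theorem dl_ne {c : E} (h0 : c ≠ 0) (hc : ¬ IsSquare c) (a : SL2 E) : ∃ b, dl c h0 b ≠ a * b * a⁻¹ := by
  refine ⟨up 1, fun h => hc ?_⟩
  rw [dl_up, eq_mul_inv_iff_mul_eq, mul_one] at h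
  have e1 := congrArg (fun g : SL2 E => g.1 0 0) h
  have e2 := congrArg (fun g : SL2 E => g.1 0 1) h
  simp only [mul_ent, up00, up01, up10, up11] at e1 e2
  have h3 : a.1 1 0 = 0 := by
    have : c * a.1 1 0 = 0 := by linear_combination e1
    exact (mul_eq_zero.1 this).resolve_left h0
  have h4 : a.1 0 0 = c * a.1 1 1 := by linear_combination -e2
  have h5 := det_ent a
  rw [h3, h4, mul_zero, sub_zero] at h5
  refine ⟨(a.1 1 1)⁻¹, ?_⟩
  have h6 : a.1 1 1 ≠ 0 := by
    intro h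
    rw [h, mul_zero] at h5
    exact zero_ne_one h5
  field_simp
  linear_combination h5

/-! ### injectivity -/

theorem psi_dg {c : E} (h0 : c ≠ 0) : psi E (dg c h0) =
    Elts.hG hD4 18 c * Elts.hG hD4 13 c * Elts.hG hD4 12 c := by
  rw [psi_apply, ps_dg, ps_dg, ps_dg]

theorem sgn_tab : Strings.cartanR chevD4 18 14 = -1 ∧ Strings.cartanR chevD4 13 14 = -1 ∧
    Strings.cartanR chevD4 12 14 = -1 := by
  decide +kernel

theorem psi_inj (h2 : (2 : E) ≠ 0) : Function.Injective (psi E) := by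
  rw [injective_iff_map_eq_one]
  intro b hb
  have h1 : ∀ a : SL2 E, a * b = b * a := by
    intro a
    apply ps_inj h2 (r := 18) (by norm_num)
    rw [map_mul, map_mul]
    have e1 := ps_comm' (E := E) (r := 13) (s := 18) (by norm_num) (by norm_num) (by simp) (by simp) (by norm_num) a b
    have e2 := ps_comm' (E := E) (r := 12) (s := 18) (by norm_num) (by norm_num) (by simp) (by simp) (by norm_num) a b
    have e3 : ps E 18 (by norm_num) b = (ps E 13 (by norm_num) b * ps E 12 (by norm_num) b)⁻¹ := by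
      rw [eq_inv_iff_mul_eq_one, ← mul_assoc, ← psi_apply, hb]
    have e4 : Commute (ps E 18 (by norm_num) a) (ps E 13 (by norm_num) b * ps E 12 (by norm_num) b) :=
      Commute.mul_right e1 e2
    rw [e3]
    exact e4.inv_right
  rcases eq_of_comm (h1 (up 1)) (h1 (lo 1)) with h | h
  · exact h
  · exfalso
    rw [h, psi_dg] at hb
    have hm : (-1 : E) ≠ 0 := by simp
    have e1 := hG_x (E := E) (r := 18) (s := 14) (by norm_num) (by norm_num) hm (-1)
    have e2 := hG_x (E := E) (r := 13) (s := 14) (by norm_num) (by norm_num) hm 1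
    have e3 := hG_x (E := E) (r := 12) (s := 14) (by norm_num) (by norm_num) hm (-1)
    rw [sgn_tab.1] at e1
    rw [sgn_tab.2.1] at e2
    rw [sgn_tab.2.2] at e3
    simp only [zpow_neg, zpow_one, inv_neg, inv_one, mul_neg, neg_mul, one_mul, neg_neg] at e1 e2 e3
    have e4 : Elts.xG hD4 14 (-1 : E) = Elts.xG hD4 14 1 := by
      calc Elts.xG hD4 14 (-1 : E) = (Elts.hG hD4 18 (-1 : E) * Elts.hG hD4 13 (-1) * Elts.hG hD4 12 (-1)) *
            Elts.xG hD4 14 (-1) * (Elts.hG hD4 18 (-1) * Elts.hG hD4 13 (-1) * Elts.hG hD4 12 (-1))⁻¹ := by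
              rw [hb]; simp
        _ = Elts.hG hD4 18 (-1 : E) * (Elts.hG hD4 13 (-1) * (Elts.hG hD4 12 (-1) *
            Elts.xG hD4 14 (-1) * (Elts.hG hD4 12 (-1))⁻¹) * (Elts.hG hD4 13 (-1))⁻¹) *
            (Elts.hG hD4 18 (-1))⁻¹ := by group
        _ = _ := by rw [e3, e2, e1]
    have e5 : (2 : E) = 0 := by
      have e6 : ps E 14 (by norm_num) (up (-1)) = ps E 14 (by norm_num) (up 1) := by
        rw [ps_up, ps_up, e4]
      have e7 := congrArg (fun g : SL2 E => g.1 0 1) (ps_inj h2 (r := 14) (by norm_num) e6)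
      simp only [up01] at e7
      linear_combination -e7
    exact h2 e5

/-! ### membership -/

variable {q : ℕ}

theorem one_mem' (hq : ∀ x : E, x ^ q = x) {t : E} {r : ℕ} (hr : r ∈ [14, 9]) :
    Elts.xG hD4 r t ∈ twistedD4 E q := by
  simp only [List.mem_cons, List.not_mem_nil, or_false] at hr
  rcases hr with rfl | rfl
  · have h := D4Fixed.x14_mem (q := q) (hq t)
    exact h
  · have h := D4Fixed.x9_mem (q := q) (hq t)
    exact h

theorem id_pow (hq : ∀ x : E, x ^ q = x) : ∀ x : E, RingHom.id E x = x ^ q := fun x => (hq x).symm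

theorem t18_mem (hq : ∀ x : E, x ^ q = x) (t : E) :
    Elts.xG hD4 18 t * Elts.xG hD4 13 t * Elts.xG hD4 12 t ∈ twistedD4 E q := by
  have h := D4Fixed.X_mem (id_pow hq) t
  exact h

theorem t5_mem (hq : ∀ x : E, x ^ q = x) (t : E) :
    Elts.xG hD4 5 t * Elts.xG hD4 10 t * Elts.xG hD4 11 t ∈ twistedD4 E q := by
  have h := D4Fixed.Y_mem (id_pow hq) t
  exact h

theorem x23_mem (hq : ∀ x : E, x ^ q = x) (t : E) : Elts.xG hD4 23 t ∈ twistedD4 E q := by
  have h1 := Cfsg.Agent.Hexagon.TwD4Par.X4_mem (id_pow hq) (σ := RingEquiv.refl E) (fun _ => rfl) (t := -t) rfl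
  have h2 : Cfsg.Agent.Hexagon.TwD4Rel.X4 (-t) = Elts.xG hD4 23 t := by
    show Elts.xG hD4 23 (- -t) * 1 = _
    rw [neg_neg, mul_one]
  rwa [h2] at h1

theorem x0_mem (hq : ∀ x : E, x ^ q = x) (t : E) : Elts.xG hD4 0 t ∈ twistedD4 E q := by
  apply mem_of_conj (na_mem (id_pow hq))
  have h1 : na E * Elts.xG hD4 0 t * (na E)⁻¹ = Elts.xG hD4 1 (((-1 : ℤ) : E) * t) :=
    Cfsg.Agent.Hexagon.TwD4Par.na_c (s := 0) (s' := 1) (e := -1) (by norm_num) (by decide +kernel) t
  rw [h1]
  apply mem_of_conj (nb_mem (id_pow hq))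
  have h2 : nb E * Elts.xG hD4 1 (((-1 : ℤ) : E) * t) * (nb E)⁻¹ = Elts.xG hD4 9 _ :=
    Cfsg.Agent.Hexagon.TwD4Par.nb_c (s := 1) (s1 := 2) (s2 := 4) (s3 := 9) (e1 := -1) (e2 := -1) (e3 := 1)
      (by norm_num) (by norm_num) (by norm_num) (by decide +kernel) (by decide +kernel) (by decide +kernel) _
  rw [h2]
  exact one_mem' hq (by simp)

theorem range_le {Y : Type*} [Group Y] {f : SL2 E →* Y} {H : Subgroup Y} (h1 : ∀ t, f (up t) ∈ H)
    (h2 : ∀ t, f (lo t) ∈ H) : f.range ≤ H := by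
  rw [MonoidHom.range_eq_map, ← closure_up_lo, MonoidHom.map_closure, Subgroup.closure_le]
  rintro _ ⟨_, (⟨t, rfl⟩ | ⟨t, rfl⟩), rfl⟩
  · exact h1 t
  · exact h2 t

theorem phi_mem' (hq : ∀ x : E, x ^ q = x) : (phi E).range ≤ twistedD4 E q := by
  apply range_le
  · intro t
    rw [phi, ps_up]
    exact x23_mem hq t
  · intro t
    rw [phi, ps_lo]
    exact x0_mem hq t

theorem psi_mem' (hq : ∀ x : E, x ^ q = x) : (psi E).range ≤ twistedD4 E q := by
  apply range_le
  · intro t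
    rw [psi_apply, ps_up, ps_up, ps_up]
    exact t18_mem hq t
  · intro t
    rw [psi_apply, ps_lo, ps_lo, ps_lo]
    exact t5_mem hq t

theorem h14_mem (hq : ∀ x : E, x ^ q = x) {c : E} (h0 : c ≠ 0) : Elts.hG hD4 14 c ∈ twistedD4 E q := by
  have h1 : (ps E 14 (by norm_num)).range ≤ twistedD4 E q := by
    apply range_le
    · intro t
      rw [ps_up]
      exact one_mem' hq (by simp)
    · intro t
      rw [ps_lo]
      exact one_mem' hq (by decide)
  rw [← ps_dg (by norm_num) h0]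
  exact h1 ⟨_, rfl⟩

/-! ### the subgroup -/

theorem car14 : Strings.cartanR chevD4 14 23 = 1 ∧ Strings.cartanR chevD4 14 (chevD4.neg 23) = -1 ∧
    (∀ r ∈ [18, 13, 12], Strings.cartanR chevD4 14 r = -1 ∧ Strings.cartanR chevD4 14 (chevD4.neg r) = 1 ∧
      chevD4.neg r < 24) ∧ chevD4.neg 23 < 24 := by
  decide +kernel

/-- **a subgroup of `³D₄(q)`, defined over the field `E` of fixed points, of order divisible by `|SL₂(E)|²`** -/
theorem exists_sub [Finite E] (h2 : (2 : E) ≠ 0) (hq : ∀ x : E, x ^ q = x) :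
    ∃ H ≤ twistedD4 E q, Nat.card (SL2 E) * Nat.card (SL2 E) ∣ Nat.card H := by
  have hch : ringChar E ≠ 2 := by
    intro h
    apply h2
    have h3 := ringChar.Nat.cast_ringChar (R := E)
    rw [h] at h3
    exact_mod_cast h3
  obtain ⟨c, hc⟩ := FiniteField.exists_nonsquare hch
  have h0 : c ≠ 0 := by
    rintro rfl
    exact hc ⟨0, by simp⟩
  have h0' : c⁻¹ ≠ 0 := inv_ne_zero h0
  obtain ⟨t1, t2, t3, t4⟩ := car14
  refine ⟨(phi E).range ⊔ (psi E).range ⊔ Subgroup.zpowers (Elts.hG hD4 14 c), ?_, ?_⟩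
  · refine sup_le (sup_le (phi_mem' hq) (psi_mem' hq)) ?_
    rw [Subgroup.zpowers_le]
    exact h14_mem hq h0
  · refine sq_dvd (phi E) (psi E) (ps_inj h2 (by norm_num)) (psi_inj h2) phi_psi card_center_dvd
      (dl c h0) (dl c⁻¹ h0') ?_ ?_ (dl_ne h0 hc) ?_
    · intro a
      exact hG_ps (r := 23) (by norm_num) h0 h0 (by rw [t1, zpow_one]) (by rw [t2, zpow_neg, zpow_one]) t4 a
    · intro a
      have key : ∀ (r : ℕ) (hr : r < 24), r ∈ [18, 13, 12] →
          Elts.hG hD4 14 c * ps E r hr a * (Elts.hG hD4 14 c)⁻¹ = ps E r hr (dl c⁻¹ h0' a) := by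
        intro r hr hr'
        obtain ⟨u1, u2, u3⟩ := t3 r hr'
        exact hG_ps hr h0 h0' (by rw [u1, zpow_neg, zpow_one]) (by rw [u2, zpow_one, inv_inv]) u3 a
      rw [psi_apply, psi_apply, ← key 18 (by norm_num) (by simp), ← key 13 (by norm_num) (by simp),
        ← key 12 (by norm_num) (by simp)]
      group
    · have e1 := hG_sq h0
      rw [← psi_dg h0] at e1
      have e2 : Elts.hG hD4 14 c * Elts.hG hD4 14 c = Elts.hG hD4 23 c * (psi E (dg c h0))⁻¹ := by
        rw [← e1, mul_inv_cancel_right]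
      rw [e2, ← ps_dg (by norm_num) h0]
      exact mul_mem ((le_sup_left : (phi E).range ≤ _) ⟨_, rfl⟩)
        (inv_mem ((le_sup_right : (psi E).range ≤ _) ⟨_, rfl⟩))

end

end Cfsg.Agent.H86.RV
end

private theorem dce_d33148fbd46c : _root_.True := by
  try have : _root_.True := by simp only [_root_.Cfsg.Agent.H86.RV.dg.eq_1]
  try have : _root_.True := by simp only [_root_.Cfsg.Agent.H86.RV.phi.eq_1]
  try have : _root_.True := by simp only [_root_.Cfsg.Agent.H86.RV.ps.congr_simp]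
  exact _root_.True.intro
end

-- part: H686/AO/Char_mg
section
prune_inst 0x1100090054e2100000000500b00000443400009200400400040000400008020209400801b4301112100880006008004002dc00000000000000000400000104011080020020400000200000000000000000000000000000000000000000000004200000000
set_option linter.all false
open scoped Cfsg.Agent.FastGrp

-- part: H686/AO/Chain
section
/-!
# Divisibility of indices through orbits of the conjugation action
-/

set_option autoImplicit false

namespace Cfsg.Agent.H686.AO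

open Subgroup
open scoped Pointwise

theorem dvd_relIndex {G : Type*} [Group G] {α : Type*} [MulAction G α] {A B : Subgroup G}
    {x : α} (hA : ∀ a ∈ A, a • x = x) {ι : Type*} (e : ι → α)
    (he : Function.Injective e) (h1 : ∀ b ∈ B, ∃ i, e i = b • x) (h2 : ∀ i, ∃ b ∈ B, b • x = e i) :
    Nat.card ι ∣ A.relIndex B := by
  have h3 : MulAction.orbit B x = Set.range e := by
    ext y
    constructor
    · rintro ⟨b, rfl⟩
      obtain ⟨i, hi⟩ := h1 b b.2
      exact ⟨i, hi⟩
    · rintro ⟨i, rfl⟩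
      obtain ⟨b, hb, hbi⟩ := h2 i
      exact ⟨⟨b, hb⟩, hbi⟩
  have h4 : (MulAction.stabilizer B x).index = Nat.card ι := by
    rw [MulAction.index_stabilizer, h3, Set.ncard_range_of_injective he]
  rw [← h4]
  refine Subgroup.index_dvd_of_le ?_
  intro a ha
  rw [MulAction.mem_stabilizer_iff]
  exact hA a ha

theorem dvd_relIndex_conj {G : Type*} [Group G] {A B : Subgroup G} {X : Subgroup G}
    (hA : ∀ a ∈ A, MulAut.conj a • X = X) {ι : Type*} (e : ι → Subgroup G)
    (he : Function.Injective e) (h1 : ∀ b ∈ B, ∃ i, e i = MulAut.conj b • X)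
    (h2 : ∀ i, ∃ b ∈ B, MulAut.conj b • X = e i) :
    Nat.card ι ∣ A.relIndex B := by
  let _ : MulAction G (Subgroup G) := MulAction.compHom (Subgroup G) (MulAut.conj : G →* MulAut G)
  exact dvd_relIndex (x := X) hA e he h1 h2

/-- **the step with `L`** -/
theorem dvd_relIndex_sup {G : Type*} [Group G] {A L : Subgroup G} {X : Subgroup G}
    (hA : ∀ a ∈ A, MulAut.conj a • X = X) (hL : ∀ a ∈ A, MulAut.conj a • L = L) {ι : Type*}
    (e : ι → Subgroup G) (he : Function.Injective e) (h1 : ∀ b ∈ L, ∃ i, e i = MulAut.conj b • X)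
    (h2 : ∀ i, ∃ b ∈ L, MulAut.conj b • X = e i) :
    Nat.card ι ∣ A.relIndex (A ⊔ L) := by
  refine dvd_relIndex_conj hA e he ?_ ?_
  · intro b hb
    have hn : A ≤ normalizer (L : Set G) := by
      intro a ha
      rw [mem_normalizer_iff]
      intro x
      have := hL a ha
      constructor
      · intro hx
        rw [← this]
        exact ⟨x, hx, rfl⟩
      · intro hx
        rw [← this] at hx
        obtain ⟨y, hy, hyx⟩ := hx
        have : y = x := (MulAut.conj a).injective hyx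
        rwa [← this]
    rw [sup_comm] at hb
    have hb' : b ∈ (L : Set G) * (A : Set G) := by
      rw [← SetLike.mem_coe] at hb
      rwa [Subgroup.coe_mul_of_right_le_normalizer_left _ _ hn] at hb
    obtain ⟨l, hl, a, ha, rfl⟩ := hb'
    rw [map_mul, mul_smul, hA a ha]
    exact h1 l hl
  · intro i
    obtain ⟨b, hb, hbi⟩ := h2 i
    exact ⟨b, mem_sup_right hb, hbi⟩

/-- **the step with a swap** -/
theorem two_dvd_relIndex_sup {G : Type*} [Group G] {A : Subgroup G} {g : G} {X Y : Subgroup G}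
    (hX : ∀ a ∈ A, MulAut.conj a • X = X) (hY : ∀ a ∈ A, MulAut.conj a • Y = Y)
    (h1 : MulAut.conj g • X = Y) (h2 : MulAut.conj g • Y = X) (hne : X ≠ Y) :
    2 ∣ A.relIndex (A ⊔ zpowers g) := by
  have h3 : Nat.card Bool ∣ A.relIndex (A ⊔ zpowers g) := by
    refine dvd_relIndex_conj hX (fun b => if b then X else Y) ?_ ?_ ?_
    · intro a b hab
      cases a <;> cases b <;> simp_all only [_root_.ne_eq, _root_.Bool.false_eq_true, ↓ _root_.reduceIte, _root_.implies_true, _root_.not_true_eq_false]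
    · let N : Subgroup G :=
        { carrier := {b | (MulAut.conj b • X = X ∧ MulAut.conj b • Y = Y) ∨
            (MulAut.conj b • X = Y ∧ MulAut.conj b • Y = X)}
          one_mem' := Or.inl (by simp)
          mul_mem' := by
            intro a b ha hb
            simp only [Set.mem_ofPred_eq, map_mul, mul_smul] at *
            rcases ha with ⟨ha1, ha2⟩ | ⟨ha1, ha2⟩ <;> rcases hb with ⟨hb1, hb2⟩ | ⟨hb1, hb2⟩ <;>
              simp [ha1, ha2, hb1, hb2]
          inv_mem' := by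
            intro a ha
            simp only [Set.mem_ofPred_eq, map_inv, inv_smul_eq_iff] at *
            rcases ha with ⟨ha1, ha2⟩ | ⟨ha1, ha2⟩
            · exact Or.inl ⟨ha1.symm, ha2.symm⟩
            · exact Or.inr ⟨ha2.symm, ha1.symm⟩ }
      have hle : A ⊔ zpowers g ≤ N := by
        rw [sup_le_iff, zpowers_le]
        exact ⟨fun a ha => Or.inl ⟨hX a ha, hY a ha⟩, Or.inr ⟨h1, h2⟩⟩
      intro b hb
      rcases hle hb with h | h
      · exact ⟨true, by simp [h.1]⟩
      · exact ⟨false, by simp [h.1]⟩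
    · intro b
      cases b
      · exact ⟨g, mem_sup_right (mem_zpowers g), by simpa using h1⟩
      · exact ⟨1, one_mem _, by simp⟩
  simpa only [_root_.Nat.card_eq_fintype_card, _root_.Fintype.card_bool] using h3

end Cfsg.Agent.H686.AO
end

-- part: H686/AO/SLq
section
/-!
# The groups `SL₂(q)` of the `σ`-fixed roots in `²E₆(q)`

`Rq φ r = X_r ∩ fix φ`, `Lq φ r = ⟨Rq φ r, Rq φ (-r)⟩`.
-/

set_option autoImplicit false

namespace Cfsg.Agent.H686.AO

open Subgroup Cfsg Cfsg.Lie Cfsg.Agent.ChevalleyStructure Cfsg.Agent.ChevalleyStructure.Elts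
open Cfsg.Agent.ChevalleyStructure.SL2Hom (up lo)
open Cfsg.Agent.ChevalleyStructure.TwE6Basic Cfsg.Agent.ChevalleyStructure.GraphSymm
open scoped Pointwise Matrix

universe u

variable {K : Type u} [Field K]

/-- the homomorphism of the root `r` -/
noncomputable def PP (r : Fin 72) : Matrix.SpecialLinearGroup (Fin 2) K →* GL chevE6.Idx K :=
  SL2Hom.phi (SL2All.good_of_mem chevE6 hE6 r.val r.isLt) K

theorem PP_up (r : Fin 72) (t : K) : PP r (up t) = x r.val t :=
  Units.ext (SL2Hom.phi_upper _ _ t rfl)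

theorem PP_lo (r : Fin 72) (t : K) : PP r (lo t) = x (Fin.rev r).val t := by
  rw [← neg_eq]
  exact Units.ext (SL2Hom.phi_lower _ _ t rfl)

theorem PP_ker (r : Fin 72) (g : Matrix.SpecialLinearGroup (Fin 2) K) (hg : PP r g = 1) :
    g = 1 ∨ g = -1 := Cfsg.Agent.OddHalf.LongSL.Chev.phi_eq_one _ hg

/-- the root subgroup -/
abbrev XX (K : Type u) [Field K] (r : Fin 72) : Subgroup (GL chevE6.Idx K) := chevE6.rootSubgroup K r.val

theorem mem_XX {r : Fin 72} {g : GL chevE6.Idx K} : g ∈ XX K r ↔ ∃ t : K, g = PP r (up t) := by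
  rw [mem_X]
  simp only [PP_up]

theorem mem_XX' {r : Fin 72} {g : GL chevE6.Idx K} : g ∈ XX K (Fin.rev r) ↔ ∃ t : K, g = PP r (lo t) := by
  rw [mem_X]
  simp only [PP_lo]

theorem conj_smul_eq {G : Type*} [Group G] {g : G} {X Y : Subgroup G}
    (h1 : ∀ x ∈ X, g * x * g⁻¹ ∈ Y) (h2 : ∀ y ∈ Y, g⁻¹ * y * g ∈ X) : MulAut.conj g • X = Y := by
  ext y
  rw [Subgroup.mem_pointwise_smul_iff_inv_smul_mem, ← map_inv, MulAut.smul_def, MulAut.conj_apply,
    inv_inv]
  constructor
  · intro h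
    have := h1 _ h
    have e : g * (g⁻¹ * y * g) * g⁻¹ = y := by group
    rwa [e] at this
  · exact h2 y

theorem sl_ext_mul {A B C D : Matrix.SpecialLinearGroup (Fin 2) K} (h : A.1 * B.1 = C.1 * D.1) :
    A * B = C * D := Subtype.ext h

theorem det2 (g : Matrix.SpecialLinearGroup (Fin 2) K) :
    g.1 0 0 * g.1 1 1 - g.1 0 1 * g.1 1 0 = 1 := by
  rw [← Matrix.det_fin_two]; exact g.2

/-- upper triangular elements normalise the root subgroup -/
theorem conj_upper (r : Fin 72) {g : Matrix.SpecialLinearGroup (Fin 2) K} (hg : g.1 1 0 = 0) :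
    MulAut.conj (PP r g) • XX K r = XX K r := by
  have key : ∀ g : Matrix.SpecialLinearGroup (Fin 2) K, g.1 1 0 = 0 → ∀ y ∈ XX K r,
      PP r g * y * (PP r g)⁻¹ ∈ XX K r := by
    intro g hg y hy
    obtain ⟨t, rfl⟩ := mem_XX.1 hy
    have hd := det2 g
    rw [hg, mul_zero, sub_zero] at hd
    have h1 : g * up t = up (g.1 0 0 * g.1 0 0 * t) * g := by
      apply sl_ext_mul
      show g.1 * !![1, t; 0, 1] = !![1, g.1 0 0 * g.1 0 0 * t; 0, 1] * g.1
      ext i j
      (revert i j; simp only [Matrix.mul_apply, Fin.sum_univ_two, hg, _root_.Fin.forall_fin_succ, _root_.Matrix.of_apply, _root_.Matrix.cons_val', _root_.Matrix.cons_val_fin_one, Fin.isValue, _root_.Matrix.cons_val_zero, _root_.Matrix.cons_val_one, _root_.mul_one, _root_.MulZeroClass.mul_zero, _root_.add_zero, _root_.Matrix.cons_val_succ, _root_.Fin.succ_zero_eq_one, _root_.IsEmpty.forall_iff, _root_.one_mul, _root_.MulZeroClass.zero_mul, _root_.zero_add, _root_.and_true, _root_.true_and]) <;>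 (repeat' with_reducible apply And.intro)
      linear_combination (-(g.1 0 0 * t)) * hd
    rw [← map_mul, h1, map_mul, mul_inv_cancel_right]
    exact mem_XX.2 ⟨_, rfl⟩
  refine conj_smul_eq (key g hg) ?_
  intro y hy
  have h1 := key g⁻¹ (by
    have : (g⁻¹).1 = g.1.adjugate := rfl
    rw [this, Matrix.adjugate_fin_two]
    simp [hg]) y hy
  rwa [map_inv, inv_inv] at h1

/-- the Weyl element -/
def ww : Matrix.SpecialLinearGroup (Fin 2) K := ⟨!![0, -1; 1, 0], by simp [Matrix.det_fin_two]⟩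

theorem ww_eq : (ww : Matrix.SpecialLinearGroup (Fin 2) K) = up (-1) * lo 1 * up (-1) := by
  apply Subtype.ext
  show !![0, -1; 1, 0] = (!![1, -1; 0, 1] * !![1, 0; 1, 1]) * !![1, -1; 0, (1 : K)]
  ext i j
  (revert i j; simp only [Matrix.mul_apply, Fin.sum_univ_two, _root_.Fin.forall_fin_succ, _root_.Matrix.of_apply, _root_.Matrix.cons_val', _root_.Matrix.cons_val_fin_one, _root_.Matrix.cons_mul, _root_.Nat.succ_eq_add_one, Nat.reduceAdd, _root_.Matrix.vecMul_cons, _root_.Matrix.head_cons, _root_.one_smul, _root_.Matrix.tail_cons, _root_.neg_smul, _root_.Matrix.neg_cons, _root_.Matrix.neg_empty, _root_.Matrix.empty_vecMul, _root_.add_zero, _root_.Matrix.add_cons, _root_.add_neg_cancel, _root_.zero_add, _root_.Matrix.empty_add_empty, _root_.zero_smul, _root_.Matrix.empty_mul, _root_.Equiv.symm_apply_apply, Fin.isValue, _root_.Matrix.cons_val_zero, _root_.Matrix.cons_val_one, _root_.mul_one, _root_.MulZeroClass.mul_zero, _root_.Matrix.cons_val_succ, _root_.mul_neg,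 _root_.forall_const, _root_.true_and, _root_.neg_zero, _root_.neg_add_cancel, _root_.implies_true, _root_.and_self])

theorem conj_ww (r : Fin 72) : MulAut.conj (PP r (ww : Matrix.SpecialLinearGroup (Fin 2) K)) • XX K r = XX K (Fin.rev r) := by
  have h1 : ∀ t : K, ww * up t = lo (-t) * ww := by
    intro t
    apply sl_ext_mul
    show !![0, -1; 1, 0] * !![1, t; 0, 1] = !![1, 0; -t, 1] * !![0, -1; 1, (0 : K)]
    ext i j
    (revert i j; simp only [Matrix.mul_apply, Fin.sum_univ_two, _root_.Fin.forall_fin_succ, _root_.Matrix.of_apply, _root_.Matrix.cons_val', _root_.Matrix.cons_val_fin_one, Fin.isValue, _root_.Matrix.cons_val_zero, _root_.Matrix.cons_val_one, _root_.mul_one, _root_.MulZeroClass.mul_zero, _root_.add_zero, _root_.zero_add, _root_.Matrix.cons_val_succ, _root_.mul_neg, _root_.forall_const, _root_.true_and, _root_.MulZeroClass.zero_mul, _root_.one_mul, _root_.neg_neg, _root_.implies_true, _root_.and_self])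
  refine conj_smul_eq ?_ ?_
  · intro y hy
    obtain ⟨t, rfl⟩ := mem_XX.1 hy
    rw [← map_mul, h1, map_mul, mul_inv_cancel_right]
    exact mem_XX'.2 ⟨_, rfl⟩
  · intro y hy
    obtain ⟨t, rfl⟩ := mem_XX'.1 hy
    have h2 := h1 (-t)
    rw [neg_neg] at h2
    rw [mul_assoc, ← map_mul, ← h2, map_mul, inv_mul_cancel_left]
    exact mem_XX.2 ⟨_, rfl⟩

/-- the points of the orbit -/
noncomputable def pt (φ : K →+* K) (r : Fin 72) : Option {t : K // φ t = t} → Subgroup (GL chevE6.Idx K)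
  | none => XX K r
  | some t => MulAut.conj (PP r (up (t : K))) • XX K (Fin.rev r)

theorem XX_ne (r : Fin 72) : XX K r ≠ XX K (Fin.rev r) := by
  intro h
  have h1 : PP r (lo (1 : K)) ∈ XX K r := by
    rw [h]
    exact mem_XX'.2 ⟨1, rfl⟩
  obtain ⟨s, hs⟩ := mem_XX.1 h1
  have h2 : PP r (lo 1 * (up s)⁻¹) = 1 := by rw [map_mul, map_inv, hs, mul_inv_cancel]
  have h3 : lo 1 = up s ∨ lo 1 = -up s := by
    rcases PP_ker r _ h2 with h | h
    · exact Or.inl (mul_inv_eq_one.1 h)
    · right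
      rw [mul_inv_eq_iff_eq_mul] at h
      rw [h, neg_mul, one_mul]
  rcases h3 with h | h
  · have : (1 : K) = 0 := congrFun (congrFun (congrArg Subtype.val h) 1) 0
    exact one_ne_zero this
  · have : (1 : K) = -0 := congrFun (congrFun (congrArg Subtype.val h) 1) 0
    rw [neg_zero] at this
    exact one_ne_zero this

theorem up_add (a b : K) : up a * up b = up (a + b) := by
  apply Subtype.ext
  show !![1, a; 0, 1] * !![1, b; 0, 1] = !![1, a + b; 0, 1]
  ext i j
  (revert i j; simp only [Matrix.mul_apply, Fin.sum_univ_two, add_comm, _root_.Fin.forall_fin_succ, _root_.Matrix.of_apply, _root_.Matrix.cons_val', _root_.Matrix.cons_val_fin_one, Fin.isValue, _root_.Matrix.cons_val_zero, _root_.Matrix.cons_val_one, _root_.mul_one, _root_.MulZeroClass.mul_zero, _root_.zero_add, _root_.Matrix.cons_val_succ, _root_.forall_const, _root_.true_and, _root_.one_mul, _root_.MulZeroClass.zero_mul, _root_.implies_true, _root_.and_self])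

theorem up_zero : up (0 : K) = 1 := by
  apply Subtype.ext
  show !![1, (0 : K); 0, 1] = 1
  ext i j
  (revert i j; simp only [_root_.Fin.forall_fin_succ, _root_.Matrix.of_apply, _root_.Matrix.cons_val', _root_.Matrix.cons_val_fin_one, Fin.isValue, _root_.Matrix.cons_val_zero, _root_.Matrix.cons_val_succ, _root_.IsEmpty.forall_iff, _root_.and_true, _root_.Matrix.one_apply_eq, Nat.reduceAdd, _root_.Fin.succ_zero_eq_one, _root_.ne_eq, _root_.zero_ne_one, _root_.not_false_eq_true, _root_.Matrix.one_apply_ne, _root_.and_self, _root_.Fin.succ_ne_zero, _root_.true_and])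

/-- only the identity of `X_r` normalises `X_{-r}` -/
theorem eq_zero_of_conj (r : Fin 72) {u : K}
    (h : MulAut.conj (PP r (up u)) • XX K (Fin.rev r) = XX K (Fin.rev r)) : u = 0 := by
  have h1 : PP r (up u) * PP r (lo 1) * (PP r (up u))⁻¹ ∈ XX K (Fin.rev r) := by
    rw [← h]
    exact ⟨PP r (lo 1), mem_XX'.2 ⟨1, rfl⟩, rfl⟩
  obtain ⟨v, hv⟩ := mem_XX'.1 h1
  have h2 : PP r (up u * lo 1 * (up u)⁻¹ * (lo v)⁻¹) = 1 := by
    rw [map_mul, map_mul, map_mul, map_inv, map_inv, hv, mul_inv_cancel]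
  have h3 : up u * lo 1 = lo v * up u ∨ up u * lo 1 = -(lo v * up u) := by
    rcases PP_ker r _ h2 with h | h
    · left
      rw [mul_inv_eq_one, mul_inv_eq_iff_eq_mul] at h
      exact h
    · right
      rw [mul_inv_eq_iff_eq_mul, mul_inv_eq_iff_eq_mul] at h
      rw [h, neg_mul, neg_mul, one_mul]
  have e1 : (up u * lo (1 : K)).1 = !![1 + u, u; 1, 1] := by
    show !![1, u; 0, 1] * !![1, 0; 1, 1] = _
    ext i j
    (revert i j; simp only [Matrix.mul_apply, Fin.sum_univ_two, _root_.Fin.forall_fin_succ, _root_.Matrix.of_apply, _root_.Matrix.cons_val', _root_.Matrix.cons_val_fin_one, Fin.isValue, _root_.Matrix.cons_val_zero, _root_.Matrix.cons_val_one, _root_.mul_one, _root_.Matrix.cons_val_succ, _root_.MulZeroClass.mul_zero, _root_.zero_add, _root_.implies_true, _root_.and_true, _root_.and_self])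
  have e2 : (lo v * up u).1 = !![1, u; v, v * u + 1] := by
    show !![1, 0; v, 1] * !![1, u; 0, 1] = _
    ext i j
    (revert i j; simp only [Matrix.mul_apply, Fin.sum_univ_two, _root_.Fin.forall_fin_succ, _root_.Matrix.of_apply, _root_.Matrix.cons_val', _root_.Matrix.cons_val_fin_one, Fin.isValue, _root_.Matrix.cons_val_zero, _root_.Matrix.cons_val_one, _root_.mul_one, _root_.MulZeroClass.mul_zero, _root_.add_zero, _root_.Matrix.cons_val_succ, _root_.forall_const, _root_.true_and, _root_.one_mul, _root_.implies_true, _root_.and_self])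
  rcases h3 with h | h
  · have h4 := congrArg Subtype.val h
    rw [e1, e2] at h4
    have h5 := congrFun (congrFun h4 0) 0
    simpa using h5
  · have h4 : !![1 + u, u; 1, 1] = -!![1, u; v, v * u + 1] := by
      rw [← e1, ← e2]
      exact congrArg Subtype.val h
    have h5 := congrFun (congrFun h4 0) 0
    have h6 := congrFun (congrFun h4 0) 1
    have h7 := congrFun (congrFun h4 1) 0
    have h8 := congrFun (congrFun h4 1) 1
    simp only [_root_.Fin.isValue, _root_.Matrix.of_apply, _root_.Matrix.cons_val', _root_.Matrix.cons_val_zero, _root_.Matrix.cons_val_fin_one, _root_.Matrix.neg_apply, _root_.Matrix.cons_val_one, _root_.neg_add_rev] at h5 h6 h7 h8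
    -- `v = -1`, `u = -u`, `2 + u = 0`, `1 = -(v u + 1)`
    have hv : v = -1 := by linear_combination h7
    rw [hv] at h8
    -- `1 = u - 1`
    have : u = 2 := by linear_combination -h8
    rw [this] at h5
    have h9 : (4 : K) = 0 := by linear_combination h5
    have h10 : (2 : K) = 0 := by
      have : (2 : K) * 2 = 0 := by linear_combination h9
      exact mul_self_eq_zero.1 this
    rw [this, h10]

theorem pt_injective (φ : K →+* K) (r : Fin 72) : Function.Injective (pt φ r) := by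
  have key : ∀ t : K, XX K r ≠ MulAut.conj (PP r (up t)) • XX K (Fin.rev r) := by
    intro t h
    apply XX_ne (K := K) r
    have h1 := conj_upper (K := K) r (g := up (-t)) rfl
    rw [h, smul_smul, ← map_mul, ← map_mul, up_add, neg_add_cancel, up_zero, map_one, map_one,
      one_smul] at h1
    exact h.trans h1.symm
  intro a b hab
  rcases a with _ | a <;> rcases b with _ | b
  · rfl
  · exact absurd hab (key _)
  · exact absurd hab.symm (key _)
  · congr 1
    apply Subtype.ext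
    have h1 : MulAut.conj (PP r (up (a : K))) • XX K (Fin.rev r) =
      MulAut.conj (PP r (up (b : K))) • XX K (Fin.rev r) := hab
    have h2 : MulAut.conj (PP r (up ((a : K) - b))) • XX K (Fin.rev r) = XX K (Fin.rev r) := by
      rw [sub_eq_neg_add, ← up_add, map_mul, map_mul, mul_smul, h1, ← mul_smul, ← map_mul, ← map_mul,
        up_add, neg_add_cancel, up_zero, map_one, map_one, one_smul]
    exact sub_eq_zero.1 (eq_zero_of_conj r h2)

/-- the fixed subfield -/
def kq (φ : K →+* K) : Subfield K := φ.eqLocusField (RingHom.id K)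

/-- the root group over the small field -/
def Rq (φ : K →+* K) (r : Fin 72) : Subgroup (GL chevE6.Idx K) := XX K r ⊓ fix φ

/-- the rank one group over the small field -/
def Lq (φ : K →+* K) (r : Fin 72) : Subgroup (GL chevE6.Idx K) := Rq φ r ⊔ Rq φ (Fin.rev r)

theorem eps_fixed : ∀ r : Fin 72, rho r = r → epsE r = 1 := by decide +kernel

theorem rev_fixed : ∀ r : Fin 72, rho r = r → rho (Fin.rev r) = Fin.rev r := by
  intro r hr
  rw [rho_rev, hr]

theorem mem_Rq {φ : K →+* K} {r : Fin 72} (hr : rho r = r) {g : GL chevE6.Idx K} :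
    g ∈ Rq φ r ↔ ∃ t : K, φ t = t ∧ g = x r.val t := by
  unfold Rq
  rw [Subgroup.mem_inf, mem_X, mem_fix]
  have hs : ∀ t : K, sg φ (x r.val t) = x r.val (φ t) := by
    intro t
    have h1 := sg_x φ r t
    have h2 : symmE6.ε r = 1 := eps_fixed r hr
    rw [h2, Int.cast_one, one_mul, hr] at h1
    exact h1
  constructor
  · rintro ⟨⟨t, rfl⟩, h⟩
    rw [hs] at h
    exact ⟨t, x_injective r.isLt h, rfl⟩
  · rintro ⟨t, ht, rfl⟩
    exact ⟨⟨t, rfl⟩, by rw [hs, ht]⟩

theorem exists_PP {φ : K →+* K} {r : Fin 72} (hr : rho r = r) {l : GL chevE6.Idx K} (hl : l ∈ Lq φ r) :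
    ∃ g : Matrix.SpecialLinearGroup (Fin 2) (kq φ),
      l = PP r (Matrix.SpecialLinearGroup.map (kq φ).subtype g) := by
  have h1 : Lq φ r ≤ ((PP r).comp (Matrix.SpecialLinearGroup.map (kq φ).subtype)).range := by
    refine sup_le ?_ ?_
    · intro y hy
      obtain ⟨t, ht, rfl⟩ := (mem_Rq hr).1 hy
      refine ⟨up ⟨t, ht⟩, ?_⟩
      show PP r (Matrix.SpecialLinearGroup.map (kq φ).subtype (up ⟨t, ht⟩)) = _
      rw [← PP_up]
      congr 1
      apply Subtype.ext
      show (kq φ).subtype.mapMatrix (up ⟨t, ht⟩).1 = (up (t : K)).1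
      ext i j
      (revert i j; simp only [up, _root_.Fin.forall_fin_succ, _root_.RingHom.mapMatrix_apply, _root_.Subfield.coe_subtype, _root_.Matrix.map_apply, _root_.Matrix.of_apply, _root_.Matrix.cons_val', _root_.Matrix.cons_val_fin_one, Fin.isValue, _root_.Matrix.cons_val_zero, _root_.Matrix.cons_val_succ, _root_.forall_const, _root_.OneMemClass.coe_one, _root_.and_self, _root_.ZeroMemClass.coe_zero, _root_.implies_true])
    · intro y hy
      obtain ⟨t, ht, rfl⟩ := (mem_Rq (rev_fixed r hr)).1 hy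
      refine ⟨lo ⟨t, ht⟩, ?_⟩
      show PP r (Matrix.SpecialLinearGroup.map (kq φ).subtype (lo ⟨t, ht⟩)) = _
      rw [← PP_lo]
      congr 1
      apply Subtype.ext
      show (kq φ).subtype.mapMatrix (lo ⟨t, ht⟩).1 = (lo (t : K)).1
      ext i j
      (revert i j; simp only [lo, _root_.Fin.forall_fin_succ, _root_.RingHom.mapMatrix_apply, _root_.Subfield.coe_subtype, _root_.Matrix.map_apply, _root_.Matrix.of_apply, _root_.Matrix.cons_val', _root_.Matrix.cons_val_fin_one, Fin.isValue, _root_.Matrix.cons_val_zero, _root_.Matrix.cons_val_succ, _root_.forall_const, _root_.OneMemClass.coe_one, _root_.ZeroMemClass.coe_zero, _root_.and_self, _root_.implies_true])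
  obtain ⟨g, hg⟩ := h1 hl
  exact ⟨g, hg.symm⟩

theorem pt_of_mem {φ : K →+* K} {r : Fin 72} (hr : rho r = r) {l : GL chevE6.Idx K} (hl : l ∈ Lq φ r) :
    ∃ i, pt φ r i = MulAut.conj l • XX K r := by
  obtain ⟨g, rfl⟩ := exists_PP hr hl
  set g' : Matrix.SpecialLinearGroup (Fin 2) K := Matrix.SpecialLinearGroup.map (kq φ).subtype g with hg'
  have hent : ∀ i j, g'.1 i j = ((g.1 i j : kq φ) : K) := fun i j => rfl
  by_cases hc : g.1 1 0 = 0
  · refine ⟨none, ?_⟩
    rw [conj_upper r (g := g') (by rw [hent, hc]; rfl)]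
    rfl
  · have hc' : g'.1 1 0 ≠ 0 := by
      rw [hent]
      intro h
      exact hc (Subtype.ext h)
    refine ⟨some ⟨((g.1 0 0 / g.1 1 0 : kq φ) : K), (g.1 0 0 / g.1 1 0 : kq φ).2⟩, ?_⟩
    show MulAut.conj (PP r (up ((g.1 0 0 / g.1 1 0 : kq φ) : K))) • XX K (Fin.rev r) = _
    have hdiv : ((g.1 0 0 / g.1 1 0 : kq φ) : K) = g'.1 0 0 / g'.1 1 0 := rfl
    rw [hdiv]
    have hd := det2 g'
    let v : Matrix.SpecialLinearGroup (Fin 2) K :=
      ⟨!![g'.1 1 0, g'.1 1 1; 0, (g'.1 1 0)⁻¹], by simp [Matrix.det_fin_two, hc']⟩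
    have h1 : g' = up (g'.1 0 0 / g'.1 1 0) * ww * v := by
      apply Subtype.ext
      show g'.1 = (!![1, g'.1 0 0 / g'.1 1 0; 0, 1] * !![0, -1; 1, 0]) *
        !![g'.1 1 0, g'.1 1 1; 0, (g'.1 1 0)⁻¹]
      ext i j
      (revert i j; simp only [Matrix.mul_apply, Fin.sum_univ_two, hc', _root_.Fin.forall_fin_succ, Fin.isValue, _root_.Matrix.cons_mul, _root_.Nat.succ_eq_add_one, Nat.reduceAdd, _root_.Matrix.vecMul_cons, _root_.Matrix.head_cons, _root_.one_smul, _root_.Matrix.tail_cons, _root_.Matrix.smul_cons, _root_.smul_eq_mul, _root_.mul_one, _root_.MulZeroClass.mul_zero, _root_.Matrix.smul_empty, _root_.Matrix.empty_vecMul, _root_.add_zero, _root_.Matrix.add_cons, _root_.zero_add, _root_.Matrix.empty_add_empty, _root_.zero_smul, _root_.Matrix.empty_mul, _root_.Equiv.symm_apply_apply, _root_.Matrix.of_apply, _root_.Matrix.cons_val', _root_.Matrix.cons_val_fin_one, _root_.Matrix.cons_val_zero, _root_.Matrix.cons_val_one, _root_.Matrix.cons_val_succ,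 _root_.Fin.succ_zero_eq_one, _root_.IsEmpty.forall_iff, _root_.isUnit_iff_ne_zero, _root_.ne_eq, _root_.not_false_eq_true, _root_.IsUnit.div_mul_cancel, _root_.neg_mul, _root_.one_mul, _root_.MulZeroClass.zero_mul, _root_.and_true, _root_.true_and]) <;> (repeat' with_reducible apply And.intro)
      field_simp
      linear_combination -hd
    conv_rhs => rw [h1, map_mul, map_mul, map_mul, map_mul, mul_smul, mul_smul]
    rw [conj_upper r (g := v) rfl, conj_ww]

theorem exists_of_pt {φ : K →+* K} {r : Fin 72} (hr : rho r = r) (i : Option {t : K // φ t = t}) :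
    ∃ l ∈ Lq φ r, MulAut.conj l • XX K r = pt φ r i := by
  rcases i with _ | t
  · exact ⟨1, one_mem _, by rw [map_one, one_smul]; rfl⟩
  · refine ⟨PP r (up (t : K)) * PP r ww, ?_, ?_⟩
    · refine mul_mem ?_ ?_
      · rw [PP_up]
        exact Subgroup.mem_sup_left ((mem_Rq hr).2 ⟨_, t.2, rfl⟩)
      · rw [ww_eq, map_mul, map_mul, PP_up, PP_lo]
        have h1 : φ (-1) = -1 := by rw [map_neg, map_one]
        exact mul_mem (mul_mem (Subgroup.mem_sup_left ((mem_Rq hr).2 ⟨_, h1, rfl⟩))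
          (Subgroup.mem_sup_right ((mem_Rq (rev_fixed r hr)).2 ⟨_, map_one φ, rfl⟩)))
          (Subgroup.mem_sup_left ((mem_Rq hr).2 ⟨_, h1, rfl⟩))
    · rw [map_mul, mul_smul, conj_ww]
      rfl

/-- **the `L`-step** -/
theorem step_L {φ : K →+* K} {r : Fin 72} (hr : rho r = r) {A : Subgroup (GL chevE6.Idx K)}
    (hX : ∀ a ∈ A, MulAut.conj a • XX K r = XX K r) (hL : ∀ a ∈ A, MulAut.conj a • Lq φ r = Lq φ r) :
    Nat.card (Option {t : K // φ t = t}) ∣ A.relIndex (A ⊔ Lq φ r) :=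
  dvd_relIndex_sup hX hL (pt φ r) (pt_injective φ r) (fun _ hb => pt_of_mem hr hb)
    (fun i => exists_of_pt hr i)

/-- the rank one groups are not abelian -/
theorem exists_ne_comm (φ : K →+* K) {r : Fin 72} (hr : rho r = r) :
    ∃ a ∈ Lq φ r, ∃ b ∈ Lq φ r, a * b ≠ b * a := by
  refine ⟨x r.val 1, Subgroup.mem_sup_left ((mem_Rq hr).2 ⟨_, map_one φ, rfl⟩), x (Fin.rev r).val 1,
    Subgroup.mem_sup_right ((mem_Rq (rev_fixed r hr)).2 ⟨_, map_one φ, rfl⟩), ?_⟩
  intro h
  rw [← PP_up, ← PP_lo, ← map_mul, ← map_mul] at h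
  have h2 : PP r (up (1 : K) * lo 1 * (lo 1 * up 1)⁻¹) = 1 := by rw [map_mul, map_inv, h, mul_inv_cancel]
  have e1 : (up (1 : K) * lo (1 : K)).1 = !![1 + 1, 1; 1, 1] := by
    show !![1, 1; 0, 1] * !![1, 0; 1, 1] = _
    ext i j
    (revert i j; simp only [Matrix.mul_apply, Fin.sum_univ_two, _root_.Fin.forall_fin_succ, _root_.Matrix.of_apply, _root_.Matrix.cons_val', _root_.Matrix.cons_val_fin_one, Fin.isValue, _root_.Matrix.cons_val_zero, _root_.Matrix.cons_val_one, _root_.mul_one, _root_.Matrix.cons_val_succ, _root_.MulZeroClass.mul_zero, _root_.zero_add, _root_.implies_true, _root_.and_true, _root_.and_self])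
  have e2 : (lo (1 : K) * up (1 : K)).1 = !![1, 1; 1, 1 + 1] := by
    show !![1, 0; 1, 1] * !![1, 1; 0, 1] = _
    ext i j
    (revert i j; simp only [Matrix.mul_apply, Fin.sum_univ_two, _root_.Fin.forall_fin_succ, _root_.Matrix.of_apply, _root_.Matrix.cons_val', _root_.Matrix.cons_val_fin_one, Fin.isValue, _root_.Matrix.cons_val_zero, _root_.Matrix.cons_val_one, _root_.mul_one, _root_.MulZeroClass.mul_zero, _root_.add_zero, _root_.Matrix.cons_val_succ, _root_.forall_const, _root_.true_and, _root_.implies_true, _root_.and_self])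
  rcases PP_ker r _ h2 with h3 | h3
  · rw [mul_inv_eq_one] at h3
    have h4 := congrArg Subtype.val h3
    rw [e1, e2] at h4
    have h5 := congrFun (congrFun h4 0) 0
    simp at h5
  · rw [mul_inv_eq_iff_eq_mul, neg_mul, one_mul] at h3
    have h4 : !![1 + 1, 1; 1, 1] = -!![1, 1; 1, (1 : K) + 1] := by
      rw [← e1, ← e2]
      exact congrArg Subtype.val h3
    have h5 := congrFun (congrFun h4 0) 0
    have h6 := congrFun (congrFun h4 0) 1
    simp at h5 h6
    apply one_ne_zero (α := K)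
    linear_combination h5 - h6

end Cfsg.Agent.H686.AO
end

-- part: H686/AO/HZero
section
/-!
# A subgroup of `²E₆(q)` containing a Sylow 2-subgroup

`H0 = (T' L₁ L₂ L₃ L₄).⟨n₂, n_γ, n_ab⟩`
-/

set_option autoImplicit false
set_option linter.unusedSectionVars false

namespace Cfsg.Agent.H686.AO

open Subgroup Cfsg Cfsg.Lie Cfsg.Agent.ChevalleyStructure Cfsg.Agent.ChevalleyStructure.Elts
open Cfsg.Agent.ChevalleyStructure.SL2Hom (up lo)
open Cfsg.Agent.ChevalleyStructure.TwE6Basic Cfsg.Agent.ChevalleyStructure.GraphSymm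
open Cfsg.Agent.ChevalleyStructure.TwE6BN (Acts acts_n acts_H)
open scoped Pointwise Matrix

universe u

section General

variable {G : Type*} [Group G]

/-- the stabiliser of a subgroup under conjugation -/
def St (X : Subgroup G) : Subgroup G where
  carrier := {g | MulAut.conj g • X = X}
  one_mem' := by simp only [_root_.Set.mem_ofPred_eq, _root_.map_one, _root_.one_smul]
  mul_mem' := by
    intro a b ha hb
    simp only [Set.mem_ofPred_eq, map_mul, mul_smul] at *
    rw [hb, ha]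
  inv_mem' := by
    intro a ha
    simp only [Set.mem_ofPred_eq, map_inv, inv_smul_eq_iff] at *
    exact ha.symm

theorem mem_St {X : Subgroup G} {g : G} : g ∈ St X ↔ MulAut.conj g • X = X := Iff.rfl

theorem le_St_self (X : Subgroup G) : X ≤ St X := by
  intro g hg
  refine mem_St.2 (conj_smul_eq (fun x hx => ?_) (fun x hx => ?_))
  · exact mul_mem (mul_mem hg hx) (inv_mem hg)
  · exact mul_mem (mul_mem (inv_mem hg) hx) hg

theorem le_St_of_le_centralizer {A X : Subgroup G} (h : A ≤ centralizer (X : Set G)) : A ≤ St X := by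
  intro g hg
  have h1 := mem_centralizer_iff.1 (h hg)
  refine mem_St.2 (conj_smul_eq (fun x hx => ?_) (fun x hx => ?_))
  · rw [← h1 x hx, mul_inv_cancel_right]; exact hx
  · rw [mul_assoc, h1 x hx, inv_mul_cancel_left]; exact hx

theorem St_inf_le_sup (X Y : Subgroup G) : St X ⊓ St Y ≤ St (X ⊔ Y) := by
  rintro g ⟨h1, h2⟩
  rw [mem_St, smul_sup, mem_St.1 h1, mem_St.1 h2]

theorem swap_mem_St_sup {X Y : Subgroup G} {g : G} (h1 : MulAut.conj g • X = Y) (h2 : MulAut.conj g • Y = X) :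
    g ∈ St (X ⊔ Y) := by
  rw [mem_St, smul_sup, h1, h2, sup_comm]

theorem sup_le_centralizer {A B C : Subgroup G} (h1 : A ≤ centralizer (C : Set G))
    (h2 : A ≤ centralizer (B : Set G)) : A ≤ centralizer ((B ⊔ C : Subgroup G) : Set G) := by
  rw [le_centralizer_iff] at h1 h2 ⊢
  exact sup_le h2 h1

end General

section Mono

variable {K : Type u} [Field K] {φ : K →+* K}

/-- a `σ`-fixed monomial element over `w` -/
def Mo (φ : K →+* K) (g : GL chevE6.Idx K) (w : Equiv.Perm (Fin 72)) : Prop := g ∈ fix φ ∧ Acts g w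

theorem Mo.mul {g h : GL chevE6.Idx K} {v w : Equiv.Perm (Fin 72)} (hg : Mo φ g v) (hh : Mo φ h w) :
    Mo φ (g * h) (v * w) := ⟨mul_mem hg.1 hh.1, hg.2.mul hh.2⟩

theorem Mo.inv {g : GL chevE6.Idx K} {v : Equiv.Perm (Fin 72)} (hg : Mo φ g v) :
    Mo φ g⁻¹ v⁻¹ := ⟨inv_mem hg.1, hg.2.inv⟩

theorem Mo.conj_XX {g : GL chevE6.Idx K} {w : Equiv.Perm (Fin 72)} (hg : Mo φ g w) (r : Fin 72) :
    MulAut.conj g • XX K r = XX K (w r) := by
  refine conj_smul_eq (fun x hx => (hg.2.1 r x).1 hx) (fun y hy => (hg.2.1 r _).2 ?_)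
  have e : g * (g⁻¹ * y * g) * g⁻¹ = y := by group
  rw [e]
  exact hy

theorem conj_fix {g : GL chevE6.Idx K} (hg : g ∈ fix φ) : MulAut.conj g • fix φ = fix φ :=
  mem_St.1 (le_St_self _ hg)

theorem Mo.conj_Rq {g : GL chevE6.Idx K} {w : Equiv.Perm (Fin 72)} (hg : Mo φ g w) (r : Fin 72) :
    MulAut.conj g • Rq φ r = Rq φ (w r) := by
  unfold Rq
  rw [smul_inf, hg.conj_XX, conj_fix hg.1]

theorem Mo.conj_Lq {g : GL chevE6.Idx K} {w : Equiv.Perm (Fin 72)} (hg : Mo φ g w) (r : Fin 72) :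
    MulAut.conj g • Lq φ r = Lq φ (w r) := by
  unfold Lq
  rw [smul_sup, hg.conj_Rq, hg.conj_Rq, hg.2.2.2]

/-! ### commutation -/

/-- the rank one group over the large field -/
def LL (K : Type u) [Field K] (r : Fin 72) : Subgroup (GL chevE6.Idx K) := XX K r ⊔ XX K (Fin.rev r)

theorem Lq_le_LL (φ : K →+* K) (r : Fin 72) : Lq φ r ≤ LL K r := sup_le_sup inf_le_left inf_le_left

/-- orthogonal roots -/
def Ort (r s : Fin 72) : Prop := s.val ≠ r.val ∧ s.val ≠ chevE6.neg r.val ∧ chevE6.commTerms r.val s.val = []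

instance (r s : Fin 72) : Decidable (Ort r s) := by unfold Ort; infer_instance

theorem XX_comm {r s : Fin 72} (h : Ort r s) : XX K r ≤ centralizer (XX K s : Set (GL chevE6.Idx K)) := by
  intro g hg
  rw [mem_centralizer_iff]
  intro y hy
  obtain ⟨t, rfl⟩ := mem_X.1 hg
  obtain ⟨u, rfl⟩ := mem_X.1 hy
  exact comm_of_commTerms r.isLt s.isLt h.1 h.2.1 h.2.2 t u

/-- totally orthogonal roots -/
def Orth (r s : Fin 72) : Prop := Ort r s ∧ Ort r (Fin.rev s) ∧ Ort (Fin.rev r) s ∧ Ort (Fin.rev r) (Fin.rev s)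

instance (r s : Fin 72) : Decidable (Orth r s) := by unfold Orth; infer_instance

theorem LL_comm {r s : Fin 72} (h : Orth r s) : LL K r ≤ centralizer (LL K s : Set (GL chevE6.Idx K)) :=
  sup_le (sup_le_centralizer (XX_comm h.2.1) (XX_comm h.1))
    (sup_le_centralizer (XX_comm h.2.2.2) (XX_comm h.2.2.1))

theorem Lq_comm {r s : Fin 72} (h : Orth r s) : Lq φ r ≤ centralizer (Lq φ s : Set (GL chevE6.Idx K)) :=
  (Lq_le_LL φ r).trans ((LL_comm h).trans (centralizer_le (Lq_le_LL φ s)))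

theorem Lq_le_St_XX {r s : Fin 72} (h : Orth r s) : Lq φ r ≤ St (XX K s) :=
  le_St_of_le_centralizer ((Lq_le_LL φ r).trans ((LL_comm h).trans
    (centralizer_le (le_sup_left : XX K s ≤ LL K s))))

theorem Lq_le_St_Lq {r s : Fin 72} (h : Orth r s) : Lq φ r ≤ St (Lq φ s) :=
  le_St_of_le_centralizer (Lq_comm h)

theorem ne_of_noncomm {r : Fin 72} (hr : rho r = r) {X Y : Subgroup (GL chevE6.Idx K)} (h1 : Lq φ r ≤ X)
    (h2 : Y ≤ centralizer (Lq φ r : Set (GL chevE6.Idx K))) : X ≠ Y := by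
  rintro rfl
  obtain ⟨a, ha, b, hb, hab⟩ := exists_ne_comm φ hr
  exact hab (mem_centralizer_iff.1 (h2 (h1 hb)) a ha)

end Mono

/-! ### the four roots -/

/-- the four orthogonal fixed roots -/
def rt : Fin 4 → Fin 72 := ![39, 44, 60, 71]

theorem rt_fixed : ∀ i : Fin 4, rho (rt i) = rt i := by decide +kernel

theorem rt_orth : ∀ i j : Fin 4, i ≠ j → Orth (rt i) (rt j) := by decide +kernel

/-- the permutation of `n_γ` -/
def wg : Equiv.Perm (Fin 72) := (wP 0 * wP 1) * wP 2 * (wP 0 * wP 1)⁻¹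

/-- the permutation of `n_b` -/
def wb : Equiv.Perm (Fin 72) := wP 0 * wP 1 * (wP 0)⁻¹

/-- the permutation of `n_a` -/
def wa : Equiv.Perm (Fin 72) := (wP 3 * wP 2) * wb * (wP 3 * wP 2)⁻¹

theorem act2 : wP 2 (rt 0) = rt 1 ∧ wP 2 (rt 1) = rt 0 ∧ wP 2 (rt 2) = rt 2 ∧ wP 2 (rt 3) = rt 3 := by
  decide +kernel

theorem actg : wg (rt 0) = rt 0 ∧ wg (rt 1) = rt 1 ∧ wg (rt 2) = rt 3 ∧ wg (rt 3) = rt 2 := by
  decide +kernel

theorem actab : (wa * wb) (rt 0) = rt 2 ∧ (wa * wb) (rt 1) = rt 3 ∧ (wa * wb) (rt 2) = rt 0 ∧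
    (wa * wb) (rt 3) = rt 1 := by
  decide +kernel

theorem act3 : wP 3 (rt 1) = rt 2 := by decide +kernel

section Chain

variable {K : Type u} [Field K] (φ : K →+* K) {q : ℕ}

/-- `n_γ` -/
noncomputable def ng (K : Type u) [Field K] : GL chevE6.Idx K := (n 0 * n 1) * n 2 * (n 0 * n 1)⁻¹

/-- `n_b` -/
noncomputable def nb (K : Type u) [Field K] : GL chevE6.Idx K := n 0 * n 1 * (n 0)⁻¹

/-- `n_a` -/
noncomputable def na (K : Type u) [Field K] : GL chevE6.Idx K := (n 3 * n 2) * nb K * (n 3 * n 2)⁻¹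

/-- the torus -/
def TT (K : Type u) [Field K] (q : ℕ) : Subgroup (GL chevE6.Idx K) := chevE6.diagonalSubgroup K ⊓ twistedE6 K q

/-- the torus and the four groups -/
noncomputable def KK (q : ℕ) : ℕ → Subgroup (GL chevE6.Idx K)
  | 0 => TT K q
  | 1 => TT K q ⊔ Lq φ (rt 0)
  | 2 => TT K q ⊔ Lq φ (rt 0) ⊔ Lq φ (rt 1)
  | 3 => TT K q ⊔ Lq φ (rt 0) ⊔ Lq φ (rt 1) ⊔ Lq φ (rt 2)
  | 4 => TT K q ⊔ Lq φ (rt 0) ⊔ Lq φ (rt 1) ⊔ Lq φ (rt 2) ⊔ Lq φ (rt 3)
  | 5 => TT K q ⊔ Lq φ (rt 0) ⊔ Lq φ (rt 1) ⊔ Lq φ (rt 2) ⊔ Lq φ (rt 3) ⊔ zpowers (n 2)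
  | 6 => TT K q ⊔ Lq φ (rt 0) ⊔ Lq φ (rt 1) ⊔ Lq φ (rt 2) ⊔ Lq φ (rt 3) ⊔ zpowers (n 2) ⊔ zpowers (ng K)
  | _ => TT K q ⊔ Lq φ (rt 0) ⊔ Lq φ (rt 1) ⊔ Lq φ (rt 2) ⊔ Lq φ (rt 3) ⊔ zpowers (n 2) ⊔ zpowers (ng K) ⊔
    zpowers (na K * nb K)

/-- the subgroup -/
noncomputable def H0 (q : ℕ) : Subgroup (GL chevE6.Idx K) := KK φ q 7

section Facts

variable {φ} (hφ : ∀ t, φ t = t ^ q) (hqq : ∀ t : K, (t ^ q) ^ q = t)

include hφ hqq

theorem mo_n (i : Fin 4) : Mo φ (n i) (wP i) :=
  ⟨twisted_le_fix φ hφ hqq (TwE6BN.n_mem_G φ hφ i), acts_n i⟩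

theorem mo_TT {g : GL chevE6.Idx K} (hg : g ∈ TT K q) : Mo φ g 1 :=
  ⟨twisted_le_fix φ hφ hqq hg.2, acts_H hg.1⟩

theorem mo_ng : Mo φ (ng K) wg :=
  (((mo_n hφ hqq 0).mul (mo_n hφ hqq 1)).mul (mo_n hφ hqq 2)).mul ((mo_n hφ hqq 0).mul (mo_n hφ hqq 1)).inv

theorem mo_nb : Mo φ (nb K) wb :=
  ((mo_n hφ hqq 0).mul (mo_n hφ hqq 1)).mul (mo_n hφ hqq 0).inv

theorem mo_na : Mo φ (na K) wa :=
  (((mo_n hφ hqq 3).mul (mo_n hφ hqq 2)).mul (mo_nb hφ hqq)).mul ((mo_n hφ hqq 3).mul (mo_n hφ hqq 2)).inv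

theorem mo_nab : Mo φ (na K * nb K) (wa * wb) := (mo_na hφ hqq).mul (mo_nb hφ hqq)

theorem TT_le_St_XX (r : Fin 72) : TT K q ≤ St (XX K r) := fun _ hg => (mo_TT hφ hqq hg).conj_XX r

theorem TT_le_St_Lq (r : Fin 72) : TT K q ≤ St (Lq φ r) := fun _ hg => (mo_TT hφ hqq hg).conj_Lq r

theorem K4_le_St (i : Fin 4) : KK φ q 4 ≤ St (Lq φ (rt i)) := by
  have h : ∀ j, Lq φ (rt j) ≤ St (Lq φ (rt i)) := by
    intro j
    by_cases hj : j = i
    · rw [hj]; exact le_St_self _
    · exact Lq_le_St_Lq (rt_orth j i hj)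
  exact sup_le (sup_le (sup_le (sup_le (TT_le_St_Lq hφ hqq _) (h 0)) (h 1)) (h 2)) (h 3)

theorem step1 : Nat.card (Option {t : K // φ t = t}) ∣ (KK φ q 0).relIndex (KK φ q 1) :=
  step_L (rt_fixed 0) (TT_le_St_XX hφ hqq _) (TT_le_St_Lq hφ hqq _)

theorem step2 : Nat.card (Option {t : K // φ t = t}) ∣ (KK φ q 1).relIndex (KK φ q 2) := by
  refine step_L (rt_fixed 1) (fun a ha => ?_) (fun a ha => ?_)
  · exact (sup_le (TT_le_St_XX hφ hqq _) (Lq_le_St_XX (rt_orth 0 1 (by decide))) :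
      KK φ q 1 ≤ St (XX K (rt 1))) ha
  · exact (sup_le (TT_le_St_Lq hφ hqq _) (Lq_le_St_Lq (rt_orth 0 1 (by decide))) :
      KK φ q 1 ≤ St (Lq φ (rt 1))) ha

theorem step3 : Nat.card (Option {t : K // φ t = t}) ∣ (KK φ q 2).relIndex (KK φ q 3) := by
  refine step_L (rt_fixed 2) (fun a ha => ?_) (fun a ha => ?_)
  · exact (sup_le (sup_le (TT_le_St_XX hφ hqq _) (Lq_le_St_XX (rt_orth 0 2 (by decide))))
      (Lq_le_St_XX (rt_orth 1 2 (by decide))) : KK φ q 2 ≤ St (XX K (rt 2))) ha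
  · exact (sup_le (sup_le (TT_le_St_Lq hφ hqq _) (Lq_le_St_Lq (rt_orth 0 2 (by decide))))
      (Lq_le_St_Lq (rt_orth 1 2 (by decide))) : KK φ q 2 ≤ St (Lq φ (rt 2))) ha

theorem step4 : Nat.card (Option {t : K // φ t = t}) ∣ (KK φ q 3).relIndex (KK φ q 4) := by
  refine step_L (rt_fixed 3) (fun a ha => ?_) (fun a ha => ?_)
  · exact (sup_le (sup_le (sup_le (TT_le_St_XX hφ hqq _) (Lq_le_St_XX (rt_orth 0 3 (by decide))))
      (Lq_le_St_XX (rt_orth 1 3 (by decide)))) (Lq_le_St_XX (rt_orth 2 3 (by decide))) :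
      KK φ q 3 ≤ St (XX K (rt 3))) ha
  · exact (sup_le (sup_le (sup_le (TT_le_St_Lq hφ hqq _) (Lq_le_St_Lq (rt_orth 0 3 (by decide))))
      (Lq_le_St_Lq (rt_orth 1 3 (by decide)))) (Lq_le_St_Lq (rt_orth 2 3 (by decide))) :
      KK φ q 3 ≤ St (Lq φ (rt 3))) ha

theorem c2 (r : Fin 72) : MulAut.conj (n (K := K) 2) • Lq φ r = Lq φ (wP 2 r) := (mo_n hφ hqq 2).conj_Lq r

theorem step5 : 2 ∣ (KK φ q 4).relIndex (KK φ q 5) := by
  refine two_dvd_relIndex_sup (X := Lq φ (rt 0)) (Y := Lq φ (rt 1)) (K4_le_St hφ hqq 0) (K4_le_St hφ hqq 1) ?_ ?_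
    ?_
  · rw [c2 hφ hqq, act2.1]
  · rw [c2 hφ hqq, act2.2.1]
  · exact ne_of_noncomm (rt_fixed 0) le_rfl (Lq_comm (rt_orth 1 0 (by decide)))

theorem step6 : 2 ∣ (KK φ q 5).relIndex (KK φ q 6) := by
  have h2 : KK φ q 5 ≤ St (Lq φ (rt 2)) := by
    refine sup_le (K4_le_St hφ hqq 2) ?_
    rw [zpowers_le, mem_St, c2 hφ hqq, act2.2.2.1]
  have h3 : KK φ q 5 ≤ St (Lq φ (rt 3)) := by
    refine sup_le (K4_le_St hφ hqq 3) ?_
    rw [zpowers_le, mem_St, c2 hφ hqq, act2.2.2.2]
  refine two_dvd_relIndex_sup (X := Lq φ (rt 2)) (Y := Lq φ (rt 3)) h2 h3 ?_ ?_ ?_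
  · rw [(mo_ng hφ hqq).conj_Lq, actg.2.2.1]
  · rw [(mo_ng hφ hqq).conj_Lq, actg.2.2.2]
  · exact ne_of_noncomm (rt_fixed 2) le_rfl (Lq_comm (rt_orth 3 2 (by decide)))

theorem step7 : 2 ∣ (KK φ q 6).relIndex (KK φ q 7) := by
  have h1 : KK φ q 6 ≤ St (Lq φ (rt 0) ⊔ Lq φ (rt 1)) := by
    refine sup_le (sup_le ?_ ?_) ?_
    · exact (le_inf (K4_le_St hφ hqq 0) (K4_le_St hφ hqq 1)).trans (St_inf_le_sup _ _)
    · rw [zpowers_le]
      refine swap_mem_St_sup ?_ ?_
      · rw [c2 hφ hqq, act2.1]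
      · rw [c2 hφ hqq, act2.2.1]
    · rw [zpowers_le]
      refine St_inf_le_sup _ _ ⟨?_, ?_⟩
      · show _ = _
        rw [(mo_ng hφ hqq).conj_Lq, actg.1]
      · show _ = _
        rw [(mo_ng hφ hqq).conj_Lq, actg.2.1]
  have h2 : KK φ q 6 ≤ St (Lq φ (rt 2) ⊔ Lq φ (rt 3)) := by
    refine sup_le (sup_le ?_ ?_) ?_
    · exact (le_inf (K4_le_St hφ hqq 2) (K4_le_St hφ hqq 3)).trans (St_inf_le_sup _ _)
    · rw [zpowers_le]
      refine St_inf_le_sup _ _ ⟨?_, ?_⟩
      · show _ = _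
        rw [c2 hφ hqq, act2.2.2.1]
      · show _ = _
        rw [c2 hφ hqq, act2.2.2.2]
    · rw [zpowers_le]
      refine swap_mem_St_sup ?_ ?_
      · rw [(mo_ng hφ hqq).conj_Lq, actg.2.2.1]
      · rw [(mo_ng hφ hqq).conj_Lq, actg.2.2.2]
  refine two_dvd_relIndex_sup h1 h2 ?_ ?_ ?_
  · rw [smul_sup, (mo_nab hφ hqq).conj_Lq, (mo_nab hφ hqq).conj_Lq, actab.1, actab.2.1]
  · rw [smul_sup, (mo_nab hφ hqq).conj_Lq, (mo_nab hφ hqq).conj_Lq, actab.2.2.1, actab.2.2.2]
  · exact ne_of_noncomm (rt_fixed 0) le_sup_left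
      (sup_le (Lq_comm (rt_orth 2 0 (by decide))) (Lq_comm (rt_orth 3 0 (by decide))))

/-- **the order of `H0`** -/
theorem card_H0_dvd : 8 * Nat.card (Option {t : K // φ t = t}) ^ 4 * Nat.card (TT K q) ∣ Nat.card (H0 φ q) := by
  have h01 : KK φ q 0 ≤ KK φ q 1 := le_sup_left
  have h12 : KK φ q 1 ≤ KK φ q 2 := le_sup_left
  have h23 : KK φ q 2 ≤ KK φ q 3 := le_sup_left
  have h34 : KK φ q 3 ≤ KK φ q 4 := le_sup_left
  have h45 : KK φ q 4 ≤ KK φ q 5 := le_sup_left
  have h56 : KK φ q 5 ≤ KK φ q 6 := le_sup_left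
  have h67 : KK φ q 6 ≤ KK φ q 7 := le_sup_left
  have h02 := h01.trans h12
  have h03 := h02.trans h23
  have h04 := h03.trans h34
  have h05 := h04.trans h45
  have h06 := h05.trans h56
  have h07 := h06.trans h67
  have e : (KK φ q 0).relIndex (KK φ q 7) * Nat.card (TT K q) = Nat.card (H0 φ q) := by
    have h := relIndex_mul_relIndex ⊥ (KK φ q 0) (KK φ q 7) bot_le h07
    rw [relIndex_bot_left, relIndex_bot_left, mul_comm] at h
    exact h
  rw [← e]
  refine mul_dvd_mul_right ?_ _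
  rw [← relIndex_mul_relIndex _ _ _ h06 h67, ← relIndex_mul_relIndex _ _ _ h05 h56,
    ← relIndex_mul_relIndex _ _ _ h04 h45, ← relIndex_mul_relIndex _ _ _ h03 h34,
    ← relIndex_mul_relIndex _ _ _ h02 h23, ← relIndex_mul_relIndex _ _ _ h01 h12]
  have h := mul_dvd_mul (mul_dvd_mul (mul_dvd_mul (mul_dvd_mul (mul_dvd_mul (mul_dvd_mul (step1 hφ hqq)
    (step2 hφ hqq)) (step3 hφ hqq)) (step4 hφ hqq)) (step5 hφ hqq)) (step6 hφ hqq)) (step7 hφ hqq)
  refine Dvd.dvd.trans (dvd_of_eq ?_) h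
  ring

theorem n_mem (i : Fin 4) : n (K := K) i ∈ twistedE6 K q := TwE6BN.n_mem_G φ hφ i

theorem Lq_le_of_conj {g : GL chevE6.Idx K} {w : Equiv.Perm (Fin 72)} (hg : Mo φ g w)
    (hgt : g ∈ twistedE6 K q) {r : Fin 72} (h : Lq φ r ≤ twistedE6 K q) : Lq φ (w r) ≤ twistedE6 K q := by
  rw [← hg.conj_Lq]
  rintro _ ⟨y, hy, rfl⟩
  exact mul_mem (mul_mem hgt (h hy)) (inv_mem hgt)

theorem L0_le : Lq φ (rt 0) ≤ twistedE6 K q := by
  refine sup_le ?_ ?_
  · intro y hy
    obtain ⟨t, ht, rfl⟩ := (mem_Rq (rt_fixed 0)).1 hy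
    rw [hφ] at ht
    exact single_mem (r := 39) ht (by simp)
  · intro y hy
    obtain ⟨t, ht, rfl⟩ := (mem_Rq (rev_fixed _ (rt_fixed 0))).1 hy
    rw [hφ] at ht
    exact single_mem (r := 32) ht (by simp)

theorem ng_mem : ng K ∈ twistedE6 K q :=
  mul_mem (mul_mem (mul_mem (n_mem hφ hqq 0) (n_mem hφ hqq 1)) (n_mem hφ hqq 2))
    (inv_mem (mul_mem (n_mem hφ hqq 0) (n_mem hφ hqq 1)))

theorem nb_mem : nb K ∈ twistedE6 K q :=
  mul_mem (mul_mem (n_mem hφ hqq 0) (n_mem hφ hqq 1)) (inv_mem (n_mem hφ hqq 0))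

theorem na_mem : na K ∈ twistedE6 K q :=
  mul_mem (mul_mem (mul_mem (n_mem hφ hqq 3) (n_mem hφ hqq 2)) (nb_mem hφ hqq))
    (inv_mem (mul_mem (n_mem hφ hqq 3) (n_mem hφ hqq 2)))

theorem L1_le : Lq φ (rt 1) ≤ twistedE6 K q := by
  have h := Lq_le_of_conj hφ hqq (mo_n hφ hqq 2) (n_mem hφ hqq 2) (L0_le hφ hqq)
  rwa [act2.1] at h

theorem L2_le : Lq φ (rt 2) ≤ twistedE6 K q := by
  have h := Lq_le_of_conj hφ hqq (mo_n hφ hqq 3) (n_mem hφ hqq 3) (L1_le hφ hqq)
  rwa [act3] at h

theorem L3_le : Lq φ (rt 3) ≤ twistedE6 K q := by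
  have h := Lq_le_of_conj hφ hqq (mo_ng hφ hqq) (ng_mem hφ hqq) (L2_le hφ hqq)
  rwa [actg.2.2.1] at h

/-- `H0` lies in the twisted group -/
theorem H0_le : H0 φ q ≤ twistedE6 K q := by
  refine sup_le (sup_le (sup_le (sup_le (sup_le (sup_le (sup_le inf_le_right ?_) ?_) ?_) ?_) ?_) ?_) ?_
  · exact L0_le hφ hqq
  · exact L1_le hφ hqq
  · exact L2_le hφ hqq
  · exact L3_le hφ hqq
  · rw [zpowers_le]; exact n_mem hφ hqq 2
  · rw [zpowers_le]; exact ng_mem hφ hqq
  · rw [zpowers_le]; exact mul_mem (na_mem hφ hqq) (nb_mem hφ hqq)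

end Facts

end Chain

end Cfsg.Agent.H686.AO
end

-- part: H686/AO/Char
section
/-!
# `H0` commutes with the diagonal automorphisms `r ↦ c ^ (a₁(r) - a₆(r))`
-/

set_option autoImplicit false
set_option linter.unusedSectionVars false

namespace Cfsg.Agent.H686.AO

open Subgroup Cfsg Cfsg.Lie Cfsg.Agent.ChevalleyStructure Cfsg.Agent.ChevalleyStructure.Elts
open Cfsg.Agent.ChevalleyStructure.TwE6Basic Cfsg.Agent.ChevalleyStructure.GraphSymm
open Cfsg.Agent.H70.ChevDiag Cfsg.Agent.H70.RootCoeffTab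
open scoped Pointwise Matrix

universe u

variable {K : Type u} [Field K] (φ : K →+* K) {q : ℕ}

/-- the coefficients of the roots -/
def mE (r i : ℕ) : ℤ := (dig ME6 6 r i : ℤ) - 8

theorem rootCoeff_mE : RootCoeff chevE6 mE :=
  rootCoeff_of_chk (M := ME6) (by decide +kernel) (by decide +kernel) (by decide +kernel)

/-- the character `r ↦ c ^ (a₁(r) - a₆(r))` -/
def ch (c : Kˣ) : ℕ → Kˣ := chi 6 mE ![c, 1, 1, 1, 1, c⁻¹]

theorem ch_mul (c : Kˣ) : IsMul chevE6 (ch c) := isMul_chi hE6 rootCoeff_mE _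

theorem ch_apply (c : Kˣ) (r : ℕ) : ch c r = c ^ (mE r 0 - mE r 5) := by
  unfold ch chi
  rw [Fin.prod_univ_six]
  simp only [sub_eq_add_neg, zpow_add, _root_.Fin.isValue, _root_.Matrix.cons_val_zero, _root_.Fin.coe_ofNat_eq_mod, _root_.Nat.zero_mod, _root_.Matrix.cons_val_one, _root_.Nat.one_mod, _root_.one_zpow, _root_.mul_one, _root_.Matrix.cons_val, _root_.Nat.reduceMod, _root_.Nat.mod_succ, _root_.inv_zpow', _root_.zpow_neg]

/-- the roots with trivial character value -/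
def One (χ : ℕ → Kˣ) : Prop := ∀ r ∈ [39, 44, 60, 71, 63, 46, 42, 37], χ r = 1

theorem mE_tab : ∀ r ∈ [39, 44, 60, 71, 63, 46, 42, 37], mE r 0 - mE r 5 = 0 := by decide +kernel

theorem ch_one (c : Kˣ) : One (ch c) := by
  intro r hr
  rw [ch_apply, mE_tab r hr, zpow_zero]

/-- the centraliser of the diagonal element -/
abbrev CC (χ : ℕ → Kˣ) : Subgroup (GL chevE6.Idx K) := centralizer {dG chevE6 χ}

theorem mem_CC {χ : ℕ → Kˣ} {g : GL chevE6.Idx K} : g ∈ CC χ ↔ dG chevE6 χ * g = g * dG chevE6 χ :=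
  mem_centralizer_singleton_iff.trans eq_comm

variable {χ : ℕ → Kˣ} (hM : IsMul chevE6 χ)

include hM

theorem x_mem_CC {r : ℕ} (h : χ r = 1) (t : K) : x r t ∈ CC χ := by
  rw [mem_CC, ← mul_inv_eq_iff_eq_mul]
  have := dG_conj hE6 hM r t
  rw [h, Units.val_one, one_mul] at this
  exact this

theorem XX_le_CC {r : Fin 72} (h : χ r.val = 1) : XX K r ≤ CC χ := by
  intro g hg
  obtain ⟨t, rfl⟩ := mem_X.1 hg
  exact x_mem_CC hM h t

theorem rev_one {r : Fin 72} (h : χ r.val = 1) : χ (Fin.rev r).val = 1 := by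
  rw [← neg_eq, (hM r.val r.isLt).neg, h, inv_one]

theorem LL_le_CC {r : Fin 72} (h : χ r.val = 1) : LL K r ≤ CC χ :=
  sup_le (XX_le_CC hM h) (XX_le_CC hM (rev_one hM h))

theorem nE_mem_LL (r : Fin 72) : nE (K := K) r.val ∈ LL K r := by
  have h1 : ∀ t : K, x r.val t ∈ LL K r := fun t => mem_sup_left (mem_X.2 ⟨t, rfl⟩)
  have h2 : ∀ t : K, x (chevE6.neg r.val) t ∈ LL K r := fun t =>
    mem_sup_right (mem_X.2 ⟨t, by rw [neg_eq]⟩)
  show nG hE6 r.val (1 : K) ∈ LL K r
  rw [nG_def]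
  exact mul_mem (h1 _) (mul_mem (h2 _) (h1 _))

theorem n_mem_CC (hone : One χ) : ∀ i : Fin 4, i ≠ 3 → n (K := K) i ∈ CC χ := by
  have h1 : ∀ r : Fin 72, χ r.val = 1 → nE (K := K) r.val ∈ CC χ := fun r hr => LL_le_CC hM hr (nE_mem_LL hM r)
  have h46 := h1 46 (hone 46 (by simp))
  have h39 := h1 39 (hone 39 (by simp))
  have h42 := h1 42 (hone 42 (by simp))
  have h37 := h1 37 (hone 37 (by simp))
  intro i hi
  rw [n_def]
  refine Subgroup.list_prod_mem _ ?_
  intro g hg
  obtain ⟨j, hj, rfl⟩ := List.mem_map.1 hg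
  have key : ∀ i : Fin 4, i ≠ 3 → ∀ j ∈ J i, chevE6.simple j ∈ [46, 39, 42, 37] := by decide +kernel
  have h2 := key i hi j hj
  simp only [List.mem_cons, List.not_mem_nil, or_false] at h2
  rcases h2 with h | h | h | h <;> rw [h]
  · exact h46
  · exact h39
  · exact h42
  · exact h37

theorem diag_le_CC : chevE6.diagonalSubgroup K ≤ CC χ := by
  unfold ChevalleyDatum.diagonalSubgroup
  rw [closure_le]
  rintro g ⟨r, t, hr, ht, hg⟩
  have h := Cfsg.Agent.ChevalleyStructure.StringMem.hMat_eq hE6 (F := K) hr ht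
  rw [h] at hg
  show g ∈ CC χ
  rw [mem_CC]
  apply Units.ext
  rw [Units.val_mul, Units.val_mul, hg, coe_dG]
  unfold ChevalleyDatum.charDiag
  rw [Matrix.diagonal_mul_diagonal, Matrix.diagonal_mul_diagonal]
  congr 1
  funext i
  exact mul_comm _ _

theorem wpos : wP 0 39 = 47 ∧ (wP 3 * wP 2) 47 = 63 := by decide +kernel

theorem conj_LL {g : GL chevE6.Idx K} {w : Equiv.Perm (Fin 72)} (hg : Mo φ g w) (r : Fin 72) :
    MulAut.conj g • LL K r = LL K (w r) := by
  unfold LL
  rw [smul_sup, hg.conj_XX, hg.conj_XX, hg.2.2.2]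

variable {φ} (hφ : ∀ t, φ t = t ^ q) (hqq : ∀ t : K, (t ^ q) ^ q = t)

include hφ hqq

theorem nb_mem_LL : nb K ∈ LL K 47 := by
  have h1 : n (K := K) 1 ∈ LL K 39 := by
    have := nE_mem_LL hM (39 : Fin 72)
    rw [n_def]
    have e : (J 1).map (fun j => nE (K := K) (chevE6.simple j)) = [nE (K := K) 39] := rfl
    rw [e, List.prod_singleton]
    exact this
  have h2 := conj_LL φ hM (mo_n hφ hqq 0) 39
  rw [(wpos hM).1] at h2
  rw [← h2]
  exact ⟨_, h1, rfl⟩

theorem na_mem_LL : na K ∈ LL K 63 := by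
  have h2 := conj_LL φ hM ((mo_n hφ hqq 3).mul (mo_n hφ hqq 2)) 47
  rw [(wpos hM).2] at h2
  rw [← h2]
  exact ⟨_, nb_mem_LL hM hφ hqq, rfl⟩

/-- **`H0` commutes with the diagonal element** -/
theorem H0_le_CC (hone : One χ) : H0 φ q ≤ CC χ := by
  have hr : ∀ i, χ (rt i).val = 1 := by
    intro i
    fin_cases i
    · exact hone 39 (by simp)
    · exact hone 44 (by simp)
    · exact hone 60 (by simp)
    · exact hone 71 (by simp)
  have hL : ∀ i, Lq φ (rt i) ≤ CC χ := fun i => (Lq_le_LL φ _).trans (LL_le_CC hM (hr i))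
  have h0 := n_mem_CC hM hone 0 (by decide)
  have h1 := n_mem_CC hM hone 1 (by decide)
  have h2 := n_mem_CC hM hone 2 (by decide)
  refine sup_le (sup_le (sup_le (sup_le (sup_le (sup_le (sup_le ?_ (hL 0)) (hL 1)) (hL 2)) (hL 3)) ?_) ?_) ?_
  · exact inf_le_left.trans (diag_le_CC hM)
  · rw [zpowers_le]; exact h2
  · rw [zpowers_le]
    exact mul_mem (mul_mem (mul_mem h0 h1) h2) (inv_mem (mul_mem h0 h1))
  · rw [zpowers_le]
    refine mul_mem ?_ ?_
    · exact LL_le_CC hM (hone 63 (by simp)) (na_mem_LL hM hφ hqq)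
    · exact mul_mem (mul_mem h0 h1) (inv_mem h0)

end Cfsg.Agent.H686.AO
end

-- part: H561/RV/DiagSym
section
/-!
# Symmetries of odd order of the Coxeter diagrams of finite irreducible (B,N)-pairs (helper561)

`odd_trivial` : a diagram of rank at least three other than `D₄` has no non-trivial symmetry of odd order;
`d4_stable` : a subset of the nodes of `D₄` stable under a symmetry of order three is stable under all symmetries.
-/

set_option autoImplicit false

namespace Cfsg.Agent.H561.RV.DiagSym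

open Cfsg.Agent.LieRecognition.CoxClass Cfsg.Agent.H454.PiBS

/-- a permutation of `{0,…,n-1}` preserving `m`, without orbits of length two -/
structure Sym (n : ℕ) (m : ℕ → ℕ → ℕ) (f : ℕ → ℕ) : Prop where
  lt : ∀ i, i < n → f i < n
  inj : ∀ i j, i < n → j < n → f i = f j → i = j
  pres : ∀ i j, i < n → j < n → m (f i) (f j) = m i j
  odd : ∀ i, i < n → f (f i) = i → f i = i

/-- adjacency of a path -/
theorem path {n : ℕ} {m : ℕ → ℕ → ℕ} {f : ℕ → ℕ} (hn : 2 ≤ n)
    (hm : ∀ i j, i < n → j < n → (3 ≤ m i j ↔ (i + 1 = j ∨ j + 1 = i))) (S : Sym n m f) :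
    ∀ i, i < n → f i = i := by
  have hadj : ∀ i j, i < n → j < n → ((f i + 1 = f j ∨ f j + 1 = f i) ↔ (i + 1 = j ∨ j + 1 = i)) := by
    intro i j hi hj
    rw [← hm i j hi hj, ← hm (f i) (f j) (S.lt i hi) (S.lt j hj), S.pres i j hi hj]
  -- surjectivity
  have hsurj : ∀ k, k < n → ∃ i, i < n ∧ f i = k := by
    intro k hk
    have h1 : Function.Injective (fun i : Fin n => (⟨f i, S.lt i i.2⟩ : Fin n)) := fun i j h =>
      Fin.ext (S.inj i j i.2 j.2 (congrArg Fin.val h))
    obtain ⟨i, hi⟩ := (Finite.injective_iff_surjective.1 h1) ⟨k, hk⟩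
    exact ⟨i, i.2, congrArg Fin.val hi⟩
  have hend : ∀ e, e < n → (e = 0 ∨ e + 1 = n) → f e = 0 ∨ f e + 1 = n := by
    intro e he hee
    by_contra hcon
    push Not at hcon
    have h0 := S.lt e he
    obtain ⟨a, ha, ha'⟩ := hsurj (f e - 1) (by omega)
    obtain ⟨b, hb, hb'⟩ := hsurj (f e + 1) (by omega)
    have h1 := (hadj e a he ha).1 (by omega)
    have h2 := (hadj e b he hb).1 (by omega)
    have h3 : a ≠ b := by
      rintro rfl
      omega
    (clear * - hee ha hb h1 h2 h3; omega)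
  have h00 : f 0 = 0 := by
    rcases hend 0 (by omega) (Or.inl rfl) with h | h
    · exact h
    · have h1 : f (f 0) = 0 := by
        rcases hend (f 0) (S.lt 0 (by omega)) (Or.inr h) with h2 | h2
        · exact h2
        · exfalso
          have h3 : f (f 0) = f 0 := by omega
          have h4 := S.inj (f 0) 0 (S.lt 0 (by omega)) (by omega) h3
          omega
      exact S.odd 0 (by omega) h1
  intro i
  induction i using Nat.strong_induction_on with
  | _ i ih =>
    intro hi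
    rcases Nat.eq_zero_or_pos i with rfl | hpos
    · exact h00
    · have h1 := ih (i - 1) (by omega) (by omega)
      have h2 := (hadj (i - 1) i (by omega) hi).2 (by omega)
      rcases Nat.eq_zero_or_pos (i - 1) with h3 | h3
      · omega
      · have h4 := ih (i - 2) (by omega) (by omega)
        have h5 : f i ≠ f (i - 2) := fun h => by
          have := S.inj i (i - 2) hi (by omega) h
          omega
        omega

/-- the diagram `D_n`, `n ≥ 5` -/
theorem typeD {n : ℕ} {f : ℕ → ℕ} (hn : 5 ≤ n) (S : Sym n (mD n) f) : ∀ i, i < n → f i = i := by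
  have hm : ∀ i j, i < n → j < n → (3 ≤ mD n i j ↔ ((i + 1 = j ∧ j + 1 < n) ∨ (j + 1 = i ∧ i + 1 < n) ∨
      (i + 3 = n ∧ j + 1 = n) ∨ (j + 3 = n ∧ i + 1 = n))) := by
    intro i j hi hj
    unfold mD
    (first | (lia; done) | (split_ifs with h1 h2 <;> omega))
  have hadj : ∀ i j, i < n → j < n → 3 ≤ mD n i j → 3 ≤ mD n (f i) (f j) := by
    intro i j hi hj h
    rw [S.pres i j hi hj]; exact h
  have ad : ∀ i j, i < n → j < n → ((i + 1 = j ∧ j + 1 < n) ∨ (j + 1 = i ∧ i + 1 < n) ∨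
      (i + 3 = n ∧ j + 1 = n) ∨ (j + 3 = n ∧ i + 1 = n)) → ((f i + 1 = f j ∧ f j + 1 < n) ∨
      (f j + 1 = f i ∧ f i + 1 < n) ∨ (f i + 3 = n ∧ f j + 1 = n) ∨ (f j + 3 = n ∧ f i + 1 = n)) := by
    intro i j hi hj h
    exact (hm _ _ (S.lt i hi) (S.lt j hj)).1 (hadj i j hi hj ((hm i j hi hj).2 h))
  obtain ⟨k, rfl⟩ : ∃ k, n = k + 5 := ⟨n - 5, by omega⟩
  -- nodes: `b = k + 2`, neighbours `k + 1`, `k + 3`, `k + 4`
  have l0 := S.lt k (by omega)
  have l1 := S.lt (k + 1) (by omega)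
  have l2 := S.lt (k + 2) (by omega)
  have l3 := S.lt (k + 3) (by omega)
  have l4 := S.lt (k + 4) (by omega)
  have a01 := ad k (k + 1) (by omega) (by omega) (by omega)
  have a12 := ad (k + 1) (k + 2) (by omega) (by omega) (by omega)
  have a23 := ad (k + 2) (k + 3) (by omega) (by omega) (by omega)
  have a24 := ad (k + 2) (k + 4) (by omega) (by omega) (by omega)
  have n01 : f k ≠ f (k + 2) := fun h => by have := S.inj _ _ (by omega) (by omega) h; omega
  have n13 : f (k + 1) ≠ f (k + 3) := fun h => by have := S.inj _ _ (by omega) (by omega) h; omega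
  have n14 : f (k + 1) ≠ f (k + 4) := fun h => by have := S.inj _ _ (by omega) (by omega) h; omega
  have n34 : f (k + 3) ≠ f (k + 4) := fun h => by have := S.inj _ _ (by omega) (by omega) h; omega
  have hb : f (k + 2) = k + 2 := by (clear * - a12 a23 a24 n13 n14 n34; omega)
  have h1 : f (k + 1) = k + 1 := by (clear * - a01 a12 n01 hb; omega)
  have h3 : f (k + 3) = k + 3 := by
    by_contra hne
    have h5 : f (k + 3) = k + 4 := by (clear * - l3 a23 n13 hb h1 hne; omega)
    have h6 : f (k + 4) = k + 3 := by (clear * - a24 n14 n34 hb h1 h5; omega)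
    exact hne (S.odd (k + 3) (by omega) (by rw [h5, h6]))
  have h4 : f (k + 4) = k + 4 := by omega
  -- down the path
  have down : ∀ d, d ≤ k + 1 → f (k + 1 - d) = k + 1 - d := by
    intro d
    induction d using Nat.strong_induction_on with
    | _ d ih =>
      intro hd
      rcases Nat.eq_zero_or_pos d with rfl | hpos
      · exact h1
      · have i1 := ih (d - 1) (by omega) (by omega)
        have e1 : k + 1 - (d - 1) = (k + 1 - d) + 1 := by (clear * - hd hpos; omega)
        rw [e1] at i1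
        have a := ad (k + 1 - d) (k + 1 - d + 1) (by omega) (by omega) (by (clear * -; omega))
        rw [i1] at a
        have lt := S.lt (k + 1 - d) (by (clear * -; omega))
        have i2 : f (k + 1 - d + 2) = k + 1 - d + 2 := by
          rcases Nat.lt_or_ge 1 d with h | h
          · have i3 := ih (d - 2) (by omega) (by omega)
            have e2 : k + 1 - (d - 2) = (k + 1 - d) + 2 := by (clear * - e1 h; omega)
            rwa [e2] at i3
          · have : k + 1 - d + 2 = k + 2 := by (clear * - e1 h; omega)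
            rw [this]; exact hb
        have ne : f (k + 1 - d) ≠ f (k + 1 - d + 2) := fun h => by
          have := S.inj _ _ (by omega) (by omega) h; omega
        (clear * - e1 a i2 ne; omega)
  intro i hi
  rcases Nat.lt_or_ge (k + 1) i with h | h
  · have : i = k + 2 ∨ i = k + 3 ∨ i = k + 4 := by (clear * - hi h; omega)
    rcases this with rfl | rfl | rfl
    · exact hb
    · exact h3
    · exact h4
  · have := down (k + 1 - i) (by omega)
    have e : k + 1 - (k + 1 - i) = i := by (clear * - h; omega)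
    rwa [e] at this

/-- the diagrams `E_n`, `n ≥ 6` -/
theorem typeE {n : ℕ} {f : ℕ → ℕ} (hn : 6 ≤ n) (S : Sym n (mE n) f) : ∀ i, i < n → f i = i := by
  have hm : ∀ i j, i < n → j < n → (3 ≤ mE n i j ↔ ((i + 1 = j ∧ j + 1 < n) ∨ (j + 1 = i ∧ i + 1 < n) ∨
      (i = 2 ∧ j + 1 = n) ∨ (j = 2 ∧ i + 1 = n))) := by
    intro i j hi hj
    unfold mE
    (first | (lia; done) | (split_ifs with h1 h2 <;> omega))
  have ad : ∀ i j, i < n → j < n → ((i + 1 = j ∧ j + 1 < n) ∨ (j + 1 = i ∧ i + 1 < n) ∨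
      (i = 2 ∧ j + 1 = n) ∨ (j = 2 ∧ i + 1 = n)) → ((f i + 1 = f j ∧ f j + 1 < n) ∨
      (f j + 1 = f i ∧ f i + 1 < n) ∨ (f i = 2 ∧ f j + 1 = n) ∨ (f j = 2 ∧ f i + 1 = n)) := by
    intro i j hi hj h
    refine (hm _ _ (S.lt i hi) (S.lt j hj)).1 ?_
    rw [S.pres i j hi hj]
    exact (hm i j hi hj).2 h
  have l0 := S.lt 0 (by omega)
  have l1 := S.lt 1 (by omega)
  have l2 := S.lt 2 (by omega)
  have l3 := S.lt 3 (by omega)
  have l4 := S.lt 4 (by omega)
  have ln := S.lt (n - 1) (by omega)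
  have a01 := ad 0 1 (by omega) (by omega) (by omega)
  have a12 := ad 1 2 (by omega) (by omega) (by omega)
  have a23 := ad 2 3 (by omega) (by omega) (by omega)
  have a34 := ad 3 4 (by omega) (by omega) (by omega)
  have a2n := ad 2 (n - 1) (by omega) (by omega) (by omega)
  have n02 : f 0 ≠ f 2 := fun h => by have := S.inj _ _ (by omega) (by omega) h; omega
  have n13 : f 1 ≠ f 3 := fun h => by have := S.inj _ _ (by omega) (by omega) h; omega
  have n1n : f 1 ≠ f (n - 1) := fun h => by have := S.inj _ _ (by omega) (by omega) h; omega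
  have n3n : f 3 ≠ f (n - 1) := fun h => by have := S.inj _ _ (by omega) (by omega) h; omega
  have n24 : f 2 ≠ f 4 := fun h => by have := S.inj _ _ (by omega) (by omega) h; omega
  have hb : f 2 = 2 := by (clear * - ln a12 a23 a2n n13 n1n n3n; omega)
  have hnn : f (n - 1) = n - 1 := by omega
  have h1 : f 1 = 1 := by
    by_contra hne
    have h5 : f 1 = 3 := by (clear * - a12 n1n hb hnn hne; omega)
    have h6 : f 3 = 1 := by (clear * - l3 a23 n13 n3n hb hnn h5; omega)
    exact hne (S.odd 1 (by omega) (by rw [h5, h6]))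
  have h3 : f 3 = 3 := by (clear * - l3 a23 n13 n3n hb hnn h1; omega)
  have h0 : f 0 = 0 := by (clear * - a01 n02 hb h1; omega)
  have up : ∀ i, i + 1 < n → f i = i := by
    intro i
    induction i using Nat.strong_induction_on with
    | _ i ih =>
      intro hi
      rcases Nat.lt_or_ge 3 i with h | h
      · have i1 := ih (i - 1) (by omega) (by omega)
        have i2 := ih (i - 2) (by omega) (by omega)
        have a := ad (i - 1) i (by omega) (by omega) (by (clear * - hi h; omega))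
        have lt := S.lt i (by omega)
        have ne : f i ≠ f (i - 2) := fun h => by
          have := S.inj _ _ (by omega) (by omega) h; omega
        have ne2 : f i ≠ f (n - 1) := fun h => by
          have := S.inj _ _ (by omega) (by omega) h; (clear * - hi this; omega)
        (clear * - hi h i1 i2 a ne; omega)
      · have : i = 0 ∨ i = 1 ∨ i = 2 ∨ i = 3 := by omega
        rcases this with rfl | rfl | rfl | rfl
        · exact h0
        · exact h1
        · exact hb
        · exact h3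
  intro i hi
  rcases Nat.lt_or_ge (i + 1) n with h | h
  · exact up i h
  · have : i = n - 1 := by omega
    rw [this]; exact hnn

/-! ### Permutations of the nodes -/

section perm

variable {I : Type*} {M : CoxeterMatrix I}

theorem odd_orbit {σ : Equiv.Perm I} (hodd : Odd (orderOf σ)) {i : I} (h : σ (σ i) = i) : σ i = i := by
  obtain ⟨k, hk⟩ := hodd
  have h1 : ∀ k : ℕ, (σ ^ (2 * k)) i = i := by
    intro k
    induction k with
    | zero => rfl
    | succ k ih =>
      have e : 2 * (k + 1) = 2 * k + 1 + 1 := by ring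
      rw [e, pow_succ, pow_succ, Equiv.Perm.mul_apply, Equiv.Perm.mul_apply, h, ih]
  have h2 := pow_orderOf_eq_one σ
  rw [hk, pow_succ'] at h2
  have h3 := congrArg (fun τ : Equiv.Perm I => τ i) h2
  simp only [Equiv.Perm.mul_apply, h1, Equiv.Perm.one_apply] at h3
  exact h3

theorem eq_one_of_sym {n : ℕ} {m : ℕ → ℕ → ℕ} (v : Fin n ≃ I) (hv : Lab M v m) {σ : Equiv.Perm I}
    (hσ : σ ∈ autM M) (hodd : Odd (orderOf σ)) (hS : ∀ f, Sym n m f → ∀ i, i < n → f i = i) : σ = 1 := by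
  let f : ℕ → ℕ := fun i => if h : i < n then (v.symm (σ (v ⟨i, h⟩)) : ℕ) else i
  have hf : ∀ i : Fin n, f i = (v.symm (σ (v i)) : ℕ) := fun i => by simp [f]
  have hSym : Sym n m f := by
    refine ⟨fun i hi => ?_, fun i j hi hj h => ?_, fun i j hi hj => ?_, fun i hi h => ?_⟩
    · rw [hf ⟨i, hi⟩]; exact (v.symm _).2
    · rw [hf ⟨i, hi⟩, hf ⟨j, hj⟩] at h
      have h1 := v.injective (σ.injective (v.symm.injective (Fin.ext h)))
      exact congrArg Fin.val h1
    · rw [hf ⟨i, hi⟩, hf ⟨j, hj⟩, ← hv, ← hv ⟨i, hi⟩ ⟨j, hj⟩, v.apply_symm_apply, v.apply_symm_apply]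
      exact hσ _ _
    · have h1 : f (f i) = (v.symm (σ (v (v.symm (σ (v ⟨i, hi⟩))))) : ℕ) := by
        rw [hf ⟨i, hi⟩, hf]
      rw [h1, v.apply_symm_apply] at h
      have h2 : σ (σ (v ⟨i, hi⟩)) = v ⟨i, hi⟩ := by
        rw [← v.symm_apply_eq]
        exact Fin.ext h
      have h3 := odd_orbit hodd h2
      rw [hf ⟨i, hi⟩, h3, v.symm_apply_apply]
  ext i
  have h1 := hS f hSym (v.symm i) (v.symm i).2
  rw [hf, v.apply_symm_apply] at h1
  exact v.symm.injective (Fin.ext h1)

/-- type `D₄` -/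
def IsD4 (M : CoxeterMatrix I) : Prop := ∃ v : Fin 4 ≃ I, Lab M v (mD 4)

/-- **odd symmetries of the diagram are trivial except for `D₄`** -/
theorem odd_trivial (h : Outcome M) (hD : ¬ IsD4 M) {σ : Equiv.Perm I} (hσ : σ ∈ autM M) (hodd : Odd (orderOf σ)) :
    σ = 1 := by
  rcases h with ⟨n, v, hn, hv⟩ | ⟨n, v, hn, hv⟩ | ⟨n, v, hn, hv⟩ | ⟨v, hv⟩ | ⟨v, hv⟩ | ⟨v, hv⟩ | ⟨v, hv⟩
  · refine eq_one_of_sym v hv hσ hodd fun f hf => path (by omega) (fun i j hi hj => ?_) hf
    unfold mA; (first | (lia; done) | (split_ifs <;> omega))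
  · refine eq_one_of_sym v hv hσ hodd fun f hf => path (by omega) (fun i j hi hj => ?_) hf
    unfold mC; (first | (lia; done) | (split_ifs <;> omega))
  · have h5 : 5 ≤ n := by
      by_contra h5
      obtain rfl : n = 4 := by omega
      exact hD ⟨v, hv⟩
    exact eq_one_of_sym v hv hσ hodd fun f hf => typeD h5 hf
  · exact eq_one_of_sym v hv hσ hodd fun f hf => typeE (by norm_num) hf
  · exact eq_one_of_sym v hv hσ hodd fun f hf => typeE (by norm_num) hf
  · exact eq_one_of_sym v hv hσ hodd fun f hf => typeE (by norm_num) hf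
  · refine eq_one_of_sym v hv hσ hodd fun f hf => path (by omega) (fun i j hi hj => ?_) hf
    unfold mF; (first | (lia; done) | (split_ifs <;> omega))

/-- rank at most two -/
theorem odd_trivial_two [Finite I] (h : Nat.card I ≤ 2) {σ : Equiv.Perm I} (hodd : Odd (orderOf σ)) : σ = 1 := by
  classical
  have := Fintype.ofFinite I
  ext i
  apply odd_orbit hodd
  by_contra hne
  have h1 : σ i ≠ i := fun h => hne (by rw [h, h])
  have h2 : σ (σ i) ≠ σ i := fun h => h1 (σ.injective h)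
  have h3 : ({i, σ i, σ (σ i)} : Finset I).card = 3 := by
    rw [Finset.card_insert_of_notMem, Finset.card_pair h2.symm]
    simp only [Finset.mem_insert, Finset.mem_singleton, not_or]
    exact ⟨h1.symm, fun h => hne h.symm⟩
  have h4 := Finset.card_le_univ ({i, σ i, σ (σ i)} : Finset I)
  rw [h3, ← Nat.card_eq_fintype_card] at h4
  omega

end perm

end Cfsg.Agent.H561.RV.DiagSym
end
end

-- part: H165/RV/Final
section
prune_inst 0x12000000140120000180512100020044c00009000230401d5a10f4202065322090227004c801e03500aaa40000000000280005000100000000004004001052180aa52002340010426000f80b087180c00000000000000000000000000041004200000000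
set_option linter.all false
open scoped Cfsg.Agent.FastGrp

-- part: H165/RV/Coord
section
/-!
# TEAM RV: Hall subgroups of a nonabelian minimal normal subgroup (helper165)
-/

set_option autoImplicit false

namespace Cfsg.Agent.H165.RV

open Subgroup Cfsg Cfsg.Agent.H988.CPi Cfsg.Agent.H571.DExt
open scoped Pointwise

universe u

variable {G : Type u} [Group G] [Finite G] {π : Set ℕ}

/-- `|N : H ∩ N|` divides `|K : H|` if `N` is normal in `K`. -/
theorem relIndex_dvd {H N K : Subgroup G} (hNK : N ≤ K) (hHK : H ≤ K) (hn : K ≤ normalizer (N : Set G)) :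
    H.relIndex N ∣ H.relIndex K := by
  have n1 : (N.subgroupOf K).Normal := (normal_subgroupOf_iff_le_normalizer hNK).mpr hn
  have h1 := relIndex_mul_sup_index (H.subgroupOf K) (N.subgroupOf K)
  rw [relIndex_subgroupOf hNK] at h1
  exact ⟨_, h1.symm⟩

/-- the version without `H ≤ K` -/
theorem relIndex_dvd' {H N K : Subgroup G} (hNK : N ≤ K) (hn : K ≤ normalizer (N : Set G)) :
    H.relIndex N ∣ H.relIndex K := by
  have h1 := relIndex_dvd (H := H ⊓ K) hNK inf_le_right hn
  rw [inf_relIndex_right] at h1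
  have h2 : (H ⊓ K).relIndex N = H.relIndex N := by
    rw [← inf_relIndex_right, inf_assoc, inf_of_le_right hNK, inf_relIndex_right]
  rwa [h2] at h1

section Coord

variable {m : ℕ} {A : Subgroup G} {T : Fin m → Subgroup G} (e : A ≃* (∀ i, T i))

/-- The coordinates of an element of a Hall subgroup `R` of `A` are in `R`. -/
theorem coord_mem (hTA : ∀ i, T i ≤ A) (hAT : ∀ i, A ≤ normalizer (T i : Set G))
    (hs : ∀ i (t : T i), ((e.symm (Pi.mulSingle i t) : A) : G) = t)
    {R : Subgroup G} (hRA : R ≤ A) (h1 : PiN π (Nat.card R)) (h2 : PiN' π (R.relIndex A)) {x : G} (hx : x ∈ R)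
    (j : Fin m) : ((e ⟨x, hRA hx⟩ j : T j) : G) ∈ R := by
  set f : A →* T j := (Pi.evalMonoidHom (fun i => T i) j).comp e.toMonoidHom with hf
  set P : Subgroup (T j) := (R.subgroupOf A).map f with hP
  have hRP : R.subgroupOf (T j) ≤ P := by
    intro t ht
    refine ⟨⟨(t : G), hTA j t.2⟩, ht, ?_⟩
    have h3 : e.symm (Pi.mulSingle j t) = ⟨(t : G), hTA j t.2⟩ := Subtype.ext (hs j t)
    show e ⟨(t : G), hTA j t.2⟩ j = t
    rw [← h3, MulEquiv.apply_symm_apply, Pi.mulSingle_eq_same]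
  have hPc : PiN π (Nat.card P) := by
    refine PiN.of_dvd h1 ((card_map_dvd _ _).trans ?_)
    rw [← card_map_of_injective A.subtype_injective, subgroupOf_map_subtype]
    exact card_dvd_of_le inf_le_left
  have hRi : PiN' π ((R.subgroupOf (T j)).index) := PiN'.of_dvd h2 (relIndex_dvd' (hTA j) (hAT j))
  have h4 : (R.subgroupOf (T j)).relIndex P = 1 := by
    apply eq_one_of_both (π := π)
    · exact hPc.of_dvd (relIndex_dvd_card _ _)
    · exact hRi.of_dvd ⟨_, (relIndex_mul_index hRP).symm⟩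
  exact (relIndex_eq_one.mp h4) ⟨⟨x, hRA hx⟩, hx, rfl⟩

/-- An element of `A` is in a subgroup `L` if its coordinates are. -/
theorem mem_of_coord (hs : ∀ i (t : T i), ((e.symm (Pi.mulSingle i t) : A) : G) = t) {L : Subgroup G} (z : ∀ i, T i)
    (hz : ∀ i, (z i : G) ∈ L) : ((e.symm z : A) : G) ∈ L := by
  have h1 : z ∈ (L.subgroupOf A).comap e.symm.toMonoidHom := by
    refine Subgroup.pi_mem_of_mulSingle_mem z fun i => ?_
    show ((e.symm (Pi.mulSingle i (z i)) : A) : G) ∈ L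
    rw [hs]
    exact hz i
  exact h1

/-- **The coordinate step.** -/
theorem pr_of_coord (hTA : ∀ i, T i ≤ A) (hAT : ∀ i, A ≤ normalizer (T i : Set G))
    (hs : ∀ i (t : T i), ((e.symm (Pi.mulSingle i t) : A) : G) = t) [A.Normal]
    {R : Subgroup G} (hRA : R ≤ A) (h1 : PiN π (Nat.card R)) (h2 : PiN' π (R.relIndex A)) {y : G}
    (hy : ∀ j, ∃ z ∈ (R ⊓ T j) ⊔ (MulAut.conj y • R ⊓ T j),
      MulAut.conj y • R ⊓ T j = MulAut.conj z • (R ⊓ T j)) : Pr R y := by
  choose z hz hze using hy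
  have hzT : ∀ j, z j ∈ T j := fun j => (sup_le inf_le_right inf_le_right : (R ⊓ T j) ⊔ (MulAut.conj y • R ⊓ T j) ≤ T j) (hz j)
  set Z : ∀ i, T i := fun i => ⟨z i, hzT i⟩ with hZ
  have hmem : ((e.symm Z : A) : G) ∈ R ⊔ MulAut.conj y • R := by
    refine mem_of_coord e hs Z fun i => ?_
    exact (sup_le (inf_le_left.trans le_sup_left) (inf_le_left.trans le_sup_right) :
      (R ⊓ T i) ⊔ (MulAut.conj y • R ⊓ T i) ≤ R ⊔ MulAut.conj y • R) (hz i)
  refine ⟨_, hmem, ?_⟩
  symm
  have hle : MulAut.conj ((e.symm Z : A) : G) • R ≤ MulAut.conj y • R := by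
    intro w hw
    rw [← cj_eq] at hw
    obtain ⟨x, hx, rfl⟩ := hw
    have hxe : (⟨x, hRA hx⟩ : A) = e.symm (e ⟨x, hRA hx⟩) := (e.symm_apply_apply _).symm
    have h3 : (MulAut.conj ((e.symm Z : A) : G)).toMonoidHom x
        = ((e.symm (Z * e ⟨x, hRA hx⟩ * Z⁻¹) : A) : G) := by
      rw [map_mul, map_mul, map_inv, e.symm_apply_apply]
      rfl
    rw [h3]
    refine mem_of_coord e hs _ fun i => ?_
    have h4 : ((e ⟨x, hRA hx⟩ i : T i) : G) ∈ R ⊓ T i := ⟨coord_mem e hTA hAT hs hRA h1 h2 hx i, (e ⟨x, hRA hx⟩ i).2⟩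
    have h5 : z i * (e ⟨x, hRA hx⟩ i : G) * (z i)⁻¹ ∈ MulAut.conj (z i) • (R ⊓ T i) := by
      rw [← cj_eq]
      exact ⟨_, h4, rfl⟩
    rw [← hze i] at h5
    exact h5.1
  exact eq_of_le_of_card_ge hle (by rw [card_smul, card_smul])

end Coord

/-! ### The stabiliser of the tuple of classes -/

/-- `h` maps the class of `H ∩ T i` to the class of `H ∩ T j`. -/
def GoodEl {m : ℕ} (T : Fin m → Subgroup G) (H : Subgroup G) (h : G) : Prop :=
  ∀ i j, T j = MulAut.conj h • T i → ∃ s ∈ T j, MulAut.conj h • (H ⊓ T i) = MulAut.conj s • (H ⊓ T j)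

/-- the stabiliser of the tuple of classes -/
def stabC {m : ℕ} (T : Fin m → Subgroup G) (H : Subgroup G) (hperm : ∀ (g : G) i, ∃ j, T j = MulAut.conj g • T i) :
    Subgroup G where
  carrier := {h | GoodEl T H h}
  one_mem' := by
    intro i j hij
    rw [map_one, one_smul] at hij
    exact ⟨1, one_mem _, by rw [hij]⟩
  mul_mem' {a b} ha hb := by
    intro i j hij
    obtain ⟨k, hk⟩ := hperm b i
    rw [smul_mul, ← hk] at hij
    obtain ⟨s, hs, hse⟩ := hb i k hk
    obtain ⟨s', hs', hse'⟩ := ha k j hij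
    refine ⟨a * s * a⁻¹ * s', mul_mem ?_ hs', ?_⟩
    · rw [hij, ← cj_eq]
      exact ⟨s, hs, rfl⟩
    · rw [smul_mul, hse, smul_mul (a * s * a⁻¹), ← hse', ← smul_mul, ← smul_mul]
      congr 2
      group
  inv_mem' {a} ha := by
    intro i j hij
    have h1 : T i = MulAut.conj a • T j := by rw [hij, conj_smul_inv_smul]
    obtain ⟨s, hs, hse⟩ := ha j i h1
    refine ⟨a⁻¹ * s⁻¹ * a, ?_, ?_⟩
    · rw [hij, ← cj_eq]
      exact ⟨s⁻¹, inv_mem hs, by simp⟩
    · have h2 : H ⊓ T i = MulAut.conj s⁻¹ • MulAut.conj a • (H ⊓ T j) := by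
        rw [hse, conj_inv_smul_smul]
      rw [h2, ← smul_mul, ← smul_mul]

theorem le_stabC {m : ℕ} {T : Fin m → Subgroup G} {H : Subgroup G}
    {hperm : ∀ (g : G) i, ∃ j, T j = MulAut.conj g • T i} : H ≤ stabC T H hperm := by
  intro h hh i j hij
  refine ⟨1, one_mem _, ?_⟩
  rw [smul_inf', ← hij, smul_eq_of_mem hh, map_one, one_smul]

end Cfsg.Agent.H165.RV
end

-- part: H165/RV/PronGen
section
/-!
# TEAM RV: pronormality of Hall subgroups, the reduction to simple groups (helper165)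

`pr_of_cfg` : `K` a subgroup of the finite group `G`, `H` a Hall `π`-subgroup of `K` containing the Sylow `2`-subgroup `T`
of `K`, `g ∈ N(K) ∩ C(T)` of odd order: `H` and `g H g⁻¹` are conjugate in the subgroup they generate (from the rows `NRow`
and `BRow` of the simple groups).

`pronormal_simple` : Hall subgroups of even order of simple groups are pronormal.
-/

set_option autoImplicit false

namespace Cfsg.Agent.H165.RV

open Subgroup Cfsg Cfsg.Agent.H988.CPi Cfsg.Agent.H571.DExt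
open scoped Pointwise

universe u

/-- The configuration. -/
structure Conf (π : Set ℕ) {G : Type u} [Group G] (K H T : Subgroup G) (g : G) : Prop where
  gK : g ∈ normalizer (K : Set G)
  hK : H ≤ K
  h1 : PiN π (Nat.card H)
  h2 : PiN' π (H.relIndex K)
  tH : T ≤ H
  t1 : IsPGroup 2 T
  t2 : ¬ 2 ∣ T.relIndex K
  odd : Odd (orderOf g)
  cen : ∀ t ∈ T, g * t * g⁻¹ = t

variable {π : Set ℕ} {G : Type u} [Group G] [Finite G]

theorem relIndex_dvd_of_le' {H M K : Subgroup G} (hHM : H ≤ M) (hMK : M ≤ K) : H.relIndex M ∣ H.relIndex K :=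
  ⟨_, (relIndex_mul_relIndex H M K hHM hMK).symm⟩

omit [Finite G] in
theorem smul_eq_of_normalizer {K : Subgroup G} {g : G} (h : g ∈ normalizer (K : Set G)) : MulAut.conj g • K = K := by
  ext x
  rw [← cj_eq]
  constructor
  · rintro ⟨k, hk, rfl⟩
    exact (mem_normalizer_iff.mp h k).mp hk
  · intro hx
    refine ⟨g⁻¹ * x * g, ?_, by simp [mul_assoc]⟩
    have h1 := mem_normalizer_iff.mp h (g⁻¹ * x * g)
    have h2 : g * (g⁻¹ * x * g) * g⁻¹ = x := by group
    rw [h2] at h1
    exact h1.mpr hx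

theorem normalizer_of_smul_eq {K : Subgroup G} {g : G} (h : MulAut.conj g • K = K) : g ∈ normalizer (K : Set G) := by
  rw [mem_normalizer_iff]
  intro x
  constructor
  · intro hx
    have : g * x * g⁻¹ ∈ MulAut.conj g • K := by rw [← cj_eq]; exact ⟨x, hx, rfl⟩
    rwa [h] at this
  · intro hx
    rw [← h, ← cj_eq] at hx
    obtain ⟨k, hk, hke⟩ := hx
    have : k = x := by
      have h1 : g * k * g⁻¹ = g * x * g⁻¹ := hke
      exact mul_left_cancel (mul_right_cancel h1)
    rwa [← this]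

theorem relIndex_map_dvd {H K A : Subgroup G} [A.Normal] (hHK : H ≤ K) (hAK : A ≤ K) :
    (H.map (QuotientGroup.mk' A)).relIndex (K.map (QuotientGroup.mk' A)) ∣ H.relIndex K := by
  rw [relIndex_map_map, QuotientGroup.ker_mk', sup_of_le_left hAK]
  exact ⟨_, ((mul_comm _ _).trans (relIndex_mul_relIndex H (H ⊔ A) K le_sup_left (sup_le hHK hAK))).symm⟩

/-- the induction hypothesis / the claim -/
def Claim (π : Set ℕ) (n : ℕ) : Prop :=
  ∀ (G : Type u) [Group G] [Finite G] (K H T : Subgroup G) (g : G), Nat.card K = n → Conf π K H T g → Pr H g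

/-- pass to a smaller `K` -/
theorem Conf.of_le {K H T : Subgroup G} {g : G} (c : Conf π K H T g) {M : Subgroup G} (hMK : M ≤ K) (hHM : H ≤ M)
    (hg : g ∈ normalizer (M : Set G)) : Conf π M H T g where
  gK := hg
  hK := hHM
  h1 := c.h1
  h2 := c.h2.of_dvd (relIndex_dvd_of_le' hHM hMK)
  tH := c.tH
  t1 := c.t1
  t2 h := c.t2 (h.trans (relIndex_dvd_of_le' (c.tH.trans hHM) hMK))
  odd := c.odd
  cen := c.cen

/-- pass to a subnormal factor `L` (normal in `A`, `A` normal in `K`) -/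
theorem Conf.inter {K H T : Subgroup G} {g : G} (c : Conf π K H T g) {A L : Subgroup G} (hAK : A ≤ K)
    (hKA : K ≤ normalizer (A : Set G)) (hLA : L ≤ A) (hAL : A ≤ normalizer (L : Set G))
    (hg : g ∈ normalizer (L : Set G)) : Conf π L (H ⊓ L) (T ⊓ L) g where
  gK := hg
  hK := inf_le_right
  h1 := c.h1.of_dvd (card_dvd_of_le inf_le_left)
  h2 := by
    rw [inf_relIndex_right]
    exact c.h2.of_dvd ((relIndex_dvd' hLA hAL).trans (relIndex_dvd' hAK hKA))
  tH := inf_le_inf_right L c.tH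
  t1 := c.t1.to_le inf_le_left
  t2 := by
    rw [inf_relIndex_right]
    exact fun h => c.t2 (h.trans ((relIndex_dvd' hLA hAL).trans (relIndex_dvd' hAK hKA)))
  odd := c.odd
  cen t ht := c.cen t ht.1

/-- pass to a subgroup of `G` containing `K` and `g` -/
theorem Conf.subgroupOf {K H T M : Subgroup G} {g : G} (c : Conf π K H T g) (hKM : K ≤ M) (hg : g ∈ M) :
    Conf π (K.subgroupOf M) (H.subgroupOf M) (T.subgroupOf M) (⟨g, hg⟩ : M) where
  gK := by
    rw [mem_normalizer_iff]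
    intro x
    exact mem_normalizer_iff.mp c.gK x
  hK := fun x hx => c.hK hx
  h1 := by
    have : Nat.card (H.subgroupOf M) = Nat.card H := by
      rw [← card_map_of_injective M.subtype_injective, subgroupOf_map_subtype, inf_of_le_left (c.hK.trans hKM)]
    rw [this]; exact c.h1
  h2 := by rw [relIndex_subgroupOf hKM]; exact c.h2
  tH := fun x hx => c.tH hx
  t1 := c.t1.comap_subtype
  t2 := by rw [relIndex_subgroupOf hKM]; exact c.t2
  odd := by
    rw [← orderOf_injective M.subtype M.subtype_injective]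
    exact c.odd
  cen t ht := Subtype.ext (c.cen t ht)

/-- pass to a quotient by a normal subgroup contained in `K` -/
theorem Conf.quot {K H T : Subgroup G} {g : G} (c : Conf π K H T g) (A : Subgroup G) [A.Normal] (hAK : A ≤ K) :
    Conf π (K.map (QuotientGroup.mk' A)) (H.map (QuotientGroup.mk' A)) (T.map (QuotientGroup.mk' A))
      (QuotientGroup.mk' A g) where
  gK := by
    apply normalizer_of_smul_eq
    rw [← map_smul', smul_eq_of_normalizer c.gK]
  hK := map_mono c.hK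
  h1 := c.h1.of_dvd (card_map_dvd _ _)
  h2 := c.h2.of_dvd (relIndex_map_dvd c.hK hAK)
  tH := map_mono c.tH
  t1 := c.t1.map _
  t2 h := c.t2 (h.trans (relIndex_map_dvd (c.tH.trans c.hK) hAK))
  odd := c.odd.of_dvd_nat (orderOf_map_dvd _ _)
  cen := by
    rintro _ ⟨t, ht, rfl⟩
    rw [← map_inv, ← map_mul, ← map_mul, c.cen t ht]

end Cfsg.Agent.H165.RV
end

-- part: H165/RV/PronMain
section
/-!
# TEAM RV: pronormality of Hall subgroups, the main induction (helper165)
-/

set_option autoImplicit false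

namespace Cfsg.Agent.H165.RV

open Subgroup Cfsg Cfsg.Agent.H988.CPi Cfsg.Agent.H571.DExt
open scoped Pointwise

universe u

variable {π : Set ℕ} {G : Type u} [Group G] [Finite G]

/-- odd part of an element which centralises the Sylow subgroup -/
theorem exists_odd_part {T : Subgroup G} (t1 : IsPGroup 2 T) (t2 : ¬ 2 ∣ T.index) {c : G}
    (hc : ∀ t ∈ T, c * t * c⁻¹ = t) :
    ∃ a t : G, c = a * t ∧ t ∈ T ∧ Odd (orderOf a) ∧ ∀ s ∈ T, a * s * a⁻¹ = s := by
  have : Fact (Nat.Prime 2) := ⟨Nat.prime_two⟩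
  obtain ⟨k, m, hm, hk⟩ := Nat.exists_eq_pow_mul_and_not_dvd (orderOf_pos c).ne' 2 (by norm_num)
  have hco : Nat.Coprime (2 ^ k) m := Nat.Coprime.pow_left _ (Nat.prime_two.coprime_iff_not_dvd.2 hm)
  obtain ⟨e, hc1, hc2⟩ := Nat.chineseRemainder hco 0 1
  have h1 : 2 ^ k ∣ e := (Nat.modEq_zero_iff_dvd).1 hc1
  have hodd : (c ^ e) ^ m = 1 := by
    rw [← pow_mul]
    obtain ⟨d, rfl⟩ := h1
    rw [show 2 ^ k * d * m = orderOf c * d by rw [hk]; ring, pow_mul, pow_orderOf_eq_one, one_pow]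
  have hs : (c ^ ((1 : ℤ) - e)) ^ (2 ^ k) = 1 := by
    rw [← zpow_natCast, ← zpow_mul, ← orderOf_dvd_iff_zpow_eq_one, hk]
    have h2 : (m : ℤ) ∣ 1 - e := by
      have := (Nat.modEq_iff_dvd.1 hc2)
      exact_mod_cast this
    obtain ⟨d, hd⟩ := h2
    rw [hd]
    push_cast
    exact ⟨d, by ring⟩
  have hcen : ∀ t ∈ T, Commute c t := fun t ht => by
    have := hc t ht
    show c * t = t * c
    calc c * t = c * t * c⁻¹ * c := by group
      _ = t * c := by rw [this]
  refine ⟨c ^ e, c ^ ((1 : ℤ) - e), ?_, ?_, ?_, ?_⟩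
  · rw [← zpow_natCast, ← zpow_add]; simp
  · -- a 2-element of the centraliser is in `T`
    set w := c ^ ((1 : ℤ) - e) with hw
    have hwc : ∀ t ∈ T, Commute w t := fun t ht => (hcen t ht).zpow_left _
    have h2 : IsPGroup 2 (zpowers w) := by
      rw [IsPGroup.iff_orderOf]
      rintro ⟨x, hx⟩
      obtain ⟨j, hj⟩ := mem_zpowers_iff.mp hx
      have h3 : x ^ 2 ^ k = 1 := by
        rw [← hj, ← zpow_natCast, ← zpow_mul, mul_comm, zpow_mul, zpow_natCast, hs, one_zpow]
      have h4 : (⟨x, hx⟩ : zpowers w) ^ 2 ^ k = 1 := Subtype.ext h3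
      obtain ⟨i, _, hi⟩ := (Nat.dvd_prime_pow Nat.prime_two).mp (orderOf_dvd_of_pow_eq_one h4)
      exact ⟨i, hi⟩
    have h5 : T ≤ normalizer (zpowers w : Set G) := by
      intro t ht
      rw [mem_normalizer_iff]
      have h6 : ∀ x ∈ zpowers w, t * x * t⁻¹ = x := by
        intro x hx
        obtain ⟨j, rfl⟩ := mem_zpowers_iff.mp hx
        have := ((hwc t ht).zpow_left j).eq
        calc t * w ^ j * t⁻¹ = w ^ j * t * t⁻¹ := by rw [this]
          _ = w ^ j := by group
      intro x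
      constructor
      · intro hx
        show t * x * t⁻¹ ∈ zpowers w
        rw [h6 x hx]; exact hx
      · intro hx
        have h7 : t * (t * x * t⁻¹) = (t * x * t⁻¹) * t := by
          have := h6 _ hx
          calc t * (t * x * t⁻¹) = t * (t * x * t⁻¹) * t⁻¹ * t := by group
            _ = (t * x * t⁻¹) * t := by rw [this]
        have h8 : t * x * t⁻¹ = x := by
          have h9 : t * (t * x * t⁻¹) = t * x := by rw [h7]; group
          exact mul_left_cancel h9
        rw [h8] at hx; exact hx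
    have h6 : IsPGroup 2 (zpowers w ⊔ T : Subgroup G) := h2.to_sup_of_normal_left' t1 h5
    have h7 : T = zpowers w ⊔ T := by
      by_contra hne
      have hlt : T < zpowers w ⊔ T := lt_of_le_of_ne le_sup_right hne
      have h8 : T.relIndex (zpowers w ⊔ T) ≠ 1 := fun h => hne (le_antisymm le_sup_right (relIndex_eq_one.mp h))
      obtain ⟨j, hj⟩ := (IsPGroup.iff_card.mp h6)
      have h9 : T.relIndex (zpowers w ⊔ T) ∣ 2 ^ j := hj ▸ relIndex_dvd_card _ _
      obtain ⟨i, _, hi⟩ := (Nat.dvd_prime_pow Nat.prime_two).mp h9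
      have hi0 : i ≠ 0 := fun h => h8 (by rw [hi, h, pow_zero])
      exact t2 (((dvd_pow_self 2 hi0).trans (hi ▸ dvd_rfl)).trans ⟨_, (relIndex_mul_index (le_sup_right : T ≤ zpowers w ⊔ T)).symm⟩)
    rw [h7]
    exact mem_sup_left (mem_zpowers w)
  · exact Odd.of_dvd_nat (Nat.odd_iff.2 (by omega)) (orderOf_dvd_of_pow_eq_one hodd)
  · intro s hs'
    have := ((hcen s hs').pow_left e).eq
    rw [this, mul_inv_cancel_right]

/-- A Hall subgroup with `2 ∈ π` contains a Sylow `2`-subgroup. -/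
theorem exists_sylow_le (h2 : 2 ∈ π) {H : Subgroup G} (hH : IsPiHall π H) : ∃ P : Sylow 2 G, (P : Subgroup G) ≤ H := by
  have : Fact (Nat.Prime 2) := ⟨Nat.prime_two⟩
  obtain ⟨P⟩ : Nonempty (Sylow 2 H) := inferInstance
  have h3 : IsPGroup 2 ((P : Subgroup H).map H.subtype) := P.isPGroup'.map _
  have h4 : ¬ 2 ∣ ((P : Subgroup H).map H.subtype).index := by
    rw [index_map_subtype]
    intro h
    rcases (Nat.prime_two.dvd_mul).mp h with h | h
    · exact P.not_dvd_index h
    · exact hH.2 2 Nat.prime_two h2 h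
  exact ⟨h3.toSylow h4, map_subtype_le _⟩

/-- **Pronormality in a group from the claim and the `B`-row.** -/
theorem pronormal_of_claim (h2 : 2 ∈ π) (hB : BRow π G) (ih : Claim.{u} π (Nat.card G)) {H : Subgroup G}
    (hH : IsPiHall π H) : IsPronormal H := by
  rcases hB with hB | hB
  swap
  · exact hB H hH
  have : Fact (Nat.Prime 2) := ⟨Nat.prime_two⟩
  rw [isPronormal_iff]
  intro g
  obtain ⟨P, hP⟩ := exists_sylow_le h2 hH
  -- make `g` normalise `P`
  set J := H ⊔ MulAut.conj g • H with hJ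
  have hPJ : (P : Subgroup G) ≤ J := hP.trans le_sup_left
  have hgPJ : ((g • P : Sylow 2 G) : Subgroup G) ≤ J := by
    rw [Sylow.coe_subgroup_smul]
    exact (pointwise_smul_le_pointwise_smul_iff.mpr hP).trans le_sup_right
  obtain ⟨x, hx⟩ := MulAction.exists_smul_eq J (P.subtype hPJ) ((g • P).subtype hgPJ)
  have hx' : (x : G) • P = g • P := by
    apply Sylow.ext
    have h3 := congrArg (fun Q : Sylow 2 J => (Q : Subgroup J).map J.subtype) hx
    simp only [Sylow.coe_subgroup_smul, Sylow.coe_subtype] at h3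
    rw [subgroupOf_map_subtype, inf_of_le_left (by rw [Sylow.coe_subgroup_smul] at hgPJ; exact hgPJ)] at h3
    rw [Sylow.coe_subgroup_smul, Sylow.coe_subgroup_smul, ← h3, map_smul', subgroupOf_map_subtype,
      inf_of_le_left hPJ]
    rfl
  refine Pr.trans x.2 ?_
  set y := (x : G)⁻¹ * g with hy
  have hyP : y ∈ normalizer ((P : Subgroup G) : Set G) := by
    apply normalizer_of_smul_eq
    have h4 := congrArg (fun Q : Sylow 2 G => (Q : Subgroup G)) hx'
    simp only [Sylow.coe_subgroup_smul] at h4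
    rw [hy, smul_mul, ← h4, conj_inv_smul_smul]
  obtain ⟨t, ht, htc⟩ := hB P y hyP
  -- `y = c t` with `c ∈ C(P)`
  set c := y * t⁻¹ with hc
  have hcc : ∀ s ∈ (P : Subgroup G), c * s * c⁻¹ = s := by
    intro s hs
    have h3 : t⁻¹ * s * t ∈ (P : Subgroup G) := mul_mem (mul_mem (inv_mem ht) hs) ht
    have h4 := mem_centralizer_iff.mp htc _ h3
    calc c * s * c⁻¹ = t * ((t⁻¹ * y) * (t⁻¹ * s * t)) * y⁻¹ := by rw [hc]; group
      _ = t * ((t⁻¹ * s * t) * (t⁻¹ * y)) * y⁻¹ := by rw [h4]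
      _ = s := by group
  obtain ⟨a, s, hcas, hs, hodd, hacen⟩ := exists_odd_part (T := (P : Subgroup G)) P.isPGroup' P.not_dvd_index hcc
  have hyas : y = a * (s * t) := by
    calc y = c * t := by rw [hc]; group
      _ = a * (s * t) := by rw [hcas, mul_assoc]
  rw [hyas]
  refine Pr.mul_right (hP (mul_mem hs ht)) ?_
  refine ih G ⊤ H P a (card_top) ⟨?_, le_top, hH.1, ?_, hP, P.isPGroup', ?_, hodd, hacen⟩
  · rw [mem_normalizer_iff]; intro z; simp
  · rw [relIndex_top_right]; exact hH.2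
  · rw [relIndex_top_right]; exact P.not_dvd_index

/-- **The case of a simple group.** -/
theorem simple_step {K H T : Subgroup G} [K.Normal] (hs : IsSimpleGroup K) (hN : NRow π K) {g : G}
    (c : Conf π K H T g) (ih : ∀ k < Nat.card K, Claim.{u} π k) : Pr H g := by
  have : Fact (Nat.Prime 2) := ⟨Nat.prime_two⟩
  by_cases hHK : H = K
  · exact Pr.of_eq (by rw [hHK]; exact smul_normal K g)
  have hTK : T ≤ K := c.tH.trans c.hK
  set P : Sylow 2 K := (c.t1.comap_subtype : IsPGroup 2 (T.subgroupOf K)).toSylow c.t2 with hP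
  have hPT : (P : Subgroup K) = T.subgroupOf K := rfl
  set φ : MulAut K := MulAut.conjNormal g with hφ
  have hφodd : Odd (orderOf φ) := c.odd.of_dvd_nat (orderOf_map_dvd _ _)
  have hφP : ∀ x ∈ (P : Subgroup K), φ x = x := by
    intro x hx
    apply Subtype.ext
    rw [hφ, MulAut.conjNormal_apply]
    exact c.cen x (by rw [hPT] at hx; exact hx)
  have hH' : IsPiHall π (H.subgroupOf K) := by
    refine ⟨?_, c.h2⟩
    have : Nat.card (H.subgroupOf K) = Nat.card H := by
      rw [← card_map_of_injective K.subtype_injective, subgroupOf_map_subtype, inf_of_le_left c.hK]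
    rw [this]; exact c.h1
  obtain ⟨N, hN0, hNH, hNn, hNφ⟩ := hN (H.subgroupOf K) hH' P (by rw [hPT]; exact fun x hx => c.tH hx) φ hφodd hφP
  set N' := N.map K.subtype with hN'
  have hN'K : N' ≤ K := map_subtype_le _
  have hN'H : N' ≤ H := by
    rintro _ ⟨n, hn, rfl⟩
    exact hNH hn
  have hN'0 : N' ≠ ⊥ := by
    intro h
    apply hN0
    rw [eq_bot_iff]
    intro n hn
    have : (K.subtype n) ∈ N' := ⟨n, hn, rfl⟩
    rw [h, mem_bot] at this
    exact mem_bot.mpr (K.subtype_injective (by rw [this, map_one]))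
  have hHN : H ≤ normalizer (N' : Set G) := by
    have key : ∀ h ∈ H, ∀ n ∈ N', h * n * h⁻¹ ∈ N' := by
      rintro h hh _ ⟨n, hn, rfl⟩
      exact ⟨_, hNn ⟨h, c.hK hh⟩ hh n hn, rfl⟩
    intro h hh
    rw [mem_normalizer_iff]
    intro n
    refine ⟨key h hh n, fun hn => ?_⟩
    have := key h⁻¹ (inv_mem hh) _ hn
    simpa [mul_assoc] using this
  have hgN : MulAut.conj g • N' = N' := by
    have h3 : ∀ n ∈ N', g * n * g⁻¹ ∈ N' := by
      rintro _ ⟨n, hn, rfl⟩
      refine ⟨φ n, ?_, ?_⟩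
      · rw [← hNφ]; exact ⟨n, hn, rfl⟩
      · rw [hφ]; exact MulAut.conjNormal_apply g n
    apply eq_of_le_of_card_ge
    · rw [← cj_eq]
      rintro _ ⟨n, hn, rfl⟩
      exact h3 n hn
    · rw [card_smul]
  have hgN' : g ∈ normalizer (N' : Set G) := normalizer_of_smul_eq hgN
  set M := K ⊓ normalizer (N' : Set G) with hM
  have hMK : M < K := by
    refine lt_of_le_of_ne inf_le_left fun h => hHK ?_
    have h3 : K ≤ normalizer (N' : Set G) := inf_eq_left.mp h
    have h4 : (N'.subgroupOf K).Normal := (normal_subgroupOf_iff_le_normalizer hN'K).mpr h3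
    rcases hs.eq_bot_or_eq_top_of_normal _ h4 with h5 | h5
    · exact absurd (by rw [eq_bot_iff]; intro n hn; have : (⟨n, hN'K hn⟩ : K) ∈ N'.subgroupOf K := hn; rw [h5, mem_bot] at this; exact mem_bot.mpr (congrArg Subtype.val this)) hN'0
    · have h6 : K ≤ N' := subgroupOf_eq_top.mp h5
      exact le_antisymm c.hK (h6.trans hN'H)
  have hgM : g ∈ normalizer (M : Set G) := by
    apply normalizer_of_smul_eq
    rw [hM, smul_inf', smul_normal K, smul_eq_of_mem hgN']
  have hlt : Nat.card M < Nat.card K := by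
    by_contra hc
    exact hMK.ne (eq_of_le_of_card_ge hMK.le (not_lt.mp hc))
  exact ih _ hlt G M H T g rfl (c.of_le hMK.le (le_inf c.hK hHN) hgM)

/-- an abelian minimal normal subgroup is a `π`-group or a `π'`-group -/
theorem abelian_min (π : Set ℕ) {A : Subgroup G} [hA : A.Normal]
    (hmin : ∀ B : Subgroup G, B.Normal → B ≤ A → B ≠ ⊥ → B = A) (hAb : ∀ x ∈ A, ∀ y ∈ A, Commute x y) :
    PiN π (Nat.card A) ∨ PiN' π (Nat.card A) := by
  by_cases h1 : PiN' π (Nat.card A)
  · exact Or.inr h1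
  left
  unfold PiN' at h1
  push Not at h1
  obtain ⟨p, hp, hpπ, hd⟩ := h1
  have : Fact p.Prime := ⟨hp⟩
  set B : Subgroup G :=
    { carrier := {a | a ∈ A ∧ a ^ p = 1}
      mul_mem' := fun {a b} ha hb => ⟨mul_mem ha.1 hb.1, by
        rw [(hAb a ha.1 b hb.1).mul_pow, ha.2, hb.2, one_mul]⟩
      one_mem' := ⟨one_mem _, one_pow _⟩
      inv_mem' := fun {a} ha => ⟨inv_mem ha.1, by rw [inv_pow, ha.2, inv_one]⟩ } with hB
  have hBn : B.Normal := ⟨fun b hb g => ⟨hA.conj_mem _ hb.1 g, by rw [conj_pow, hb.2]; group⟩⟩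
  have hB0 : B ≠ ⊥ := by
    obtain ⟨a, ha⟩ := exists_prime_orderOf_dvd_card' p hd
    intro h
    have h3 : (a : G) ∈ B := ⟨a.2, by
      have := pow_orderOf_eq_one a
      rw [ha] at this
      exact_mod_cast congrArg Subtype.val this⟩
    rw [h, mem_bot] at h3
    have h4 : a = 1 := Subtype.ext h3
    rw [h4, orderOf_one] at ha
    exact hp.one_lt.ne ha
  have hBA : B = A := hmin B hBn (fun b hb => hb.1) hB0
  have hpA : IsPGroup p A := by
    intro a
    refine ⟨1, Subtype.ext ?_⟩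
    have : (a : G) ∈ B := by rw [hBA]; exact a.2
    rw [pow_one]
    exact this.2
  obtain ⟨k, hk⟩ := IsPGroup.iff_card.mp hpA
  intro q hq hqd
  rw [hk] at hqd
  rwa [(Nat.prime_dvd_prime_iff_eq hq hp).mp (hq.dvd_of_dvd_pow hqd)]

omit [Finite G] in
theorem smul_bot' (g : G) : MulAut.conj g • (⊥ : Subgroup G) = ⊥ := by
  rw [← cj_eq]; exact Subgroup.map_bot _

theorem card_map_mul {A K : Subgroup G} [A.Normal] (hAK : A ≤ K) :
    Nat.card (K.map (QuotientGroup.mk' A)) * Nat.card A = Nat.card K := by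
  have h1 := (K.map (QuotientGroup.mk' A)).card_mul_index
  rw [index_map_eq _ (QuotientGroup.mk'_surjective A) (by rw [QuotientGroup.ker_mk']; exact hAK)] at h1
  have h2 := K.card_mul_index
  have h3 : Nat.card (G ⧸ A) * Nat.card A = Nat.card G := (card_eq_card_quotient_mul_card_subgroup A).symm
  have h4 : K.index ≠ 0 := index_ne_zero_of_finite
  apply Nat.eq_of_mul_eq_mul_right (Nat.pos_of_ne_zero h4)
  rw [h2, ← h3, ← h1]
  ring

/-- **The main step.** -/
theorem main_step (h2 : 2 ∈ π)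
    (hN : ∀ (S : Type u) [Group S] [Finite S] [IsSimpleGroup S], ¬ IsMulCommutative S → NRow π S)
    (hB : ∀ (S : Type u) [Group S] [Finite S] [IsSimpleGroup S], ¬ IsMulCommutative S → BRow π S)
    {K H T : Subgroup G} [hK : K.Normal] {g : G} (c : Conf π K H T g) (ih : ∀ k < Nat.card K, Claim.{u} π k) :
    Pr H g := by
  by_cases hK0 : K = ⊥
  · have hH0 : H = ⊥ := eq_bot_iff.mpr (hK0 ▸ c.hK)
    exact Pr.of_eq (by rw [hH0]; exact smul_bot' g)
  by_cases hKs : IsSimpleGroup K ∧ ¬ IsMulCommutative K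
  · have := hKs.1
    exact simple_step hKs.1 (hN K hKs.2) c ih
  obtain ⟨A, hAn, hA0, hAK, hmin⟩ := Cfsg.Agent.H165.Wiel.exists_min_normal G K hK hK0
  have hKA : K ≤ normalizer (A : Set G) := le_normalizer_of_normal
  have hcA : 1 < Nat.card A := (one_lt_card_iff_ne_bot A).mpr hA0
  have hlt : Nat.card (K.map (QuotientGroup.mk' A)) < Nat.card K := by
    rw [← card_map_mul hAK]
    exact lt_mul_of_one_lt_right Nat.card_pos hcA
  obtain ⟨x, hx, hxe⟩ := exists_of_quot A (ih _ hlt (G ⧸ A) _ _ _ _ rfl (c.quot A hAK))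
  have hHA : PiN' π (H.relIndex A) := c.h2.of_dvd (relIndex_dvd' hAK hKA)
  refine Pr.trans hx (Pr.of_inter A c.h1 hHA hxe ?_)
  by_cases hab : ∀ x ∈ A, ∀ y ∈ A, Commute x y
  · rcases abelian_min π hmin hab with h3 | h3
    · have h4 : A ≤ H := relIndex_eq_one.mp (eq_one_of_both (h3.of_dvd (relIndex_dvd_card H A)) hHA)
      rw [inf_of_le_right h4]
      exact Pr.of_eq (smul_normal A _)
    · have h4 : H ⊓ A = ⊥ := by
        apply card_eq_one.mp
        exact eq_one_of_both (c.h1.of_dvd (card_dvd_of_le inf_le_left)) (h3.of_dvd (card_dvd_of_le inf_le_right))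
      rw [h4]
      exact Pr.of_eq (smul_bot' _)
  obtain ⟨m, L, e, hm, hsim, hnab, hinj, hLA, hAL, hperm, htr, hsing, hcoord⟩ :=
    Cfsg.Agent.PermutationGroups.OnanScott.exists_coordinates A (fun M hM hMA => by
      by_cases hMb : M = ⊥
      · exact Or.inl hMb
      · exact Or.inr (hmin M hM hMA hMb)) hab
  have hperm' : ∀ (g : G) i, ∃ j, L j = MulAut.conj g • L i := fun g i => by
    obtain ⟨j, hj⟩ := hperm g i
    exact ⟨j, by rw [hj, cj_eq]⟩
  have hnc : ∀ i, ¬ IsMulCommutative (L i) := by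
    intro i h
    obtain ⟨a, b, hab'⟩ := hnab i
    exact hab' (h.is_comm.comm a b)
  have hLK : ∀ i, Nat.card (L i) < Nat.card K := by
    intro i
    by_contra hcon
    have h3 : L i = K := eq_of_le_of_card_ge ((hLA i).trans hAK) (not_lt.mp hcon)
    have h4 := hsim i
    have h5 := hnc i
    rw [h3] at h4 h5
    exact hKs ⟨h4, h5⟩
  -- `g` is in the stabiliser of the tuple of classes
  have hgood : g ∈ stabC L H hperm' := by
    intro i j hij
    have hev : 2 ∣ Nat.card (L i) := by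
      by_contra hodd
      have := hsim i
      have hsol : Group.IsSolvable (L i) := by
        have := Cfsg.Agent.S0205.result (G := L i) (Nat.not_even_iff_odd.mp (fun h => hodd h.two_dvd))
        exact this
      exact hnc i ⟨⟨fun a b => IsSimpleGroup.comm_iff_isSolvable.mpr hsol a b⟩⟩
    have hT2 : ¬ 2 ∣ T.relIndex (L i) :=
      fun h => c.t2 (h.trans ((relIndex_dvd' (hLA i) (hAL i)).trans (relIndex_dvd' hAK hKA)))
    have hTL : T ⊓ L i ≠ ⊥ := by
      intro h
      apply hT2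
      rw [← inf_relIndex_right, h, relIndex_bot_left]
      exact hev
    obtain ⟨⟨t, ht⟩, ht1'⟩ := ne_bot_iff_exists_ne_one.mp hTL
    have ht1 : t ≠ 1 := fun h => ht1' (Subtype.ext h)
    have htj : t ∈ L j := by
      rw [hij, ← cj_eq]
      exact ⟨t, ht.2, c.cen t ht.1⟩
    have hij' : i = j := by
      by_contra hne
      have h3 : e.symm (Pi.mulSingle i ⟨t, ht.2⟩) = e.symm (Pi.mulSingle j ⟨t, htj⟩) := by
        apply Subtype.ext
        rw [hsing, hsing]
      have h4 := congrFun (e.symm.injective h3) i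
      rw [Pi.mulSingle_eq_same, Pi.mulSingle_eq_of_ne hne] at h4
      exact ht1 (congrArg Subtype.val h4)
    subst hij'
    have hgL : g ∈ normalizer (L i : Set G) := normalizer_of_smul_eq hij.symm
    obtain ⟨x, hx, he⟩ := ih _ (hLK i) G (L i) (H ⊓ L i) (T ⊓ L i) g rfl (c.inter hAK hKA (hLA i) (hAL i) hgL)
    refine ⟨x, ?_, he⟩
    have : (H ⊓ L i) ⊔ MulAut.conj g • (H ⊓ L i) ≤ L i := by
      refine sup_le inf_le_right ?_
      rw [smul_inf', ← hij]
      exact inf_le_right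
    exact this hx
  have hJ : H ⊔ MulAut.conj g • H ≤ stabC L H hperm' := by
    refine sup_le le_stabC ?_
    rw [← cj_eq]
    rintro _ ⟨h, hh, rfl⟩
    exact mul_mem (mul_mem hgood (le_stabC hh)) (inv_mem hgood)
  set y := x⁻¹ * g with hy
  have hyS : y ∈ stabC L H hperm' := mul_mem (inv_mem (hJ hx)) hgood
  refine pr_of_coord e hLA hAL hsing inf_le_right (c.h1.of_dvd (card_dvd_of_le inf_le_left))
    (by rw [inf_relIndex_right]; exact hHA) fun j => ?_
  obtain ⟨i, hi⟩ := hperm' y⁻¹ j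
  have hji : L j = MulAut.conj y • L i := by rw [hi, conj_smul_inv_smul]
  obtain ⟨s, hs, hse⟩ := hyS i j hji
  have e1 : H ⊓ A ⊓ L j = H ⊓ L j := by rw [inf_assoc, inf_of_le_right (hLA j)]
  have e2 : MulAut.conj y • (H ⊓ A) ⊓ L j = MulAut.conj s • (H ⊓ L j) := by
    rw [← hse, smul_inf', smul_inf', smul_normal A, inf_assoc, inf_of_le_right (hLA j), ← hji]
  rw [e1, e2]
  -- pronormality in `L j`
  have := hsim j
  have hHall : IsPiHall π ((H ⊓ L j).subgroupOf (L j)) := by
    refine ⟨?_, ?_⟩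
    · have : Nat.card ((H ⊓ L j).subgroupOf (L j)) = Nat.card (H ⊓ L j : Subgroup G) := by
        rw [← card_map_of_injective (L j).subtype_injective, subgroupOf_map_subtype, inf_of_le_left inf_le_right]
      rw [this]
      exact c.h1.of_dvd (card_dvd_of_le inf_le_left)
    · have : ((H ⊓ L j).subgroupOf (L j)).index = H.relIndex (L j) := by
        rw [inf_subgroupOf_right]; rfl
      rw [this]
      exact hHA.of_dvd (relIndex_dvd' (hLA j) (hAL j))
  have hpro := pronormal_of_claim h2 (hB (L j) (hnc j)) (ih _ (hLK j)) hHall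
  obtain ⟨z, hz, hze⟩ := Pr.of_subgroupOf inf_le_right (isPronormal_iff.mp hpro ⟨s, hs⟩)
  exact ⟨z, hz, hze⟩

/-- **THEOREM (PG).** -/
theorem pr_of_conf (h2 : 2 ∈ π)
    (hN : ∀ (S : Type u) [Group S] [Finite S] [IsSimpleGroup S], ¬ IsMulCommutative S → NRow π S)
    (hB : ∀ (S : Type u) [Group S] [Finite S] [IsSimpleGroup S], ¬ IsMulCommutative S → BRow π S) :
    ∀ n : ℕ, Claim.{u} π n := by
  intro n
  induction n using Nat.strong_induction_on with
  | _ n ih =>
    intro G _ _ K H T g hn c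
    have hKM : K ≤ normalizer (K : Set G) := le_normalizer
    have hnor : (K.subgroupOf (normalizer (K : Set G))).Normal := (normal_subgroupOf_iff_le_normalizer hKM).mpr le_rfl
    have hcard : Nat.card (K.subgroupOf (normalizer (K : Set G))) = Nat.card K := by
      rw [← card_map_of_injective (normalizer (K : Set G)).subtype_injective, subgroupOf_map_subtype, inf_of_le_left hKM]
    have ih' : ∀ k < Nat.card (K.subgroupOf (normalizer (K : Set G))), Claim.{u} π k := by
      intro k hk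
      rw [hcard, hn] at hk
      exact ih k hk
    have h3 : Pr (H.subgroupOf (normalizer (K : Set G))) (⟨g, c.gK⟩ : normalizer (K : Set G)) :=
      main_step h2 hN hB (c.subgroupOf hKM c.gK) ih'
    exact Pr.of_subgroupOf (M := normalizer (K : Set G)) (g := ⟨g, c.gK⟩) (c.hK.trans hKM) h3

/-- **Hall subgroups of even order of simple groups are pronormal (from the rows).** -/
theorem pronormal_simple (h2 : 2 ∈ π)
    (hN : ∀ (S : Type u) [Group S] [Finite S] [IsSimpleGroup S], ¬ IsMulCommutative S → NRow π S)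
    (hB : ∀ (S : Type u) [Group S] [Finite S] [IsSimpleGroup S], ¬ IsMulCommutative S → BRow π S)
    (S : Type u) [Group S] [Finite S] [IsSimpleGroup S] (hS : ¬ IsMulCommutative S) {H : Subgroup S}
    (hH : IsPiHall π H) : IsPronormal H :=
  pronormal_of_claim h2 (hB S hS) (pr_of_conf h2 hN hB _) hH

end Cfsg.Agent.H165.RV
end

-- part: H165/RV/CpiA
section
/-!
# TEAM RV: Hall subgroups of `H A` with a prescribed intersection with `A` (helper165)
-/

set_option autoImplicit false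

namespace Cfsg.Agent.H165.RV

open Subgroup Cfsg Cfsg.Agent.H988.CPi Cfsg.Agent.H571.DExt Cfsg.Agent.H553.ExtRed
open scoped Pointwise

universe u

variable {π : Set ℕ}

theorem isPiHall_pi {ι : Type*} [Fintype ι] (T : ι → Type*) [∀ i, Group (T i)] [∀ i, Finite (T i)]
    (L : ∀ i, Subgroup (T i)) (hL : ∀ i, IsPiHall π (L i)) : IsPiHall π (Subgroup.pi Set.univ L) := by
  classical
  have h1 : Nat.card (Subgroup.pi Set.univ L) = ∏ i, Nat.card (L i) := by
    have e : (Subgroup.pi Set.univ L) ≃ (∀ i, L i) :=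
      { toFun := fun x i => ⟨x.1 i, x.2 i (Set.mem_univ i)⟩
        invFun := fun y => ⟨fun i => y i, fun i _ => (y i).2⟩
        left_inv := fun x => rfl
        right_inv := fun y => rfl }
    rw [Nat.card_congr e, Nat.card_pi]
  have h2 : (Subgroup.pi Set.univ L).index = ∏ i, (L i).index := by
    have h2 := Subgroup.card_mul_index (Subgroup.pi Set.univ L)
    have h4 : Nat.card (∀ i, T i) = (∏ i, Nat.card (L i)) * ∏ i, (L i).index := by
      rw [Nat.card_pi, ← Finset.prod_mul_distrib]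
      exact Finset.prod_congr rfl fun i _ => (Subgroup.card_mul_index (L i)).symm
    rw [h1, h4] at h2
    exact Nat.eq_of_mul_eq_mul_left (Finset.prod_pos fun i _ => Nat.card_pos) h2
  refine ⟨?_, ?_⟩
  · intro p hp hd
    rw [h1] at hd
    exact piN_prod Finset.univ _ (fun i _ => (hL i).1) p hp hd
  · intro p hp hpi hd
    rw [h2] at hd
    exact piN'_prod Finset.univ _ (fun i _ => (hL i).2) p hp hpi hd

variable {G : Type u} [Group G] [Finite G]

section Coord

variable {m : ℕ} {A : Subgroup G} {L : Fin m → Subgroup G} (e : A ≃* (∀ i, L i))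

omit [Finite G] in
theorem coord_single (hLA : ∀ i, L i ≤ A) (hs : ∀ i (t : L i), ((e.symm (Pi.mulSingle i t) : A) : G) = t) (i : Fin m)
    {t : G} (ht : t ∈ L i) : e ⟨t, hLA i ht⟩ = Pi.mulSingle i ⟨t, ht⟩ := by
  apply e.symm.injective
  rw [e.symm_apply_apply]
  exact Subtype.ext (hs i ⟨t, ht⟩).symm

theorem hall_iSup (hLA : ∀ i, L i ≤ A) (hs : ∀ i (t : L i), ((e.symm (Pi.mulSingle i t) : A) : G) = t)
    {R : Fin m → Subgroup G} (hRL : ∀ i, R i ≤ L i) (h1 : ∀ i, PiN π (Nat.card (R i)))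
    (h2 : ∀ i, PiN' π ((R i).relIndex (L i))) :
    PiN π (Nat.card (⨆ i, R i : Subgroup G)) ∧ PiN' π ((⨆ i, R i).relIndex A) := by
  classical
  have hall : IsPiHall π (Subgroup.pi Set.univ fun i => (R i).subgroupOf (L i)) := by
    refine isPiHall_pi _ _ fun i => ⟨?_, h2 i⟩
    have : Nat.card ((R i).subgroupOf (L i)) = Nat.card (R i) := by
      rw [← card_map_of_injective (L i).subtype_injective, subgroupOf_map_subtype, inf_of_le_left (hRL i)]
    rw [this]; exact h1 i
  set Q : Subgroup A := (Subgroup.pi Set.univ fun i => (R i).subgroupOf (L i)).comap e.toMonoidHom with hQ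
  have hQe : (⨆ i, R i) = Q.map A.subtype := by
    apply le_antisymm
    · refine iSup_le fun i r hr => ?_
      refine ⟨⟨r, hLA i (hRL i hr)⟩, ?_, rfl⟩
      show e ⟨r, hLA i (hRL i hr)⟩ ∈ Subgroup.pi Set.univ fun i => (R i).subgroupOf (L i)
      rw [coord_single e hLA hs i (hRL i hr)]
      intro j _
      by_cases hj : j = i
      · subst hj
        rw [Pi.mulSingle_eq_same]
        exact hr
      · rw [Pi.mulSingle_eq_of_ne hj]
        exact ((R j).subgroupOf (L j)).one_mem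
    · rintro _ ⟨x, hx, rfl⟩
      have h3 : x = e.symm (e x) := (e.symm_apply_apply x).symm
      rw [h3]
      refine mem_of_coord e hs _ fun i => ?_
      exact (le_iSup R i) (hx i (Set.mem_univ i))
  have hQi : Q.index = (Subgroup.pi Set.univ fun i => (R i).subgroupOf (L i)).index :=
    index_comap_of_surjective _ e.surjective
  have hQc : Nat.card Q = Nat.card (Subgroup.pi Set.univ fun i => (R i).subgroupOf (L i)) := by
    have h3 := Q.card_mul_index
    have h4 := (Subgroup.pi Set.univ fun i => (R i).subgroupOf (L i)).card_mul_index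
    rw [hQi, Nat.card_congr e.toEquiv, ← h4] at h3
    exact Nat.eq_of_mul_eq_mul_right (Nat.pos_of_ne_zero index_ne_zero_of_finite) h3
  rw [hQe]
  refine ⟨?_, ?_⟩
  · rw [card_map_of_injective A.subtype_injective, hQc]
    exact hall.1
  · have : (Q.map A.subtype).relIndex A = Q.index := by
      show ((Q.map A.subtype).subgroupOf A).index = _
      congr 1
      exact comap_map_eq_self_of_injective A.subtype_injective Q
    rw [this, hQi]
    exact hall.2

omit [Finite G] in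
/-- the action of `e.symm z` on subgroups of `L j` -/
theorem conj_coord (hLA : ∀ i, L i ≤ A) (hs : ∀ i (t : L i), ((e.symm (Pi.mulSingle i t) : A) : G) = t)
    (z : ∀ i, L i) (j : Fin m) {K : Subgroup G} (hK : K ≤ L j) :
    MulAut.conj ((e.symm z : A) : G) • K = MulAut.conj (z j : G) • K := by
  classical
  have key : ∀ k ∈ L j, ((e.symm z : A) : G) * k * ((e.symm z : A) : G)⁻¹ = (z j : G) * k * (z j : G)⁻¹ := by
    intro k hk
    have h1 : z * Pi.mulSingle j ⟨k, hk⟩ * z⁻¹ = Pi.mulSingle j (z j * ⟨k, hk⟩ * (z j)⁻¹) := by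
      funext i
      by_cases hi : i = j
      · subst hi
        simp
      · simp [Pi.mulSingle_eq_of_ne hi]
    have h2 : e.symm (z * Pi.mulSingle j ⟨k, hk⟩ * z⁻¹) = e.symm z * ⟨k, hLA j hk⟩ * (e.symm z)⁻¹ := by
      rw [map_mul, map_mul, map_inv, ← coord_single e hLA hs j hk, e.symm_apply_apply]
    rw [h1] at h2
    have h3 := congrArg (Subtype.val) h2
    rw [hs] at h3
    exact h3.symm
  rw [← cj_eq, ← cj_eq]
  ext x
  constructor
  · rintro ⟨k, hk, rfl⟩
    exact ⟨k, hk, (key k (hK hk)).symm⟩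
  · rintro ⟨k, hk, rfl⟩
    exact ⟨k, hk, key k (hK hk)⟩

end Coord

omit [Finite G] in
theorem smul_iSup' {ι : Sort*} (g : G) (R : ι → Subgroup G) :
    MulAut.conj g • (⨆ i, R i) = ⨆ i, MulAut.conj g • R i := by
  rw [← cj_eq, Subgroup.map_iSup]
  exact iSup_congr fun i => cj_eq g (R i)

/-- **A Hall subgroup of `D` (`D / A` a `π`-group) over a given Hall subgroup of `A` with `D`-invariant class.** -/
theorem exists_hall_over {A D R : Subgroup G} [A.Normal] (hAD : A ≤ D) (hRA : R ≤ A) (h1 : PiN π (Nat.card R))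
    (h2 : PiN' π (R.relIndex A)) (hF : ∀ v ∈ D, ∃ a ∈ A, MulAut.conj v • R = MulAut.conj a • R)
    (hD : PiN π (A.relIndex D)) (hD' : PiN' π D.index) :
    ∃ H' : Subgroup G, IsPiHall π H' ∧ H' ≤ D ∧ R ≤ H' ∧ H' ⊔ A = D := by
  set M := normalizer (R : Set G) ⊓ D with hM
  obtain ⟨X, hX⟩ := (cpi_normalizer A D R hAD hRA h1 h2 hD).1
  have hRM : R ≤ M := le_inf le_normalizer (hRA.trans hAD)
  have hMD : M ≤ D := inf_le_right
  have hMA : M ⊔ A = D := by
    apply le_antisymm (sup_le hMD hAD)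
    intro v hv
    obtain ⟨a, ha, hva⟩ := hF v hv
    have h3 : a⁻¹ * v ∈ normalizer (R : Set G) := by
      apply normalizer_of_smul_eq
      rw [smul_mul, hva, conj_inv_smul_smul]
    have h4 : a⁻¹ * v ∈ M := mem_inf.mpr ⟨h3, D.mul_mem (D.inv_mem (hAD ha)) hv⟩
    have h5 : v = a * (a⁻¹ * v) := by group
    rw [h5]
    exact mul_mem (mem_sup_right ha) (mem_sup_left h4)
  set H' := X.map M.subtype with hH'
  have hH'M : H' ≤ M := map_subtype_le _
  have hc : PiN π (Nat.card H') := by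
    rw [hH', card_map_of_injective M.subtype_injective]
    exact hX.1
  have hXi : H'.relIndex M = X.index := by
    show (H'.subgroupOf M).index = _
    congr 1
    exact comap_map_eq_self_of_injective M.subtype_injective X
  have hMDi : PiN' π (M.relIndex D) := by
    have h3 : M.relIndex D = M.relIndex A := by
      rw [← relIndex_sup' M A, hMA]
    rw [h3]
    refine PiN'.of_dvd h2 ?_
    rw [← inf_relIndex_right M A]
    exact ⟨_, ((mul_comm _ _).trans (relIndex_mul_relIndex R (M ⊓ A) A (le_inf hRM hRA) inf_le_right)).symm⟩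
  have hH'D : PiN' π (H'.relIndex D) := by
    rw [← relIndex_mul_relIndex H' M D hH'M hMD, hXi]
    exact PiN'.mul hX.2 hMDi
  refine ⟨H', ⟨hc, ?_⟩, hH'M.trans hMD, ?_, ?_⟩
  · rw [← relIndex_mul_index (hH'M.trans hMD)]
    exact PiN'.mul hH'D hD'
  · have n1 : (R.subgroupOf M).Normal := (normal_subgroupOf_iff_le_normalizer hRM).mpr inf_le_left
    have h3 : R.subgroupOf M ≤ X := by
      refine le_of_normal hX ?_
      have : Nat.card (R.subgroupOf M) = Nat.card R := by
        rw [← card_map_of_injective M.subtype_injective, subgroupOf_map_subtype, inf_of_le_left hRM]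
      rw [this]; exact h1
    intro r hr
    exact ⟨⟨r, hRM hr⟩, h3 hr, rfl⟩
  · apply le_antisymm (sup_le (hH'M.trans hMD) hAD)
    rw [← relIndex_eq_one]
    apply eq_one_of_both (π := π)
    · refine hD.of_dvd ?_
      exact ⟨_, ((mul_comm _ _).trans (relIndex_mul_relIndex A (H' ⊔ A) D le_sup_right (sup_le (hH'M.trans hMD) hAD))).symm⟩
    · refine hH'D.of_dvd ?_
      exact ⟨_, ((mul_comm _ _).trans (relIndex_mul_relIndex H' (H' ⊔ A) D le_sup_left (sup_le (hH'M.trans hMD) hAD))).symm⟩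

/-- a Hall subgroup of `L` inside a `π`-group -/
theorem inf_eq_of_hall {H L R : Subgroup G} (hRL : R ≤ L) (hRH : R ≤ H) (hH : PiN π (Nat.card H))
    (hR : PiN' π (R.relIndex L)) : H ⊓ L = R := by
  apply le_antisymm ?_ (le_inf hRH hRL)
  rw [← relIndex_eq_one]
  apply eq_one_of_both (π := π)
  · exact (hH.of_dvd (card_dvd_of_le inf_le_left)).of_dvd (relIndex_dvd_card _ _)
  · exact hR.of_dvd (relIndex_dvd_of_le' (le_inf hRH hRL) inf_le_right)

end Cfsg.Agent.H165.RV
end

-- part: H165/RV/CpiB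
section
/-!
# TEAM RV: Hall subgroups of `C_π`-groups are pronormal (S3851), from S4311 and the rows (helper165)
-/

set_option autoImplicit false

namespace Cfsg.Agent.H165.RV

open Subgroup Cfsg Cfsg.Agent.H988.CPi Cfsg.Agent.H571.DExt Cfsg.Agent.H553.ExtRed Cfsg.Agent.H561.RV
open scoped Pointwise

universe u

variable {π : Set ℕ} {G : Type u} [Group G] [Finite G]

/-- An element of `Y` which normalises `L` fixes the class of `H ∩ L`: `D` a normal subgroup of `Y` of `π'`-index whose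
elements normalising `L` fix the class. -/
theorem fixC_of_crow {L H D Y : Subgroup G} (hH1 : PiN π (Nat.card H)) (hH2 : PiN' π (H.relIndex L))
    (hC : CRow π L) (hDY : D ≤ Y) (hYD : Y ≤ normalizer (D : Set G)) (hi : PiN' π (D.relIndex Y))
    (hD : ∀ v ∈ D, MulAut.conj v • L = L → ∃ s ∈ L, MulAut.conj v • (H ⊓ L) = MulAut.conj s • (H ⊓ L))
    {v : G} (hv : v ∈ Y) (hvL : MulAut.conj v • L = L) :
    ∃ s ∈ L, MulAut.conj v • (H ⊓ L) = MulAut.conj s • (H ⊓ L) := by
  have hvn : v ∈ normalizer (L : Set G) := normalizer_of_smul_eq hvL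
  set ψ : normalizer (L : Set G) →* MulAut L := L.normalizerMonoidHom with hψ
  have hψa : ∀ (w : normalizer (L : Set G)) (x : L), ((ψ w x : L) : G) = w * x * (w : G)⁻¹ := fun w x => rfl
  -- translation
  have key : ∀ w : normalizer (L : Set G), FixC (ψ w) (H.subgroupOf L) ↔
      ∃ s ∈ L, MulAut.conj (w : G) • (H ⊓ L) = MulAut.conj s • (H ⊓ L) := by
    intro w
    have e1 : ((H.subgroupOf L).map (ψ w : L ≃* L).toMonoidHom).map L.subtype = MulAut.conj (w : G) • (H ⊓ L) := by
      rw [← cj_eq, ← subgroupOf_map_subtype, map_map, map_map]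
      congr 1
    have e2 : ∀ s : L, ((H.subgroupOf L).map (MulAut.conj s).toMonoidHom).map L.subtype = MulAut.conj (s : G) • (H ⊓ L) := by
      intro s
      rw [← cj_eq, ← subgroupOf_map_subtype, map_map, map_map]
      congr 1
    constructor
    · rintro ⟨s, hs⟩
      refine ⟨s, s.2, ?_⟩
      rw [← e1, ← e2, hs]
    · rintro ⟨s, hs, he⟩
      refine ⟨⟨s, hs⟩, ?_⟩
      apply map_injective L.subtype_injective
      rw [e1, e2]
      exact he
  have hfin : Finite (MulAut L) := Finite.of_injective (fun f : MulAut L => (f : L → L)) DFunLike.coe_injective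
  rw [← key ⟨v, hvn⟩]
  set n := D.relIndex Y with hn
  have hn0 : n ≠ 0 := by
    rw [hn]
    exact ne_zero_of_dvd_ne_zero index_ne_zero_of_finite (dvd_refl (D.subgroupOf Y).index)
  -- `v ^ n ∈ D`
  have hvnD : v ^ n ∈ D := by
    have n1 : (D.subgroupOf Y).Normal := (normal_subgroupOf_iff_le_normalizer hDY).mpr hYD
    have := Subgroup.pow_index_mem (D.subgroupOf Y) (⟨v, hv⟩ : Y)
    exact this
  set w : normalizer (L : Set G) := ⟨v, hvn⟩ with hw
  obtain ⟨a, b, hab, -, hnb, hpr⟩ := Cfsg.Agent.H988.CopCyc.exists_part n (orderOf (ψ w)) (orderOf_pos _).ne'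
  have h1 : ψ w ^ n ∈ fixer (H.subgroupOf L) := by
    rw [← map_pow]
    refine (key (w ^ n)).mpr (hD _ ?_ ?_)
    · exact hvnD
    · exact smul_eq_of_normalizer (w ^ n).2
  have h2 : ψ w ^ b ∈ fixer (H.subgroupOf L) := by
    refine hC _ ⟨?_, hH2⟩ _ ?_
    · have : Nat.card (H.subgroupOf L) ∣ Nat.card H := by
        rw [← card_map_of_injective L.subtype_injective, subgroupOf_map_subtype]
        exact card_dvd_of_le inf_le_left
      exact hH1.of_dvd this
    · intro p hp hd hpπ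
      have h3 : (ψ w ^ b) ^ a = 1 := by rw [← pow_mul, mul_comm, ← hab, pow_orderOf_eq_one]
      exact hi p hp hpπ (hpr p hp (hd.trans (orderOf_dvd_of_pow_eq_one h3)))
  exact mem_of_pow_mem hnb h1 h2

/-- pronormality in the factors -/
theorem pr_of_good (h2 : 2 ∈ π)
    (hN : ∀ (S : Type u) [Group S] [Finite S] [IsSimpleGroup S], ¬ IsMulCommutative S → NRow π S)
    (hB : ∀ (S : Type u) [Group S] [Finite S] [IsSimpleGroup S], ¬ IsMulCommutative S → BRow π S)
    {m : ℕ} {A : Subgroup G} [A.Normal] {L : Fin m → Subgroup G} (e : A ≃* (∀ i, L i)) (hLA : ∀ i, L i ≤ A)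
    (hAL : ∀ i, A ≤ normalizer (L i : Set G)) (hs : ∀ i (t : L i), ((e.symm (Pi.mulSingle i t) : A) : G) = t)
    (hsim : ∀ i, IsSimpleGroup (L i)) (hnc : ∀ i, ¬ IsMulCommutative (L i)) {H : Subgroup G}
    (h1 : PiN π (Nat.card H)) (hHA : PiN' π (H.relIndex A)) {hperm : ∀ (g : G) i, ∃ j, L j = MulAut.conj g • L i}
    {y : G} (hy : y ∈ stabC L H hperm) : Pr (H ⊓ A) y := by
  refine pr_of_coord e hLA hAL hs inf_le_right (h1.of_dvd (card_dvd_of_le inf_le_left))
    (by rw [inf_relIndex_right]; exact hHA) fun j => ?_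
  obtain ⟨i, hi⟩ := hperm y⁻¹ j
  have hji : L j = MulAut.conj y • L i := by rw [hi, conj_smul_inv_smul]
  obtain ⟨s, hs, hse⟩ := hy i j hji
  have e1 : H ⊓ A ⊓ L j = H ⊓ L j := by rw [inf_assoc, inf_of_le_right (hLA j)]
  have e2 : MulAut.conj y • (H ⊓ A) ⊓ L j = MulAut.conj s • (H ⊓ L j) := by
    rw [← hse, smul_inf', smul_inf', smul_normal A, inf_assoc, inf_of_le_right (hLA j), ← hji]
  rw [e1, e2]
  have := hsim j
  have hHall : IsPiHall π ((H ⊓ L j).subgroupOf (L j)) := by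
    refine ⟨?_, ?_⟩
    · have : Nat.card ((H ⊓ L j).subgroupOf (L j)) = Nat.card (H ⊓ L j : Subgroup G) := by
        rw [← card_map_of_injective (L j).subtype_injective, subgroupOf_map_subtype, inf_of_le_left inf_le_right]
      rw [this]
      exact h1.of_dvd (card_dvd_of_le inf_le_left)
    · have : ((H ⊓ L j).subgroupOf (L j)).index = H.relIndex (L j) := by
        rw [inf_subgroupOf_right]; rfl
      rw [this]
      exact hHA.of_dvd (relIndex_dvd' (hLA j) (hAL j))
  have hpro := pronormal_simple h2 hN hB (L j) (hnc j) hHall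
  obtain ⟨z, hz, hze⟩ := Pr.of_subgroupOf inf_le_right (isPronormal_iff.mp hpro ⟨s, hs⟩)
  exact ⟨z, hz, hze⟩

/-- **The step.** `G ∈ C_π`, `A` a nonabelian minimal normal subgroup, `y` normalises `H A`. -/
theorem cpi_step (h2 : 2 ∈ π)
    (hN : ∀ (S : Type u) [Group S] [Finite S] [IsSimpleGroup S], ¬ IsMulCommutative S → NRow π S)
    (hB : ∀ (S : Type u) [Group S] [Finite S] [IsSimpleGroup S], ¬ IsMulCommutative S → BRow π S)
    (hC : ∀ (S : Type u) [Group S] [Finite S] [IsSimpleGroup S], ¬ IsMulCommutative S → CRow π S)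
    {H : Subgroup G} (hH : IsPiHall π H) (hcpi : IsCPiGroup π G) (A : Subgroup G) [hA : A.Normal]
    (hmin : ∀ B : Subgroup G, B.Normal → B ≤ A → B = ⊥ ∨ B = A) (hab : ¬ ∀ x ∈ A, ∀ y ∈ A, Commute x y)
    {y : G} (hy : MulAut.conj y • (H ⊔ A) = H ⊔ A) : Pr (H ⊓ A) y := by
  classical
  obtain ⟨m, L, e, hm, hsim, hnab, hinj, hLA, hAL, hperm, htr, hsing, hcoord⟩ :=
    Cfsg.Agent.PermutationGroups.OnanScott.exists_coordinates A hmin hab
  have hperm' : ∀ (g : G) i, ∃ j, L j = MulAut.conj g • L i := fun g i => by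
    obtain ⟨j, hj⟩ := hperm g i
    exact ⟨j, by rw [hj, cj_eq]⟩
  have hnc : ∀ i, ¬ IsMulCommutative (L i) := by
    intro i h
    obtain ⟨a, b, hab'⟩ := hnab i
    exact hab' (h.is_comm.comm a b)
  set D := H ⊔ A with hDdef
  set Y := normalizer (D : Set G) with hY
  have hyY : y ∈ Y := normalizer_of_smul_eq hy
  have hAD : A ≤ D := le_sup_right
  have hHD : H ≤ D := le_sup_left
  have hDY : D ≤ Y := le_normalizer
  have hHA : PiN' π (H.relIndex A) := by
    have h3 := relIndex_mul_sup_index H A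
    exact PiN'.of_dvd hH.2 ⟨_, h3.symm⟩
  have hDi : PiN' π D.index := PiN'.of_dvd hH.2 (index_dvd_of_le hHD)
  have hDYi : PiN' π (D.relIndex Y) := hDi.of_dvd (relIndex_dvd_index_of_le hDY)
  have hAi : PiN π (A.relIndex D) := by
    rw [hDdef, relIndex_sup_right]
    exact PiN.of_dvd hH.1 (relIndex_dvd_card A H)
  have hHL : ∀ i, PiN' π (H.relIndex (L i)) := fun i => hHA.of_dvd (relIndex_dvd' (hLA i) (hAL i))
  -- the elements of `D`
  have hDfix : ∀ i, ∀ v ∈ D, MulAut.conj v • L i = L i → ∃ s ∈ L i, MulAut.conj v • (H ⊓ L i) = MulAut.conj s • (H ⊓ L i) := by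
    intro i v hv hvL
    have hv' : v ∈ ((A ⊔ H : Subgroup G) : Set G) := by rw [sup_comm]; exact hv
    rw [Subgroup.normal_mul] at hv'
    obtain ⟨a, ha, h, hh, rfl⟩ := hv'
    have hhL : MulAut.conj h • L i = L i := by
      have h3 : MulAut.conj a • L i = L i := smul_eq_of_normalizer (hAL i ha)
      have h4 : MulAut.conj a⁻¹ • MulAut.conj (a * h) • L i = MulAut.conj a⁻¹ • L i := by rw [hvL]
      rw [← smul_mul, inv_mul_cancel_left] at h4
      rw [h4]
      exact smul_eq_of_normalizer (inv_mem (hAL i ha))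
    have h5 : MulAut.conj h • (H ⊓ L i) = H ⊓ L i := by
      rw [smul_inf', smul_eq_of_mem hh, hhL]
    refine ⟨(e ⟨a, ha⟩ i : G), (e ⟨a, ha⟩ i).2, ?_⟩
    rw [smul_mul, h5]
    have h6 := conj_coord e hLA hsing (e ⟨a, ha⟩) i (inf_le_right : H ⊓ L i ≤ L i)
    rw [e.symm_apply_apply] at h6
    exact h6
  -- the action on the indices
  choose σ hσ using hperm'
  let actΩ : MulAction Y (Fin m) :=
    { smul := fun p i => σ p i
      one_smul := fun i => by
        apply hinj
        show L (σ ((1 : Y) : G) i) = L i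
        rw [hσ]; simp
      mul_smul := fun p q i => by
        apply hinj
        show L (σ ((p * q : Y) : G) i) = L (σ p (σ q i))
        rw [hσ, hσ, hσ, Subgroup.coe_mul, smul_mul] }
  let actB : MulAction Y (Subgroup G) := MulAction.compHom (Subgroup G) ((MulAut.conj : G →* MulAut G).comp Y.subtype)
  have hsΩ : ∀ (p : Y) (i : Fin m), L (p • i) = MulAut.conj (p : G) • L i := fun p i => hσ p i
  have hsB : ∀ (p : Y) (K : Subgroup G), p • K = MulAut.conj (p : G) • K := fun _ _ => rfl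
  let cls : Fin m → Subgroup G → Set (Subgroup G) := fun i R => {K | ∃ s ∈ L i, K = MulAut.conj s • R}
  have hcls : ∀ (p : Y) (i : Fin m) (R : Subgroup G), p • cls i R = cls (p • i) (MulAut.conj (p : G) • R) := by
    intro p i R
    ext K
    constructor
    · rintro ⟨K', ⟨s, hs, rfl⟩, rfl⟩
      refine ⟨p * s * (p : G)⁻¹, ?_, ?_⟩
      · rw [hsΩ, ← cj_eq]
        exact ⟨s, hs, rfl⟩
      · show p • (MulAut.conj s • R) = _
        rw [hsB, ← smul_mul, ← smul_mul]
        congr 2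
        group
    · rintro ⟨s, hs, rfl⟩
      rw [hsΩ, ← cj_eq] at hs
      obtain ⟨s', hs', rfl⟩ := hs
      refine ⟨MulAut.conj s' • R, ⟨s', hs', rfl⟩, ?_⟩
      show p • (MulAut.conj s' • R) = _
      rw [hsB, ← smul_mul, ← smul_mul]
      congr 2
      simp
  obtain ⟨f, hf1, hf2⟩ := Cfsg.Agent.H207.RV.exists_equivariant (P := Y) (Ω := Fin m) (B := Set (Subgroup G))
    (fun i b => ∃ R : Subgroup G, R ≤ L i ∧ PiN π (Nat.card R) ∧ PiN' π (R.relIndex (L i)) ∧ b = cls i R) (by
      rintro p i b ⟨R, h3, h4, h5, rfl⟩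
      refine ⟨MulAut.conj (p : G) • R, ?_, ?_, ?_, hcls p i R⟩
      · rw [hsΩ]; exact smul_mono_right _ h3
      · rw [card_smul]; exact h4
      · rw [hsΩ, relIndex_pointwise_smul]; exact h5) (by
      intro i
      refine ⟨cls i (H ⊓ L i), ⟨H ⊓ L i, inf_le_right, PiN.of_dvd hH.1 (card_dvd_of_le inf_le_left), ?_, rfl⟩, ?_⟩
      · rw [inf_relIndex_right]; exact hHL i
      · intro p hp
        have hpL : MulAut.conj (p : G) • L i = L i := by rw [← hsΩ, hp]
        have := hsim i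
        obtain ⟨s, hs, he⟩ := fixC_of_crow hH.1 (hHL i) (hC (L i) (hnc i)) hDY le_rfl hDYi (hDfix i) p.2 hpL
        rw [hcls, hp, he]
        ext K
        constructor
        · rintro ⟨t, ht, rfl⟩
          exact ⟨t * s, mul_mem ht hs, by rw [smul_mul]⟩
        · rintro ⟨t, ht, rfl⟩
          refine ⟨t * s⁻¹, mul_mem ht (inv_mem hs), ?_⟩
          rw [← smul_mul]
          congr 2
          group)
  choose R hRL hR1 hR2 hRe using hf1
  -- the invariance of the tuple
  have hinv : ∀ v ∈ Y, ∀ i j, L j = MulAut.conj v • L i → ∃ s ∈ L j, MulAut.conj v • R i = MulAut.conj s • R j := by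
    intro v hv i j hij
    have h3 : (⟨v, hv⟩ : Y) • i = j := hinj (by rw [hsΩ, hij])
    have h4 := hf2 ⟨v, hv⟩ i
    rw [h3, hRe i, hRe j, hcls, h3] at h4
    have h5 : MulAut.conj v • R i ∈ cls j (MulAut.conj v • R i) := ⟨1, one_mem _, by simp⟩
    have h6 : MulAut.conj v • R i ∈ cls j (R j) := by rw [h4]; exact h5
    exact h6
  -- the Hall subgroup of `A`
  set RR := ⨆ i, R i with hRR
  have hRRA : RR ≤ A := iSup_le fun i => (hRL i).trans (hLA i)
  obtain ⟨hRR1, hRR2⟩ := hall_iSup e hLA hsing hRL hR1 hR2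
  have hF : ∀ v ∈ D, ∃ a ∈ A, MulAut.conj v • RR = MulAut.conj a • RR := by
    intro v hv
    have hvY : v ∈ Y := hDY hv
    -- for each `j` an element `s j ∈ L j`
    have h3 : ∀ j, ∃ s : L j, ∃ i, L j = MulAut.conj v • L i ∧ MulAut.conj v • R i = MulAut.conj (s : G) • R j := by
      intro j
      obtain ⟨s, hs, he⟩ := hinv v hvY (σ v⁻¹ j) j (by rw [hσ, conj_smul_inv_smul])
      exact ⟨⟨s, hs⟩, σ v⁻¹ j, by rw [hσ, conj_smul_inv_smul], he⟩
    choose s i hi he using h3
    refine ⟨((e.symm s : A) : G), (e.symm s).2, ?_⟩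
    rw [hRR, smul_iSup', smul_iSup']
    apply le_antisymm
    · refine iSup_le fun k => ?_
      -- `k = i (σ v k)`
      have h4 : i (σ v k) = k := by
        apply hinj
        have h5 := hi (σ v k)
        rw [hσ] at h5
        have h6 : MulAut.conj v⁻¹ • MulAut.conj v • L k = MulAut.conj v⁻¹ • MulAut.conj v • L (i (σ v k)) := by rw [← h5]
        rw [conj_inv_smul_smul, conj_inv_smul_smul] at h6
        exact h6.symm
      refine le_trans (le_of_eq ?_) (le_iSup _ (σ v k))
      rw [conj_coord e hLA hsing s (σ v k) (hRL _), ← he, h4]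
    · refine iSup_le fun k => ?_
      rw [conj_coord e hLA hsing s k (hRL k), ← he]
      exact le_iSup (fun i => MulAut.conj v • R i) (i k)
  obtain ⟨H', hH', hH'D, hRH', hH'A⟩ := exists_hall_over hAD hRRA hRR1 hRR2 hF hAi hDi
  obtain ⟨u, hu⟩ := hcpi.2 H H' hH hH'
  rw [cj_eq] at hu
  have huD : MulAut.conj u • D = D := by
    conv_rhs => rw [← hH'A, hu]
    rw [hDdef, smul_sup', smul_normal A]
  have huY : u ∈ Y := normalizer_of_smul_eq huD
  have hint : ∀ i j, L j = MulAut.conj u • L i → MulAut.conj u • (H ⊓ L i) = R j := by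
    intro i j hij
    rw [smul_inf', ← hu, ← hij]
    exact inf_eq_of_hall (hRL j) ((le_iSup R j).trans hRH') hH'.1 (hR2 j)
  have hgood : y ∈ stabC L H (fun g i => ⟨σ g i, hσ g i⟩) := by
    intro i j hij
    have h3 : L (σ u j) = MulAut.conj (u * y * u⁻¹) • L (σ u i) := by
      rw [hσ, hσ, hij, ← smul_mul, ← smul_mul]
      congr 2
      group
    obtain ⟨s, hs, he⟩ := hinv (u * y * u⁻¹) (mul_mem (mul_mem huY hyY) (inv_mem huY)) _ _ h3
    rw [← hint i _ (hσ u i), ← hint j _ (hσ u j)] at he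
    refine ⟨u⁻¹ * s * u, ?_, ?_⟩
    · rw [hσ, ← cj_eq] at hs
      obtain ⟨s', hs', rfl⟩ := hs
      have : u⁻¹ * (MulAut.conj u).toMonoidHom s' * u = s' := by simp [mul_assoc]
      rw [this]; exact hs'
    · have h4 : MulAut.conj u⁻¹ • MulAut.conj (u * y * u⁻¹) • MulAut.conj u • (H ⊓ L i)
          = MulAut.conj u⁻¹ • MulAut.conj s • MulAut.conj u • (H ⊓ L j) := by rw [he]
      rw [← smul_mul, ← smul_mul, ← smul_mul, ← smul_mul] at h4
      have h5 : u⁻¹ * (u * y * u⁻¹) * u = y := by group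
      rw [h5] at h4
      exact h4
  exact pr_of_good h2 hN hB e hLA hAL hsing hsim hnc (hH.1 : PiN π _) hHA hgood

/-- the lifting of Hall subgroups (S4311) -/
def LiftHall (π : Set ℕ) : Prop :=
  ∀ (G : Type u) [Group G] [Finite G] (A : Subgroup G) [A.Normal], IsEPiGroup π G → ∀ K : Subgroup (G ⧸ A), IsPiHall π K →
    ∃ H : Subgroup G, IsPiHall π H ∧ H.map (QuotientGroup.mk' A) = K

/-- `C_π` passes to quotients -/
theorem cpi_quot (hl : LiftHall.{u} π) (hG : IsCPiGroup π G) (A : Subgroup G) [A.Normal] : IsCPiGroup π (G ⧸ A) := by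
  refine ⟨?_, ?_⟩
  · obtain ⟨H, hH⟩ := hG.1
    exact ⟨_, isPiHall_map_mk hH A⟩
  · intro H K hH hK
    obtain ⟨H₁, hH₁, rfl⟩ := hl G A hG.1 H hH
    obtain ⟨K₁, hK₁, rfl⟩ := hl G A hG.1 K hK
    obtain ⟨g, hg⟩ := hG.2 H₁ K₁ hH₁ hK₁
    refine ⟨QuotientGroup.mk' A g, ?_⟩
    rw [hg, cj_eq, cj_eq, map_smul']

/-- **S3851 from S4311 and the rows (`2 ∈ π`).** -/
theorem pronormal_of_cpi (h2 : 2 ∈ π)
    (hN : ∀ (S : Type u) [Group S] [Finite S] [IsSimpleGroup S], ¬ IsMulCommutative S → NRow π S)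
    (hB : ∀ (S : Type u) [Group S] [Finite S] [IsSimpleGroup S], ¬ IsMulCommutative S → BRow π S)
    (hC : ∀ (S : Type u) [Group S] [Finite S] [IsSimpleGroup S], ¬ IsMulCommutative S → CRow π S)
    (hl : LiftHall.{u} π) (n : ℕ) : ∀ (G : Type u) [Group G] [Finite G], Nat.card G = n → IsCPiGroup π G →
      ∀ H : Subgroup G, IsPiHall π H → IsPronormal H := by
  induction n using Nat.strong_induction_on with
  | _ n ih =>
    intro G _ _ hn hG H hH
    rw [isPronormal_iff]
    intro g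
    by_cases htop : (⊤ : Subgroup G) = ⊥
    · have hH0 : H = ⊥ := eq_bot_iff.mpr (htop ▸ le_top)
      exact Pr.of_eq (by rw [hH0]; exact smul_bot' g)
    obtain ⟨A, hAn, hA0, -, hmin⟩ := Cfsg.Agent.H165.Wiel.exists_min_normal G ⊤ inferInstance htop
    have hlt : Nat.card (G ⧸ A) < n := by
      rw [← hn]; exact Cfsg.Agent.H165.Wiel.card_quotient_lt hA0
    have h3 := ih _ hlt (G ⧸ A) rfl (cpi_quot hl hG A) _ (isPiHall_map_mk hH A)
    obtain ⟨x, hx, hxe⟩ := exists_of_quot A (isPronormal_iff.mp h3 (QuotientGroup.mk' A g))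
    have hHA : PiN' π (H.relIndex A) := by
      have h3 := relIndex_mul_sup_index H A
      exact PiN'.of_dvd hH.2 ⟨_, h3.symm⟩
    refine Pr.trans hx (Pr.of_inter A hH.1 hHA hxe ?_)
    by_cases hab : ∀ x ∈ A, ∀ y ∈ A, Commute x y
    · rcases abelian_min π hmin hab with h3 | h3
      · have h4 : A ≤ H := relIndex_eq_one.mp (eq_one_of_both (h3.of_dvd (relIndex_dvd_card H A)) hHA)
        rw [inf_of_le_right h4]
        exact Pr.of_eq (smul_normal A _)
      · have h4 : H ⊓ A = ⊥ := by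
          apply card_eq_one.mp
          exact eq_one_of_both (PiN.of_dvd hH.1 (card_dvd_of_le inf_le_left)) (h3.of_dvd (card_dvd_of_le inf_le_right))
        rw [h4]
        exact Pr.of_eq (smul_bot' _)
    · refine cpi_step h2 hN hB hC hH hG A (fun M hM hMA => ?_) hab ?_
      · by_cases hMb : M = ⊥
        · exact Or.inl hMb
        · exact Or.inr (hmin M hM hMA hMb)
      · rw [smul_sup', smul_normal A]
        exact hxe

end Cfsg.Agent.H165.RV
end

-- part: H165/RV/Final
section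
/-!
# TEAM RV: S2223 and S3851 from the rows, S4350 and S4311 (helper165)
-/

set_option autoImplicit false

namespace Cfsg.Agent.H165.RV

open Subgroup Cfsg Cfsg.Agent.H988.CPi Cfsg.Agent.H571.DExt
open scoped Pointwise

universe u

/-- S4350: Hall `π`-subgroups are conjugate if `2 ∉ π`. -/
def OddConj : Prop :=
  ∀ (π : Set ℕ), 2 ∉ π → ∀ (G : Type u) [Group G] [Finite G] (H K : Subgroup G), IsPiHall π H → IsPiHall π K →
    ∃ g : G, K = MulAut.conj g • H

/-- Hall subgroups of odd order are pronormal -/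
theorem pronormal_odd (hO : OddConj.{u}) {π : Set ℕ} (h2 : 2 ∉ π) {G : Type u} [Group G] [Finite G] {H : Subgroup G}
    (hH : IsPiHall π H) : IsPronormal H := by
  rw [isPronormal_iff]
  intro g
  set J := H ⊔ MulAut.conj g • H with hJ
  have hHJ : H ≤ J := le_sup_left
  have hgJ : MulAut.conj g • H ≤ J := le_sup_right
  have key : ∀ X : Subgroup G, X ≤ J → IsPiHall π X → IsPiHall π (X.subgroupOf J) := by
    intro X hX h
    refine ⟨?_, PiN'.of_dvd h.2 (relIndex_dvd_index_of_le hX)⟩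
    have : Nat.card (X.subgroupOf J) = Nat.card X := by
      rw [← card_map_of_injective J.subtype_injective, subgroupOf_map_subtype, inf_of_le_left hX]
    rw [this]; exact h.1
  obtain ⟨x, hx⟩ := hO π h2 J _ _ (key H hHJ hH) (key _ hgJ (isPiHall_smul hH g))
  refine ⟨x, x.2, ?_⟩
  have h3 := congrArg (Subgroup.map J.subtype) hx
  rw [map_smul', subgroupOf_map_subtype, subgroupOf_map_subtype, inf_of_le_left hHJ, inf_of_le_left hgJ] at h3
  exact h3

/-- the rows for `π ∋ 2` -/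
def AllRows : Prop :=
  ∀ (π : Set ℕ), 2 ∈ π → ∀ (S : Type u) [Group S] [Finite S] [IsSimpleGroup S], ¬ IsMulCommutative S →
    NRow π S ∧ BRow π S

def AllCRows : Prop :=
  ∀ (π : Set ℕ), 2 ∈ π → ∀ (S : Type u) [Group S] [Finite S] [IsSimpleGroup S], ¬ IsMulCommutative S → CRow π S

/-- **S3851 from S4350, S4311 and the rows** -/
theorem s3851_of (hO : OddConj.{u}) (hR : AllRows.{u}) (hC : AllCRows.{u}) (hl : ∀ π : Set ℕ, LiftHall.{u} π)
    {G : Type u} [Group G] [Finite G] (π : Set ℕ) (hG : IsCPiGroup π G) (H : Subgroup G) (hH : IsPiHall π H) :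
    IsPronormal H := by
  by_cases h2 : 2 ∈ π
  · exact pronormal_of_cpi h2 (fun S _ _ _ h => (hR π h2 S h).1) (fun S _ _ _ h => (hR π h2 S h).2)
      (fun S _ _ _ h => hC π h2 S h) (hl π) _ G rfl hG H hH
  · exact pronormal_odd hO h2 hH

end Cfsg.Agent.H165.RV
end
end

-- part: H1/D4/Struct
section
prune_inst 0x30200d0065a0020000180512900000607800009200400400c4a10f020209402229022801baa0051350120840200800600354001040300000000004000001052190805002a308010426000f800080000000000000000000000000000000000000200000000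
set_option linter.all false
open scoped Cfsg.Agent.FastGrp

-- part: H1/D4/Lin
section
/-!
# S4311, box C1: linear algebra (helper1)

`G` acts on `V` by isometries; `π : G →* X`; `Qs π K`: the subgroup `K` is perfect and quasisimple modulo `ker π`.
-/

set_option autoImplicit false

namespace Cfsg.Agent.H1.D4

open Module

/-! ### perfect groups -/

section group

variable {G : Type*} [Group G] {X : Type*} [Group X]

/-- a homomorphism of a perfect group with commuting values is trivial -/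
theorem perfect_hom {K : Subgroup G} (h : K ≤ ⁅K, K⁆) {M : Type*} [Monoid M] (f : K →* M)
    (hc : ∀ a b, f a * f b = f b * f a) (k : K) : f k = 1 := by
  have h1 : ⁅K, K⁆ ≤ f.ker.map K.subtype := by
    rw [Subgroup.commutator_le]
    intro a ha b hb
    refine ⟨(⟨a, ha⟩ : K) * ⟨b, hb⟩ * (⟨a, ha⟩ : K)⁻¹ * (⟨b, hb⟩ : K)⁻¹, ?_, ?_⟩
    · change f ((⟨a, ha⟩ : K) * ⟨b, hb⟩ * (⟨a, ha⟩ : K)⁻¹ * (⟨b, hb⟩ : K)⁻¹) = 1
      rw [map_mul, map_mul, map_mul, hc ⟨a, ha⟩ ⟨b, hb⟩, mul_assoc (f ⟨b, hb⟩), ← map_mul,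
        mul_inv_cancel, map_one, mul_one, ← map_mul, mul_inv_cancel, map_one]
    · rfl
  obtain ⟨x, hx, he⟩ := h1 (h k.2)
  have : x = k := Subtype.ext he
  rw [← this]
  exact hx

/-- `K` is perfect, and quasisimple modulo `ker π` -/
structure Qs (π : G →* X) (K : Subgroup G) : Prop where
  perf : K ≤ ⁅K, K⁆
  max : ∀ A : Subgroup G, A ≤ K → (∀ k ∈ K, ∀ a ∈ A, k * a * k⁻¹ ∈ A) → (∃ a ∈ A, π a ≠ 1) → K ≤ A
  cen : ∀ y ∈ K, π y ≠ 1 → ∃ k ∈ K, π (k * y * k⁻¹ * y⁻¹) ≠ 1

end group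

section rep

variable {F : Type*} [Field F] {V : Type*} [AddCommGroup V] [Module F V] {G : Type*} [Group G] {X : Type*} [Group X]
  (ρ : Representation F G V)

/-- `K` leaves `U` invariant -/
def Iv (K : Subgroup G) (U : Submodule F V) : Prop := ∀ k ∈ K, ∀ u ∈ U, ρ k u ∈ U

/-- `K` is trivial on `U` -/
def Tv (K : Subgroup G) (U : Submodule F V) : Prop := ∀ k ∈ K, ∀ u ∈ U, ρ k u = u

variable {ρ}

theorem rho_inv (g : G) (v : V) : ρ g (ρ g⁻¹ v) = v := by
  rw [← Module.End.mul_apply, ← map_mul, mul_inv_cancel, map_one, Module.End.one_apply]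

theorem inv_rho (g : G) (v : V) : ρ g⁻¹ (ρ g v) = v := by
  rw [← Module.End.mul_apply, ← map_mul, inv_mul_cancel, map_one, Module.End.one_apply]

theorem rho_mul (g h : G) (v : V) : ρ (g * h) v = ρ g (ρ h v) := by
  rw [map_mul, Module.End.mul_apply]

theorem Tv.inv {K : Subgroup G} {U : Submodule F V} (h : Tv ρ K U) : Iv ρ K U := fun k hk u hu => by
  rw [h k hk u hu]; exact hu

variable {π : G →* X} {K : Subgroup G} {U : Submodule F V}

/-- **dichotomy** -/
theorem Qs.tv_of_one (h : Qs π K) (hU : Iv ρ K U) {a : G} (ha : a ∈ K) (h1 : π a ≠ 1) (hau : ∀ u ∈ U, ρ a u = u) :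
    Tv ρ K U := by
  let A : Subgroup G :=
    { carrier := {k | k ∈ K ∧ ∀ u ∈ U, ρ k u = u}
      one_mem' := ⟨K.one_mem, fun u _ => by rw [map_one, Module.End.one_apply]⟩
      mul_mem' := by
        rintro x y ⟨hx, hx'⟩ ⟨hy, hy'⟩
        exact ⟨K.mul_mem hx hy, fun u hu => by rw [rho_mul, hy' u hu, hx' u hu]⟩
      inv_mem' := by
        rintro x ⟨hx, hx'⟩
        refine ⟨K.inv_mem hx, fun u hu => ?_⟩
        have := inv_rho (ρ := ρ) x u
        rwa [hx' u hu] at this }
  have hA : K ≤ A := h.max A (fun x hx => hx.1) (fun k hk a ha => ⟨K.mul_mem (K.mul_mem hk ha.1) (K.inv_mem hk),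
    fun u hu => by
      rw [rho_mul, rho_mul, ha.2 _ (hU _ (K.inv_mem hk) u hu), rho_inv]⟩) ⟨a, ⟨ha, hau⟩, h1⟩
  exact fun k hk u hu => (hA hk).2 u hu

theorem Qs.tv_of_comm (h : Qs π K) (hU : Iv ρ K U) {y : G} (hy : y ∈ K) (h1 : π y ≠ 1)
    (hc : ∀ k ∈ K, ∀ u ∈ U, ρ k (ρ y u) = ρ y (ρ k u)) : Tv ρ K U := by
  obtain ⟨k, hk, hne⟩ := h.cen y hy h1
  refine h.tv_of_one hU (K.mul_mem (K.mul_mem (K.mul_mem hk hy) (K.inv_mem hk)) (K.inv_mem hy)) hne fun u hu => ?_
  have h2 : ρ y⁻¹ u ∈ U := hU _ (K.inv_mem hy) u hu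
  have h3 : ρ k⁻¹ (ρ y⁻¹ u) ∈ U := hU _ (K.inv_mem hk) _ h2
  rw [rho_mul, rho_mul, rho_mul, hc k hk _ h3, rho_inv, rho_inv]

/-- the restriction of a representation to an invariant subspace -/
def rst (ρ : Representation F G V) (K : Subgroup G) (U : Submodule F V) (hU : Iv ρ K U) : K →* Module.End F U where
  toFun k := (ρ k).restrict (hU k k.2)
  map_one' := by ext u; simp
  map_mul' a b := by
    ext u
    change ρ ((a : G) * b) u = ρ a (ρ b u)
    exact rho_mul _ _ _

theorem rst_apply (hU : Iv ρ K U) (k : K) (u : U) : ((rst ρ K U hU k u : U) : V) = ρ k u := rfl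

theorem det_rst (hp : K ≤ ⁅K, K⁆) (hU : Iv ρ K U) (k : K) : LinearMap.det (rst ρ K U hU k) = 1 :=
  perfect_hom hp ((LinearMap.det : Module.End F U →* F).comp (rst ρ K U hU)) (fun _ _ => mul_comm _ _) k

/-! ### perfect groups in dimension two -/

theorem prop_aux {α β γ a b c d : F} (hdet : a * d - b * c = 1)
    (e11 : α * a * a + 2 * β * a * c + γ * c * c = α)
    (e12 : α * a * b + β * (a * d + b * c) + γ * c * d = β)
    (e22 : α * b * b + 2 * β * b * d + γ * d * d = γ) :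
    α * b = - (γ * c) ∧ 2 * β * b = γ * (a - d) ∧ 2 * β * c = - (α * (a - d)) := by
  refine ⟨?_, ?_, ?_⟩
  · linear_combination (-b) * e11 + a * e12 - (β * a + γ * c) * hdet
  · linear_combination (-b) * e12 + a * e22 - (β * b + γ * d) * hdet
  · linear_combination d * e11 - c * e12 - (α * a + β * c) * hdet

theorem comm_aux (h2 : (2 : F) ≠ 0) {α β γ a b c d a' b' c' d' : F} (hne : α * γ - β * β ≠ 0)
    (h : α * b = - (γ * c) ∧ 2 * β * b = γ * (a - d) ∧ 2 * β * c = - (α * (a - d)))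
    (h' : α * b' = - (γ * c') ∧ 2 * β * b' = γ * (a' - d') ∧ 2 * β * c' = - (α * (a' - d'))) :
    b * c' = b' * c ∧ b' * (a - d) = b * (a' - d') ∧ c * (a' - d') = c' * (a - d) := by
  obtain ⟨p1, p2, p3⟩ := h
  obtain ⟨q1, q2, q3⟩ := h'
  by_cases hα : α = 0
  · by_cases hγ : γ = 0
    · have hβ : β ≠ 0 := by rintro rfl; exact hne (by rw [hα]; ring)
      rw [hγ] at p2 q2
      rw [hα] at p3 q3
      have h2β : 2 * β ≠ 0 := mul_ne_zero h2 hβ
      have b0 : b = 0 := (mul_eq_zero.1 (by linear_combination p2 : 2 * β * b = 0)).resolve_left h2β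
      have b0' : b' = 0 := (mul_eq_zero.1 (by linear_combination q2 : 2 * β * b' = 0)).resolve_left h2β
      have c0 : c = 0 := (mul_eq_zero.1 (by linear_combination p3 : 2 * β * c = 0)).resolve_left h2β
      have c0' : c' = 0 := (mul_eq_zero.1 (by linear_combination q3 : 2 * β * c' = 0)).resolve_left h2β
      rw [b0, b0', c0, c0']
      exact ⟨by ring, by ring, by ring⟩
    · refine ⟨?_, ?_, ?_⟩
      · apply mul_left_cancel₀ hγ; linear_combination (-b') * p1 + b * q1
      · apply mul_left_cancel₀ hγ; linear_combination (-b') * p2 + b * q2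
      · apply mul_left_cancel₀ (mul_ne_zero hγ hγ)
        linear_combination (2 * β * b') * p1 - (2 * β * b) * q1 + (-γ * c') * (-p2) + (γ * c) * (-q2)
  · refine ⟨?_, ?_, ?_⟩
    · apply mul_left_cancel₀ hα; linear_combination c' * p1 - c * q1
    · apply mul_left_cancel₀ (mul_ne_zero hα hα)
      linear_combination (α * (a - d)) * q1 - (α * (a' - d')) * p1 - (γ * c') * p3 + (γ * c) * q3
    · apply mul_left_cancel₀ hα; linear_combination c * q3 - c' * p3

/-- **a perfect group of isometries of a nondegenerate space of dimension at most `2` is trivial** -/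
theorem tv_of_two [FiniteDimensional F V] (h2 : (2 : F) ≠ 0) {B : LinearMap.BilinForm F V}
    (hs : ∀ u v, B u v = B v u) (hB : ∀ (g : G) (u v : V), B (ρ g u) (ρ g v) = B u v)
    (hp : K ≤ ⁅K, K⁆) (hU : Iv ρ K U) (hn : ∀ u ∈ U, (∀ v ∈ U, B u v = 0) → u = 0) (hd : finrank F U ≤ 2) :
    Tv ρ K U := by
  have key : ∀ k, rst ρ K U hU k = 1 := by
    apply perfect_hom hp
    intro x y
    obtain ⟨n, hn'⟩ : ∃ n, finrank F U = n := ⟨_, rfl⟩
    let bs := finBasisOfFinrankEq F U hn'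
    apply (LinearMap.toMatrix bs bs).injective
    rw [Module.End.mul_eq_comp, Module.End.mul_eq_comp, LinearMap.toMatrix_comp bs bs bs,
      LinearMap.toMatrix_comp bs bs bs]
    obtain ⟨M, hM⟩ : ∃ M, M = LinearMap.toMatrix bs bs (rst ρ K U hU x) := ⟨_, rfl⟩
    obtain ⟨N, hN⟩ : ∃ N, N = LinearMap.toMatrix bs bs (rst ρ K U hU y) := ⟨_, rfl⟩
    rw [← hM, ← hN]
    have hn2 : n = 0 ∨ n = 1 ∨ n = 2 := by omega
    have hact : ∀ (z : K) (j : Fin n), rst ρ K U hU z (bs j) =
        ∑ i, LinearMap.toMatrix bs bs (rst ρ K U hU z) i j • bs i := fun z j => by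
      simp only [LinearMap.toMatrix_apply]
      exact (bs.sum_repr _).symm
    have hdet : ∀ z : K, (LinearMap.toMatrix bs bs (rst ρ K U hU z)).det = 1 := fun z => by
      rw [LinearMap.det_toMatrix]; exact det_rst hp hU z
    rcases hn2 with rfl | rfl | rfl
    · ext i; exact i.elim0
    · ext i j
      rw [Subsingleton.elim i 0, Subsingleton.elim j 0]
      simp only [Matrix.mul_apply, Finset.univ_unique, Finset.sum_singleton, Fin.default_eq_zero]
      exact mul_comm _ _
    · obtain ⟨α, hα⟩ : ∃ α, α = B (bs 0 : V) (bs 0 : V) := ⟨_, rfl⟩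
      obtain ⟨β, hβ⟩ : ∃ β, β = B (bs 0 : V) (bs 1 : V) := ⟨_, rfl⟩
      obtain ⟨γ, hγ⟩ : ∃ γ, γ = B (bs 1 : V) (bs 1 : V) := ⟨_, rfl⟩
      have hrel : ∀ z : K, ∀ L, L = LinearMap.toMatrix bs bs (rst ρ K U hU z) →
          α * L 0 1 = - (γ * L 1 0) ∧ 2 * β * L 0 1 = γ * (L 0 0 - L 1 1) ∧
            2 * β * L 1 0 = - (α * (L 0 0 - L 1 1)) := by
        intro z L hL
        have e0 := congrArg Subtype.val (hact z 0)
        have e1 := congrArg Subtype.val (hact z 1)
        rw [rst_apply, ← hL, Fin.sum_univ_two] at e0 e1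
        simp only [Submodule.coe_add, Submodule.coe_smul] at e0 e1
        have d := hdet z
        rw [← hL, Matrix.det_fin_two] at d
        have b00 := hB z (bs 0) (bs 0)
        have b01 := hB z (bs 0) (bs 1)
        have b11 := hB z (bs 1) (bs 1)
        rw [e0] at b00 b01
        rw [e1] at b01 b11
        simp only [map_add, map_smul, LinearMap.add_apply, LinearMap.smul_apply, smul_eq_mul,
          hs (bs 1 : V) (bs 0 : V), ← hα, ← hβ, ← hγ] at b00 b01 b11
        exact prop_aux (a := L 0 0) (b := L 0 1) (c := L 1 0) (d := L 1 1) (by linear_combination d)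
          (by linear_combination b00) (by linear_combination b01) (by linear_combination b11)
      have hne : α * γ - β * β ≠ 0 := by
        intro h0
        -- a vector in the radical
        have hrad : ∀ s t : F, s * α + t * β = 0 → s * β + t * γ = 0 → s = 0 ∧ t = 0 := by
          intro s t h3 h4
          have h5 : ((s • bs 0 + t • bs 1 : U) : V) = 0 := by
            apply hn _ (s • bs 0 + t • bs 1 : U).2
            intro v hv
            have h6 := bs.sum_repr ⟨v, hv⟩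
            rw [Fin.sum_univ_two] at h6
            have h7 := congrArg Subtype.val h6
            simp only [Submodule.coe_add, Submodule.coe_smul] at h7
            rw [← h7]
            simp only [Submodule.coe_add, Submodule.coe_smul, map_add, map_smul, LinearMap.add_apply,
              LinearMap.smul_apply, smul_eq_mul, hs (bs 1 : V) (bs 0 : V), ← hα, ← hβ, ← hγ]
            linear_combination (bs.repr ⟨v, hv⟩ 0) * h3 + (bs.repr ⟨v, hv⟩ 1) * h4
          have h6 : s • bs 0 + t • bs 1 = (0 : U) := Subtype.ext h5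
          have h7 := (LinearIndependent.pair_iff.1 (by
            have := bs.linearIndependent
            have h8 : (![bs 0, bs 1] : Fin 2 → U) = bs := by
              ext i; fin_cases i <;> rfl
            rw [h8]; exact this)) s t h6
          exact h7
        obtain ⟨-, hα0⟩ := hrad β (-α) (by ring) (by linear_combination -h0)
        have hα1 : α = 0 := neg_eq_zero.1 hα0
        have hβ0 : β = 0 := by
          rw [hα1] at h0
          have : β * β = 0 := by linear_combination -h0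
          exact mul_self_eq_zero.1 this
        have := (hrad 1 0 (by rw [hα1]; ring) (by rw [hβ0]; ring)).1
        exact one_ne_zero this
      obtain ⟨k1, k2, k3⟩ := comm_aux h2 hne (hrel x M hM) (hrel y N hN)
      ext i j
      fin_cases i <;> fin_cases j
      · simp only [Matrix.mul_apply, Fin.sum_univ_two, Fin.zero_eta, Fin.isValue]
        linear_combination k1
      · simp only [Matrix.mul_apply, Fin.sum_univ_two, Fin.zero_eta, Fin.isValue, Fin.mk_one]
        linear_combination k2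
      · simp only [Matrix.mul_apply, Fin.sum_univ_two, Fin.zero_eta, Fin.isValue, Fin.mk_one]
        linear_combination k3
      · simp only [Matrix.mul_apply, Fin.sum_univ_two, Fin.isValue, Fin.mk_one]
        linear_combination -k1
  intro k hk u hu
  have h3 := congrArg (fun f : Module.End F U => ((f ⟨u, hu⟩ : U) : V)) (key ⟨k, hk⟩)
  exact h3

end rep

end Cfsg.Agent.H1.D4
end

-- part: H1/D4/Grp
section
/-!
# S4311, box C1: group theory (helper1)
-/

set_option autoImplicit false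

namespace Cfsg.Agent.H1.D4

open Subgroup

section lift

variable {G : Type*} [Group G] {X : Type*} [Group X] {f : G →* X}

/-- the derived subgroup of the preimage -/
def kt (f : G →* X) (T : Subgroup X) : Subgroup G := ⁅T.comap f, T.comap f⁆

theorem kt_le (T : Subgroup X) : kt f T ≤ T.comap f := by
  rw [kt, Subgroup.commutator_le]
  intro a ha b hb
  exact (T.comap f).mul_mem ((T.comap f).mul_mem ((T.comap f).mul_mem ha hb) ((T.comap f).inv_mem ha))
    ((T.comap f).inv_mem hb)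

/-- commutators of elements congruent modulo the central kernel -/
theorem comm_eq (hcen : ∀ z, f z = 1 → ∀ g, z * g = g * z) {a b a' b' : G} (h1 : f a = f a') (h2 : f b = f b') :
    a * b * a⁻¹ * b⁻¹ = a' * b' * a'⁻¹ * b'⁻¹ := by
  obtain ⟨z, hz⟩ : ∃ z, z = a'⁻¹ * a := ⟨_, rfl⟩
  obtain ⟨w, hw⟩ : ∃ w, w = b'⁻¹ * b := ⟨_, rfl⟩
  have hz1 : f z = 1 := by rw [hz, map_mul, map_inv, h1, inv_mul_cancel]
  have hw1 : f w = 1 := by rw [hw, map_mul, map_inv, h2, inv_mul_cancel]
  have ha : a = a' * z := by rw [hz]; group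
  have hb : b = b' * w := by rw [hw]; group
  have hz2 := hcen z hz1
  have hw2 := hcen w hw1
  rw [ha, hb]
  calc a' * z * (b' * w) * (a' * z)⁻¹ * (b' * w)⁻¹
      = a' * (z * b') * w * z⁻¹ * a'⁻¹ * w⁻¹ * b'⁻¹ := by group
    _ = a' * b' * (z * w) * z⁻¹ * a'⁻¹ * w⁻¹ * b'⁻¹ := by rw [hz2 b']; group
    _ = a' * b' * (w * a'⁻¹) * w⁻¹ * b'⁻¹ := by rw [hz2 w]; group
    _ = a' * b' * a'⁻¹ * b'⁻¹ := by rw [hw2 a'⁻¹]; group

theorem kt_le_iff {T : Subgroup X} {A : Subgroup G} :
    kt f T ≤ A ↔ ∀ a, f a ∈ T → ∀ b, f b ∈ T → a * b * a⁻¹ * b⁻¹ ∈ A := by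
  rw [kt, Subgroup.commutator_le]
  exact ⟨fun h a ha b hb => h a ha b hb, fun h a ha b hb => h a ha b hb⟩

theorem comm_mem_kt {T : Subgroup X} {a b : G} (ha : f a ∈ T) (hb : f b ∈ T) : a * b * a⁻¹ * b⁻¹ ∈ kt f T :=
  Subgroup.commutator_mem_commutator (g₁ := a) (g₂ := b) ha hb

/-- lifting -/
theorem lift_of (hf : Function.Surjective f) {T : Subgroup X} (hT : T ≤ ⁅T, T⁆) {t : X} (ht : t ∈ T) :
    ∃ k ∈ kt f T, f k = t := by
  have h1 : T ≤ (kt f T).map f := by
    refine hT.trans ?_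
    rw [Subgroup.commutator_le]
    intro a ha b hb
    obtain ⟨a', rfl⟩ := hf a
    obtain ⟨b', rfl⟩ := hf b
    exact ⟨_, comm_mem_kt ha hb, by simp only [map_mul, map_inv, commutatorElement_def]⟩
  obtain ⟨k, hk, he⟩ := h1 ht
  exact ⟨k, hk, he⟩

/-- the lift is quasisimple -/
theorem qs_kt (hf : Function.Surjective f) (hcen : ∀ z, f z = 1 → ∀ g, z * g = g * z) {T : Subgroup X}
    (hT : T ≤ ⁅T, T⁆) (hs : ∀ S ≤ T, S ≠ ⊥ → (∀ t ∈ T, ∀ s ∈ S, t * s * t⁻¹ ∈ S) → T ≤ S)
    (hc : ∀ z ∈ T, (∀ t ∈ T, z * t = t * z) → z = 1) : Qs f (kt f T) := by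
  refine ⟨?_, ?_, ?_⟩
  · rw [kt_le_iff]
    intro a ha b hb
    obtain ⟨a', ha', he⟩ := lift_of hf hT ha
    obtain ⟨b', hb', he'⟩ := lift_of hf hT hb
    rw [comm_eq hcen he.symm he'.symm]
    exact Subgroup.commutator_mem_commutator ha' hb'
  · rintro A hA hAn ⟨a₀, ha₀, h1⟩
    have h2 : T ≤ A.map f := by
      refine hs _ ?_ ?_ ?_
      · rintro _ ⟨a, ha, rfl⟩
        exact kt_le T (hA ha)
      · intro h
        apply h1
        have h3 : f a₀ ∈ A.map f := ⟨a₀, ha₀, rfl⟩
        rwa [h, Subgroup.mem_bot] at h3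
      · rintro t ht _ ⟨a, ha, rfl⟩
        obtain ⟨k, hk, rfl⟩ := lift_of hf hT ht
        exact ⟨k * a * k⁻¹, hAn k hk a ha, by rw [map_mul, map_mul, map_inv]⟩
    rw [kt_le_iff]
    intro a ha b hb
    obtain ⟨a', ha', he⟩ := h2 ha
    obtain ⟨b', hb', he'⟩ := h2 hb
    rw [comm_eq hcen he.symm he'.symm]
    exact A.mul_mem (A.mul_mem (A.mul_mem ha' hb') (A.inv_mem ha')) (A.inv_mem hb')
  · intro y hy h1
    by_contra hcon
    push Not at hcon
    apply h1
    refine hc _ (kt_le T hy) fun t ht => ?_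
    obtain ⟨k, hk, rfl⟩ := lift_of hf hT ht
    have h3 := hcon k hk
    rw [map_mul, map_mul, map_mul, map_inv, map_inv, mul_inv_eq_one, mul_inv_eq_iff_eq_mul] at h3
    exact h3.symm

/-- lifts of commuting subgroups commute -/
theorem kt_comm (hcen : ∀ z, f z = 1 → ∀ g, z * g = g * z) {S T : Subgroup X}
    (h : ∀ a ∈ S, ∀ b ∈ T, a * b = b * a) : ∀ a ∈ kt f S, ∀ b ∈ kt f T, a * b = b * a := by
  have h1 : ∀ b, f b ∈ T → kt f S ≤ Subgroup.centralizer {b} := by
    intro b hb
    rw [kt_le_iff]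
    intro a ha a' ha'
    rw [Subgroup.mem_centralizer_iff]
    intro b' hb'
    rw [Set.mem_singleton_iff.1 hb']
    have h2 : ∀ c, f c ∈ S → f (b * c * b⁻¹) = f c := by
      intro c hc
      rw [map_mul, map_mul, map_inv, ← h _ hc _ hb, mul_inv_cancel_right]
    have h3 := comm_eq hcen (h2 a ha) (h2 a' ha')
    calc b * (a * a' * a⁻¹ * a'⁻¹) = b * a * b⁻¹ * (b * a' * b⁻¹) * (b * a * b⁻¹)⁻¹ * (b * a' * b⁻¹)⁻¹ * b := by group
      _ = a * a' * a⁻¹ * a'⁻¹ * b := by rw [h3]
  intro a ha b hb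
  have h2 := h1 b (kt_le T hb) ha
  rw [Subgroup.mem_centralizer_iff] at h2
  exact (h2 b rfl).symm

/-- conjugation of lifts -/
theorem kt_conj {S T : Subgroup X} {g : G} (h : ∀ s ∈ S, f g * s * (f g)⁻¹ ∈ T) : ∀ k ∈ kt f S, g * k * g⁻¹ ∈ kt f T := by
  have h1 : kt f S ≤ (kt f T).comap (MulAut.conj g).toMonoidHom := by
    rw [kt_le_iff]
    intro a ha b hb
    show g * (a * b * a⁻¹ * b⁻¹) * g⁻¹ ∈ kt f T
    have h2 : g * (a * b * a⁻¹ * b⁻¹) * g⁻¹ = (g * a * g⁻¹) * (g * b * g⁻¹) * (g * a * g⁻¹)⁻¹ * (g * b * g⁻¹)⁻¹ := by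
      group
    rw [h2]
    exact comm_mem_kt (by rw [map_mul, map_mul, map_inv]; exact h _ ha) (by rw [map_mul, map_mul, map_inv]; exact h _ hb)
  exact fun k hk => h1 hk

end lift

end Cfsg.Agent.H1.D4
end

-- part: H1/D4/Struct
section
/-!
# S4311, box C1: the socle (helper1)
-/

set_option autoImplicit false
set_option linter.unusedSectionVars false

namespace Cfsg.Agent.H1.D4

open Subgroup Cfsg.Agent.Lib.MinNormal Cfsg.Agent.Lib.MinNormalNonabelian
open scoped commutatorElement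

variable {X : Type*} [Group X] [Finite X]

/-- a 2-group acting on a group of even order has a nontrivial fixed point -/
theorem fix_even {P A : Subgroup X} (hP : IsPGroup 2 P) (hPA : ∀ x ∈ P, ∀ a ∈ A, x * a * x⁻¹ ∈ A)
    (h2 : 2 ∣ Nat.card A) : ∃ s ∈ A, s ≠ 1 ∧ ∀ x ∈ P, x * s = s * x := by
  classical
  have hf2 : Fact (Nat.Prime 2) := ⟨Nat.prime_two⟩
  let β : Type _ := {a : A // a * a = 1}
  have := Fintype.ofFinite A
  have hβ : 2 ∣ Nat.card β := by
    let φ : Function.End A := fun a => a⁻¹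
    have h1 : φ ^ 2 ^ 1 = 1 := by
      funext a
      rw [pow_one, pow_two]
      exact inv_inv a
    have h3 := Equiv.Perm.card_fixedPoints_modEq h1
    have h4 : Nat.card β = Fintype.card (Function.fixedPoints φ) := by
      rw [← Nat.card_eq_fintype_card]
      refine Nat.card_congr (Equiv.subtypeEquivRight fun a => ?_)
      show a * a = 1 ↔ a⁻¹ = a
      rw [inv_eq_iff_mul_eq_one]
    rw [h4]
    exact (Nat.modEq_zero_iff_dvd.1 (h3.symm.trans (by
      rw [← Nat.card_eq_fintype_card]; exact (Nat.modEq_zero_iff_dvd.2 h2))))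
  let act : MulAction P β :=
    { smul := fun x a => ⟨⟨x * a.1 * (x : X)⁻¹, hPA x x.2 _ a.1.2⟩, Subtype.ext (by
        have h5 : ((a.1 : A) : X) * a.1 = 1 := congrArg Subtype.val a.2
        show (x : X) * a.1 * (x : X)⁻¹ * (x * a.1 * (x : X)⁻¹) = 1
        calc (x : X) * a.1 * (x : X)⁻¹ * (x * a.1 * (x : X)⁻¹) = x * (a.1 * a.1) * (x : X)⁻¹ := by group
          _ = 1 := by rw [h5, mul_one, mul_inv_cancel])⟩
      one_smul := fun a => Subtype.ext (Subtype.ext (by
        show ((1 : P) : X) * a.1 * ((1 : P) : X)⁻¹ = a.1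
        simp))
      mul_smul := fun x y a => Subtype.ext (Subtype.ext (by
        show ((x * y : P) : X) * a.1 * ((x * y : P) : X)⁻¹ = x * (y * a.1 * (y : X)⁻¹) * (x : X)⁻¹
        rw [Subgroup.coe_mul]
        group)) }
  let o : β := ⟨1, one_mul 1⟩
  have ho : o ∈ MulAction.fixedPoints P β := by
    intro x
    refine Subtype.ext (Subtype.ext ?_)
    show (x : X) * ((1 : A) : X) * (x : X)⁻¹ = (1 : A)
    simp
  obtain ⟨b, hb, hne⟩ := hP.exists_fixed_point_of_prime_dvd_card_of_fixed_point β hβ ho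
  refine ⟨b.1, b.1.2, fun h => hne (Subtype.ext (Subtype.ext h.symm)), fun x hx => ?_⟩
  have h6 := hb ⟨x, hx⟩
  have h7 : x * b.1 * x⁻¹ = (b.1 : X) := congrArg (fun c : β => ((c.1 : A) : X)) h6
  exact mul_inv_eq_iff_eq_mul.1 h7

/-- nontrivial perfect groups have even order -/
theorem two_dvd_of_perf {A : Subgroup X} (hA : A ≠ ⊥) (hp : A ≤ ⁅A, A⁆) : 2 ∣ Nat.card A := by
  by_contra h
  have h1 : Odd (Nat.card A) := Nat.not_even_iff_odd.1 fun h' => h (even_iff_two_dvd.1 h')
  have h2 : Group.IsSolvable A := Cfsg.Agent.S0205.result h1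
  have h3 : commutator A < ⊤ := by
    have : Nontrivial A := (Subgroup.nontrivial_iff_ne_bot A).2 hA
    exact Group.IsSolvable.commutator_lt_top_of_nontrivial A
  apply h3.ne
  have h4 : (commutator A).map A.subtype = (⊤ : Subgroup A).map A.subtype := by
    rw [Subgroup.map_subtype_commutator, ← MonoidHom.range_eq_map, Subgroup.range_subtype]
    exact le_antisymm (by
      rw [Subgroup.commutator_le]
      exact fun a ha b hb => A.mul_mem (A.mul_mem (A.mul_mem ha hb) (A.inv_mem ha)) (A.inv_mem hb)) hp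
  exact Subgroup.map_injective A.subtype_injective h4

/-- the members of `minSet N` are perfect -/
theorem perf_of_simple {T : Subgroup X} [IsSimpleGroup T] (hc : ∀ z ∈ T, (∀ t ∈ T, Commute z t) → z = 1) :
    T ≤ ⁅T, T⁆ := by
  rcases (inferInstance : (commutator T).Normal).eq_bot_or_eq_top with h | h
  · exfalso
    obtain ⟨t, ht⟩ := exists_ne (1 : T)
    apply ht
    apply Subtype.ext
    refine hc t t.2 fun s hs => ?_
    have h1 : ⁅t, ⟨s, hs⟩⁆ ∈ commutator T := Subgroup.commutator_mem_commutator (Subgroup.mem_top _) (Subgroup.mem_top _)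
    rw [h, Subgroup.mem_bot, commutatorElement_eq_one_iff_mul_comm] at h1
    exact congrArg Subtype.val h1
  · rw [← Subgroup.map_subtype_commutator, h, ← MonoidHom.range_eq_map, Subgroup.range_subtype]

theorem simple_le {T : Subgroup X} [IsSimpleGroup T] {S : Subgroup X} (hS : S ≤ T) (h1 : S ≠ ⊥)
    (hn : ∀ t ∈ T, ∀ s ∈ S, t * s * t⁻¹ ∈ S) : T ≤ S := by
  have h2 : (S.subgroupOf T).Normal := ⟨fun s hs g => hn g g.2 s hs⟩
  rcases h2.eq_bot_or_eq_top with h | h
  · exfalso
    apply h1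
    rw [Subgroup.subgroupOf_eq_bot] at h
    rw [eq_bot_iff]
    intro x hx
    exact Subgroup.disjoint_def.1 h hx (hS hx)
  · exact Subgroup.subgroupOf_eq_top.1 h

/-- the data of the socle -/
structure Soc (N : Subgroup X) (s : Set (Subgroup X)) : Prop where
  nor : N.Normal
  cent : ∀ g, (∀ n ∈ N, g * n = n * g) → g = 1
  ne : s.Nonempty
  sup : sSup s = N
  simple : ∀ T ∈ s, IsSimpleGroup T
  perf : ∀ T ∈ s, T ≤ ⁅T, T⁆
  cen : ∀ T ∈ s, ∀ z ∈ T, (∀ t ∈ T, z * t = t * z) → z = 1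
  comm : ∀ S ∈ s, ∀ T ∈ s, S ≠ T → ∀ a ∈ S, ∀ b ∈ T, a * b = b * a
  two : ∀ T ∈ s, 2 ∣ Nat.card T
  conj : ∀ S ∈ s, ∀ T ∈ s, ∃ g : X, T = S.map (MulAut.conj g).toMonoidHom
  map : ∀ T ∈ s, ∀ g : X, T.map (MulAut.conj g).toMonoidHom ∈ s

theorem exists_min (C : Subgroup X) (hC : C.Normal) (hC1 : C ≠ ⊥) :
    ∃ N : Subgroup X, N.Normal ∧ N ≠ ⊥ ∧ N ≤ C ∧ ∀ M : Subgroup X, M.Normal → M ≤ N → M = ⊥ ∨ M = N := by
  have hfin : {N : Subgroup X | N.Normal ∧ N ≠ ⊥ ∧ N ≤ C}.Finite := Set.toFinite _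
  obtain ⟨N, ⟨h1, h2, h3⟩, hmin⟩ := hfin.exists_minimal ⟨C, hC, hC1, le_refl _⟩
  refine ⟨N, h1, h2, h3, fun M hM hMN => ?_⟩
  by_cases h4 : M = ⊥
  · exact Or.inl h4
  · exact Or.inr (le_antisymm hMN (hmin ⟨hM, h4, hMN.trans h3⟩ hMN))

/-- a nontrivial normal subgroup contains a perfect one -/
theorem exists_soc (hO : ∀ (R : Subgroup X) (r : ℕ), r.Prime → R.Normal → IsPGroup r R → R = ⊥)
    (C : Subgroup X) (hC : C.Normal) (hC1 : C ≠ ⊥) :
    ∃ N : Subgroup X, N.Normal ∧ N ≠ ⊥ ∧ N ≤ C ∧ (∀ M : Subgroup X, M.Normal → M ≤ N → M = ⊥ ∨ M = N) ∧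
      ¬ ∀ x ∈ N, ∀ y ∈ N, Commute x y := by
  obtain ⟨N, h1, h2, h3, h4⟩ := exists_min C hC hC1
  refine ⟨N, h1, h2, h3, h4, fun h => ?_⟩
  obtain ⟨p, hp, hNp, -⟩ := abelian_structure N h2 h4 h
  exact h2 (hO N p hp h1 hNp)

/-- a minimal normal nonabelian subgroup is perfect -/
theorem perf_of_min {N : Subgroup X} (hN : N.Normal) (hmin : ∀ M : Subgroup X, M.Normal → M ≤ N → M = ⊥ ∨ M = N)
    (hna : ¬ ∀ x ∈ N, ∀ y ∈ N, Commute x y) : N ≤ ⁅N, N⁆ := by
  rcases hmin ⁅N, N⁆ inferInstance (Subgroup.commutator_le_self N) with h | h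
  · exfalso
    apply hna
    intro x hx y hy
    have h1 : ⁅x, y⁆ ∈ ⁅N, N⁆ := Subgroup.commutator_mem_commutator hx hy
    rw [h, Subgroup.mem_bot, commutatorElement_eq_one_iff_mul_comm] at h1
    exact h1
  · exact h.ge

/-- **the socle** -/
theorem exists_socle (hX : Nontrivial X) {P : Subgroup X} (hP : IsPGroup 2 P) {z : X}
    (hz : ∀ s, (∀ x ∈ P, x * s = s * x) → s = 1 ∨ s = z)
    (hO : ∀ (R : Subgroup X) (r : ℕ), r.Prime → R.Normal → IsPGroup r R → R = ⊥) :
    ∃ (N : Subgroup X) (s : Set (Subgroup X)), Soc N s ∧ ∃ k, s.ncard = 2 ^ k := by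
  have hf2 : Fact (Nat.Prime 2) := ⟨Nat.prime_two⟩
  have hzA : ∀ A : Subgroup X, (∀ x ∈ P, ∀ a ∈ A, x * a * x⁻¹ ∈ A) → 2 ∣ Nat.card A → z ∈ A ∧ z ≠ 1 := by
    intro A hA h2
    obtain ⟨s, hsA, hs1, hs⟩ := fix_even hP hA h2
    rcases hz s hs with h | h
    · exact absurd h hs1
    · rw [← h]; exact ⟨hsA, hs1⟩
  have hT : (⊤ : Subgroup X) ≠ ⊥ := by
    intro h
    obtain ⟨x, hx⟩ := exists_ne (1 : X)
    apply hx
    rw [← Subgroup.mem_bot, ← h]
    exact Subgroup.mem_top x
  obtain ⟨N, hN, hN1, -, hmin, hna⟩ := exists_soc hO ⊤ inferInstance hT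
  obtain ⟨hne, hind, hsup, hsim, hcen, hconj⟩ := nonabelian_structure N hmin hna
  have hNp := perf_of_min hN hmin hna
  have hN2 := two_dvd_of_perf hN1 hNp
  obtain ⟨hzN, hz1⟩ := hzA N (fun x _ a ha => hN.conj_mem a ha x) hN2
  have hcent : ∀ g, (∀ n ∈ N, g * n = n * g) → g = 1 := by
    by_contra hcon
    push Not at hcon
    obtain ⟨g, hg, hg1⟩ := hcon
    have hC : (Subgroup.centralizer (N : Set X)).Normal := inferInstance
    have hC1 : Subgroup.centralizer (N : Set X) ≠ ⊥ := by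
      intro h
      apply hg1
      have : g ∈ Subgroup.centralizer (N : Set X) := fun n hn => (hg n hn).symm
      rwa [h, Subgroup.mem_bot] at this
    obtain ⟨M, hM, hM1, hMC, hMmin, hMna⟩ := exists_soc hO _ hC hC1
    have hM2 := two_dvd_of_perf hM1 (perf_of_min hM hMmin hMna)
    obtain ⟨hzM, -⟩ := hzA M (fun x _ a ha => hM.conj_mem a ha x) hM2
    rcases hmin (N ⊓ Subgroup.centralizer (N : Set X)) inferInstance inf_le_left with h | h
    · have h1 : z ∈ N ⊓ Subgroup.centralizer (N : Set X) := ⟨hzN, hMC hzM⟩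
      rw [h, Subgroup.mem_bot] at h1
      exact hz1 h1
    · apply hna
      intro x hx y hy
      rw [← h] at hy
      exact hy.2 x hx
  have hcomm : ∀ S ∈ minSet N, ∀ T ∈ minSet N, S ≠ T → ∀ a ∈ S, ∀ b ∈ T, a * b = b * a := by
    intro S hS T hT hne a ha b hb
    exact commute_of_mem (K := N) hind (fun S hS => hS.2.2.1) (fun S hS => hS.1) hS hT hne ha hb
  have hperf : ∀ T ∈ minSet N, T ≤ ⁅T, T⁆ := by
    intro T hT
    have := hsim T hT
    exact perf_of_simple (hcen T hT)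
  have hne1 : ∀ T ∈ minSet N, T ≠ ⊥ := fun T hT => hT.2.1
  have htwo : ∀ T ∈ minSet N, 2 ∣ Nat.card T := fun T hT => two_dvd_of_perf (hne1 T hT) (hperf T hT)
  refine ⟨N, minSet N, ⟨hN, hcent, hne, hsup, hsim, hperf, fun T hT z hz h => hcen T hT z hz fun t ht => h t ht,
    hcomm, htwo, hconj, fun T hT g => map_conj_mem_minSet hT g⟩, ?_⟩
  -- transitivity
  let orb : Subgroup X → Set (Subgroup X) := fun T => {S | ∃ x ∈ P, S = T.map (MulAut.conj x).toMonoidHom}
  have hself : ∀ T, T ∈ orb T := fun T => ⟨1, P.one_mem, (map_conj_one T).symm⟩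
  have horb : ∀ T ∈ minSet N, orb T ⊆ minSet N := by
    rintro T hT _ ⟨x, -, rfl⟩
    exact map_conj_mem_minSet hT x
  have hzorb : ∀ T ∈ minSet N, z ∈ sSup (orb T) := by
    intro T hT
    refine (hzA _ ?_ ?_).1
    · intro x hx
      have h1 : sSup (orb T) ≤ (sSup (orb T)).comap (MulAut.conj x).toMonoidHom := by
        refine sSup_le ?_
        rintro _ ⟨y, hy, rfl⟩
        rw [← Subgroup.map_le_iff_le_comap, map_conj_map_conj]
        exact le_sSup ⟨x * y, P.mul_mem hx hy, rfl⟩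
      exact fun a ha => h1 ha
    · exact (htwo T hT).trans (Subgroup.card_dvd_of_le (le_sSup (hself T)))
  have hzc : ∀ T ∈ minSet N, ∀ U ∈ minSet N, U ∉ orb T → U ≤ Subgroup.centralizer {z} := by
    intro T hT U hU hUT u hu
    have h1 : sSup (orb T) ≤ Subgroup.centralizer {u} := by
      refine sSup_le fun S hS a ha => ?_
      rw [Subgroup.mem_centralizer_iff]
      intro v hv
      rw [Set.mem_singleton_iff.1 hv]
      exact hcomm U hU S (horb T hT hS) (fun h => hUT (by rw [h]; exact hS)) u hu a ha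
    rw [Subgroup.mem_centralizer_iff]
    intro v hv
    rw [Set.mem_singleton_iff.1 hv]
    have h2 := h1 (hzorb T hT)
    rw [Subgroup.mem_centralizer_iff] at h2
    exact (h2 u rfl).symm
  obtain ⟨T, hT⟩ := hne
  have hall : ∀ U ∈ minSet N, U ∈ orb T := by
    by_contra hcon
    push Not at hcon
    obtain ⟨T', hT', hT'o⟩ := hcon
    apply hz1
    apply hcent
    have h1 : N ≤ Subgroup.centralizer {z} := by
      rw [← hsup]
      refine sSup_le fun U hU => ?_
      by_cases hUo : U ∈ orb T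
      · refine hzc T' hT' U hU fun hUo' => hT'o ?_
        obtain ⟨x, hx, rfl⟩ := hUo
        obtain ⟨y, hy, he⟩ := hUo'
        refine ⟨y⁻¹ * x, P.mul_mem (P.inv_mem hy) hx, ?_⟩
        rw [← map_conj_map_conj, he, map_conj_map_conj, inv_mul_cancel, map_conj_one]
      · exact hzc T hT U hU hUo
    intro n hn
    have h2 := h1 hn
    rw [Subgroup.mem_centralizer_iff] at h2
    exact h2 z rfl
  let act : MulAction P (minSet N) :=
    { smul := fun x U => ⟨U.1.map (MulAut.conj (x : X)).toMonoidHom, map_conj_mem_minSet U.2 _⟩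
      one_smul := fun U => Subtype.ext (map_conj_one U.1)
      mul_smul := fun x y U => Subtype.ext (map_conj_map_conj (x : X) (y : X) U.1).symm }
  obtain ⟨n, hn⟩ := hP.card_orbit (⟨T, hT⟩ : minSet N)
  refine ⟨n, ?_⟩
  have h5 : MulAction.orbit P (⟨T, hT⟩ : minSet N) = Set.univ := by
    rw [Set.eq_univ_iff_forall]
    rintro ⟨U, hU⟩
    obtain ⟨x, hx, he⟩ := hall U hU
    exact ⟨⟨x, hx⟩, Subtype.ext he.symm⟩
  rw [← hn, h5]
  exact (Nat.card_congr (Equiv.Set.univ _)).symm

end Cfsg.Agent.H1.D4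
end

private theorem dce_02b8834864a2 : _root_.True := by
  try have : _root_.True := by simp only [_root_.Cfsg.Agent.H1.D4.kt.eq_1]
  try have : _root_.True := by simp only [_root_.Cfsg.Agent.H1.D4.rst.congr_simp]
  exact _root_.True.intro
end

-- part: H1/D4/CaseTwo
section
prune_inst 0x2030080071e2120000000012a0000060580000020040040004a10d020049002209022800ba90051350028c00400000000354001002200000000004000001050110811202a148010002000e000000000000000000000000000000000000000004200000000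
set_option linter.all false
open scoped Cfsg.Agent.FastGrp

-- part: H1/D4/Four
section
/-!
# S4311, box C1: four components are impossible in dimension `8` (helper1)
-/

set_option autoImplicit false

namespace Cfsg.Agent.H1.D4

open Module

variable {F : Type*} [Field F] {V : Type*} [AddCommGroup V] [Module F V] {G : Type*} [Group G] {X : Type*} [Group X]
  {ρ : Representation F G V} {π : G →* X}

theorem two_zero (h2 : (2 : F) ≠ 0) {v : V} (h : v = -v) : v = 0 := by
  have h1 : (2 : F) • v = 0 := by rw [two_smul]; nth_rewrite 2 [h]; exact add_neg_cancel v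
  exact (smul_eq_zero.1 h1).resolve_left h2

/-- the `-1`-eigenspace of an involution in a perfect group has even dimension -/
theorem even_of_perfect [FiniteDimensional F V] (h2 : (2 : F) ≠ 0) {K : Subgroup G} {U W : Submodule F V}
    (hp : K ≤ ⁅K, K⁆) (hU : Iv ρ K U) {y : G} (hy : y ∈ K) (hyy : ∀ u ∈ U, ρ y (ρ y u) = u)
    (hW : ∀ v, v ∈ W ↔ v ∈ U ∧ ρ y v = -v) : Even (finrank F W) := by
  obtain ⟨e, he⟩ : ∃ e, e = rst ρ K U hU ⟨y, hy⟩ := ⟨_, rfl⟩
  have hea : ∀ u : U, ((e u : U) : V) = ρ y u := fun u => by rw [he]; rfl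
  have hd : LinearMap.det e = 1 := by rw [he]; exact det_rst hp hU _
  let W' : Submodule F U := W.comap U.subtype
  have hW' : ∀ u : U, u ∈ W' ↔ ρ y u = -(u : V) := fun u => by
    change (u : V) ∈ W ↔ _
    rw [hW]; exact ⟨fun h => h.2, fun h => ⟨u.2, h⟩⟩
  have hcomap : W' ≤ W'.comap e := fun u hu => by
    rw [Submodule.mem_comap, hW', hea]
    have h1 := (hW' u).1 hu
    rw [h1, map_neg, h1]
  have h1 := LinearMap.det_eq_det_mul_det W' e hcomap
  have h3 : LinearMap.restrict (p := W') (q := W') e (fun x hx => hcomap hx) = -1 := by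
    ext u
    change ((e (u : U) : U) : V) = -((u : U) : V)
    rw [hea]
    exact (hW' u).1 u.2
  have h4 : W'.mapQ W' e hcomap = 1 := by
    apply LinearMap.ext
    intro q
    obtain ⟨u, rfl⟩ := Submodule.Quotient.mk_surjective _ q
    rw [Submodule.mapQ_apply, Module.End.one_apply, Submodule.Quotient.eq, hW']
    change ρ y (((e u : U) : V) - u) = -(((e u : U) : V) - u)
    rw [hea, map_sub, hyy u u.2]
    abel
  rw [h3, h4, hd, map_one, mul_one] at h1
  have h5 : LinearMap.det (-1 : W' →ₗ[F] W') = (-1) ^ finrank F W' := by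
    have : (-1 : W' →ₗ[F] W') = (-1 : F) • (1 : W' →ₗ[F] W') := by
      apply LinearMap.ext
      intro u
      rw [LinearMap.smul_apply, LinearMap.neg_apply, Module.End.one_apply, neg_smul, one_smul]
    rw [this, LinearMap.det_smul, map_one, mul_one]
  rw [h5] at h1
  have h6 : finrank F W' = finrank F W := by
    have hle : W ≤ U := fun v hv => ((hW v).1 hv).1
    exact (Submodule.comapSubtypeEquivOfLe hle).finrank_eq
  rw [← h6]
  by_contra hodd
  rw [Nat.not_even_iff_odd] at hodd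
  rw [hodd.neg_one_pow] at h1
  apply h2
  linear_combination h1

section

variable {K : Fin 4 → Subgroup G} {y : Fin 4 → G}

/-- joint eigenspaces -/
def RR (ρ : Representation F G V) (y : Fin 4 → G) (P M : Finset (Fin 4)) : Submodule F V where
  carrier := {v | (∀ i ∈ P, ρ (y i) v = v) ∧ ∀ i ∈ M, ρ (y i) v = -v}
  add_mem' := by
    rintro a b ⟨ha, ha'⟩ ⟨hb, hb'⟩
    refine ⟨fun i hi => by rw [map_add, ha i hi, hb i hi], fun i hi => ?_⟩
    rw [map_add, ha' i hi, hb' i hi, neg_add]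
  zero_mem' := ⟨fun i _ => map_zero _, fun i _ => by rw [map_zero, neg_zero]⟩
  smul_mem' := by
    rintro c v ⟨hv, hv'⟩
    refine ⟨fun i hi => by rw [map_smul, hv i hi], fun i hi => ?_⟩
    rw [map_smul, hv' i hi, smul_neg]

theorem mem_RR {P M : Finset (Fin 4)} {v : V} :
    v ∈ RR ρ y P M ↔ (∀ i ∈ P, ρ (y i) v = v) ∧ ∀ i ∈ M, ρ (y i) v = -v := Iff.rfl

theorem comm_v {i j : Fin 4} (hy : ∀ i, y i ∈ K i)
    (hc : ∀ i j, i ≠ j → ∀ a ∈ K i, ∀ b ∈ K j, a * b = b * a) (hij : i ≠ j) {k : G} (hk : k ∈ K i) (v : V) :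
    ρ (y j) (ρ k v) = ρ k (ρ (y j) v) := by
  rw [← rho_mul, ← rho_mul, hc i j hij k hk _ (hy j)]

/-- **four components are impossible, first case** -/
theorem no_four_pos [FiniteDimensional F V] (h2 : (2 : F) ≠ 0) (hV : finrank F V ≤ 8)
    (hQ : ∀ i, Qs π (K i)) (hc : ∀ i j, i ≠ j → ∀ a ∈ K i, ∀ b ∈ K j, a * b = b * a) (hy : ∀ i, y i ∈ K i)
    (hy1 : ∀ i, π (y i) ≠ 1) (hker : ∀ g, (∀ v, ρ g v = v) → π g = 1)
    (hsq : ∀ i v, ρ (y i) (ρ (y i) v) = v) : False := by
  have hiv : ∀ (P M : Finset (Fin 4)) (l : Fin 4), l ∉ P → l ∉ M → Iv ρ (K l) (RR ρ y P M) := by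
    intro P M l hP hM k hk v hv
    refine ⟨fun i hi => ?_, fun i hi => ?_⟩
    · rw [comm_v hy hc (fun h => hP (by rw [h]; exact hi)) hk, hv.1 i hi]
    · rw [comm_v hy hc (fun h => hM (by rw [h]; exact hi)) hk, hv.2 i hi, map_neg]
  have hcy : ∀ i j (v : V), ρ (y i) (ρ (y j) v) = ρ (y j) (ρ (y i) v) := by
    intro i j v
    by_cases hij : i = j
    · rw [hij]
    · exact comm_v hy hc (Ne.symm hij) (hy j) v
  have key : ∀ (P M : Finset (Fin 4)) (l : Fin 4), l ∉ P → l ∉ M → RR ρ y P M ≠ ⊥ → RR ρ y (insert l P) M ≠ ⊥ := by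
    intro P M l hP hM hne h0
    apply hne
    have h1 : ∀ v ∈ RR ρ y P M, ρ (y l) v = -v := by
      intro v hv
      have h3 : v + ρ (y l) v ∈ RR ρ y (insert l P) M := by
        refine ⟨fun i hi => ?_, fun i hi => ?_⟩
        · rcases Finset.mem_insert.1 hi with rfl | hi
          · rw [map_add, hsq, add_comm]
          · rw [map_add, hcy, hv.1 i hi]
        · rw [map_add, hcy, hv.2 i hi, map_neg, neg_add]
      rw [h0, Submodule.mem_bot] at h3
      exact eq_neg_of_add_eq_zero_right h3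
    have h3 : Tv ρ (K l) (RR ρ y P M) := (hQ l).tv_of_comm (hiv P M l hP hM) (hy l) (hy1 l) fun k hk u hu => by
      rw [h1 u hu, h1 _ (hiv P M l hP hM k hk u hu), map_neg]
    rw [eq_bot_iff]
    intro v hv
    rw [Submodule.mem_bot]
    apply two_zero h2
    rw [← h1 v hv]
    exact (h3 _ (hy l) v hv).symm
  have hm : ∀ i, RR ρ y ∅ {i} ≠ ⊥ := by
    intro i h0
    apply hy1 i
    apply hker
    intro v
    have h3 : v - ρ (y i) v ∈ RR ρ y ∅ {i} := by
      refine ⟨fun j hj => absurd hj (Finset.notMem_empty j), fun j hj => ?_⟩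
      rw [Finset.mem_singleton.1 hj, map_sub, hsq]
      abel
    rw [h0, Submodule.mem_bot] at h3
    exact (sub_eq_zero.1 h3).symm
  have hR : ∀ i, RR ρ y (Finset.univ.erase i) {i} ≠ ⊥ := by
    intro i
    have : ∀ P : Finset (Fin 4), i ∉ P → RR ρ y P {i} ≠ ⊥ := by
      intro P
      induction P using Finset.induction_on with
      | empty => exact fun _ => hm i
      | insert l P hl ih =>
        intro hi
        rw [Finset.mem_insert, not_or] at hi
        exact key P {i} l hl (fun h => hi.1 (Finset.mem_singleton.1 h).symm) (ih hi.2)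
    exact this _ (Finset.notMem_erase i _)
  have hM0 : RR ρ y Finset.univ ∅ ≠ ⊥ := by
    have h3 : RR ρ y (Finset.univ.erase 0) ∅ ≠ ⊥ := fun h0 => by
      apply hR 0
      rw [eq_bot_iff, ← h0]
      exact fun v hv => ⟨hv.1, fun j hj => absurd hj (Finset.notMem_empty j)⟩
    have h4 := key (Finset.univ.erase 0) ∅ 0 (Finset.notMem_erase _ _) (Finset.notMem_empty _) h3
    rwa [Finset.insert_erase (Finset.mem_univ _)] at h4
  have hd : ∀ i, 2 ≤ finrank F (RR ρ y (Finset.univ.erase i) {i}) := by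
    intro i
    have h3 : Even (finrank F (RR ρ y (Finset.univ.erase i) {i})) :=
      even_of_perfect h2 (hQ i).perf (hiv (Finset.univ.erase i) ∅ i (Finset.notMem_erase _ _) (Finset.notMem_empty _))
        (hy i) (fun u _ => hsq i u) fun v => by
          rw [mem_RR, mem_RR]
          constructor
          · rintro ⟨h4, h5⟩
            exact ⟨⟨h4, fun j hj => absurd hj (Finset.notMem_empty j)⟩, h5 i (Finset.mem_singleton_self i)⟩
          · rintro ⟨⟨h4, -⟩, h5⟩
            exact ⟨h4, fun j hj => by rw [Finset.mem_singleton.1 hj]; exact h5⟩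
    have h4 : finrank F (RR ρ y (Finset.univ.erase i) {i}) ≠ 0 := fun h0 => hR i (Submodule.finrank_eq_zero.1 h0)
    obtain ⟨c, hc⟩ := h3
    omega
  have hd0 : 1 ≤ finrank F (RR ρ y Finset.univ ∅) :=
    Nat.one_le_iff_ne_zero.2 fun h0 => hM0 (Submodule.finrank_eq_zero.1 h0)
  have hadd : ∀ (A C : Submodule F V) (i : Fin 4), (∀ v ∈ A, ρ (y i) v = v) → (∀ v ∈ C, ρ (y i) v = -v) →
      finrank F A + finrank F C = finrank F (A ⊔ C : Submodule F V) := by
    intro A C i hA hC
    have h3 : A ⊓ C = ⊥ := by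
      rw [eq_bot_iff]
      intro v hv
      rw [Submodule.mem_bot]
      apply two_zero h2
      rw [← hC v hv.2, hA v hv.1]
    have h4 := Submodule.finrank_sup_add_finrank_inf_eq A C
    rw [h3, finrank_bot, add_zero] at h4
    exact h4.symm
  have hfix : ∀ (A C : Submodule F V) (i : Fin 4), (∀ v ∈ A, ρ (y i) v = v) → (∀ v ∈ C, ρ (y i) v = v) →
      ∀ v ∈ A ⊔ C, ρ (y i) v = v := by
    intro A C i hA hC v hv
    obtain ⟨a, ha, c, hc', rfl⟩ := Submodule.mem_sup.1 hv
    rw [map_add, hA a ha, hC c hc']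
  have hRfix : ∀ i j, i ≠ j → ∀ v ∈ RR ρ y (Finset.univ.erase j) {j}, ρ (y i) v = v := fun i j hij v hv =>
    hv.1 i (Finset.mem_erase.2 ⟨hij, Finset.mem_univ _⟩)
  have hRneg : ∀ i, ∀ v ∈ RR ρ y (Finset.univ.erase i) {i}, ρ (y i) v = -v := fun i v hv =>
    hv.2 i (Finset.mem_singleton_self i)
  have h0fix : ∀ i, ∀ v ∈ RR ρ y Finset.univ ∅, ρ (y i) v = v := fun i v hv => hv.1 i (Finset.mem_univ _)
  have f1 := hadd _ (RR ρ y (Finset.univ.erase 0) {0}) 0 (h0fix 0) (hRneg 0)
  have g1 := fun i (hi : i ≠ 0) => hfix _ _ i (h0fix i) (hRfix i 0 hi)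
  have f2 := hadd _ (RR ρ y (Finset.univ.erase 1) {1}) 1 (g1 1 (by decide)) (hRneg 1)
  have g2 := fun i (hi : i ≠ 0) (hi' : i ≠ 1) => hfix _ _ i (g1 i hi) (hRfix i 1 hi')
  have f3 := hadd _ (RR ρ y (Finset.univ.erase 2) {2}) 2 (g2 2 (by decide) (by decide)) (hRneg 2)
  have g3 := fun i (hi : i ≠ 0) (hi' : i ≠ 1) (hi'' : i ≠ 2) => hfix _ _ i (g2 i hi hi') (hRfix i 2 hi'')
  have f4 := hadd _ (RR ρ y (Finset.univ.erase 3) {3}) 3 (g3 3 (by decide) (by decide) (by decide)) (hRneg 3)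
  have hle := Submodule.finrank_le (R := F) (M := V) (RR ρ y Finset.univ ∅ ⊔ RR ρ y (Finset.univ.erase 0) {0} ⊔
    RR ρ y (Finset.univ.erase 1) {1} ⊔ RR ρ y (Finset.univ.erase 2) {2} ⊔ RR ρ y (Finset.univ.erase 3) {3})
  have := hd 0
  have := hd 1
  have := hd 2
  have := hd 3
  omega

/-- joint eigenspaces of two operators -/
def R2 (u v : V →ₗ[F] V) (σ τ : F) : Submodule F V where
  carrier := {w | u w = σ • w ∧ v w = τ • w}
  add_mem' := by
    rintro a b ⟨ha, ha'⟩ ⟨hb, hb'⟩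
    exact ⟨by rw [map_add, ha, hb, smul_add], by rw [map_add, ha', hb', smul_add]⟩
  zero_mem' := ⟨by rw [map_zero, smul_zero], by rw [map_zero, smul_zero]⟩
  smul_mem' := by
    rintro c w ⟨hw, hw'⟩
    exact ⟨by rw [map_smul, hw, smul_comm], by rw [map_smul, hw', smul_comm]⟩

/-- **four components are impossible, second case** -/
theorem no_four_neg [FiniteDimensional F V] (h2 : (2 : F) ≠ 0) (hV : finrank F V ≤ 8) {B : LinearMap.BilinForm F V}
    (hs : ∀ u v, B u v = B v u) (hnd : ∀ u, (∀ v, B u v = 0) → u = 0)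
    (hB : ∀ (g : G) (u v : V), B (ρ g u) (ρ g v) = B u v)
    (hQ : ∀ i, Qs π (K i)) (hc : ∀ i j, i ≠ j → ∀ a ∈ K i, ∀ b ∈ K j, a * b = b * a) (hy : ∀ i, y i ∈ K i)
    (hy1 : ∀ i, π (y i) ≠ 1) (hker : ∀ g, (∀ v, ρ g v = v) → π g = 1)
    (hsq : ∀ i v, ρ (y i) (ρ (y i) v) = -v) : False := by
  have hcy : ∀ i j (v : V), ρ (y i) (ρ (y j) v) = ρ (y j) (ρ (y i) v) := by
    intro i j v
    by_cases hij : i = j
    · rw [hij]
    · exact comm_v hy hc (Ne.symm hij) (hy j) v
  -- the involutions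
  obtain ⟨u, hu⟩ : ∃ u : V →ₗ[F] V, ∀ w, u w = ρ (y 1) (ρ (y 2) w) := ⟨ρ (y 1) ∘ₗ ρ (y 2), fun w => rfl⟩
  obtain ⟨v, hv⟩ : ∃ v : V →ₗ[F] V, ∀ w, v w = ρ (y 2) (ρ (y 3) w) := ⟨ρ (y 2) ∘ₗ ρ (y 3), fun w => rfl⟩
  have huu : ∀ w, u (u w) = w := fun w => by
    rw [hu, hu, hcy 2 1, hsq, hsq, neg_neg]
  have hvv : ∀ w, v (v w) = w := fun w => by
    rw [hv, hv, hcy 3 2, hsq, hsq, neg_neg]
  have huv : ∀ w, u (v w) = v (u w) := fun w => by
    rw [hu, hv, hv, hu, hcy 3 1, hcy 2 1, hcy 3 2]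
  have huB : ∀ a b, B (u a) b = B a (u b) := fun a b => by
    have h3 : B (u a) (u (u b)) = B a (u b) := by
      rw [hu a, hu (u b), hB, hB]
    rwa [huu] at h3
  have hvB : ∀ a b, B (v a) b = B a (v b) := fun a b => by
    have h3 : B (v a) (v (v b)) = B a (v b) := by
      rw [hv a, hv (v b), hB, hB]
    rwa [hvv] at h3
  have huk : ∀ k ∈ K 0, ∀ w, u (ρ k w) = ρ k (u w) := fun k hk w => by
    rw [hu, hu, comm_v hy hc (by decide : (0 : Fin 4) ≠ 2) hk, comm_v hy hc (by decide : (0 : Fin 4) ≠ 1) hk]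
  have hvk : ∀ k ∈ K 0, ∀ w, v (ρ k w) = ρ k (v w) := fun k hk w => by
    rw [hv, hv, comm_v hy hc (by decide : (0 : Fin 4) ≠ 3) hk, comm_v hy hc (by decide : (0 : Fin 4) ≠ 2) hk]
  have huk3 : ∀ k ∈ K 3, ∀ w, u (ρ k w) = ρ k (u w) := fun k hk w => by
    rw [hu, hu, comm_v hy hc (by decide : (3 : Fin 4) ≠ 2) hk, comm_v hy hc (by decide : (3 : Fin 4) ≠ 1) hk]
  -- `-1` acts
  have hno : ∀ (i : Fin 4) (U : Submodule F V), Tv ρ (K i) U → U = ⊥ := fun i U hU => by
    rw [eq_bot_iff]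
    intro w hw
    rw [Submodule.mem_bot]
    apply two_zero h2
    have h3 := hsq i w
    rw [hU _ (hy i) w hw, hU _ (hy i) w hw] at h3
    exact h3
  -- eigenspaces of `u`
  have h1 : ∀ σ : F, σ * σ = 1 → ∃ w, u w = σ • w ∧ w ≠ 0 := by
    intro σ hσ
    by_contra hcon
    push Not at hcon
    have h3 : ∀ w, u w = -(σ • w) := by
      intro w
      have h4 := hcon (w + σ • u w) (by
        rw [map_add, map_smul, huu, smul_add, smul_smul, hσ, one_smul, add_comm])
      have h5 : σ • (w + σ • u w) = 0 := by rw [h4, smul_zero]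
      rw [smul_add, smul_smul, hσ, one_smul] at h5
      exact (neg_eq_of_add_eq_zero_right h5).symm
    have h4 : ∀ w, ρ (y 1) w = σ • ρ (y 2) w := by
      intro w
      have h5 := h3 (ρ (y 2) w)
      rw [hu, hsq, map_neg] at h5
      exact neg_injective h5
    have h5 : Tv ρ (K 1) (⊤ : Submodule F V) := (hQ 1).tv_of_comm (fun _ _ _ _ => trivial) (hy 1) (hy1 1)
      fun k hk w _ => by
        rw [h4, h4, map_smul, comm_v hy hc (by decide : (1 : Fin 4) ≠ 2) hk]
    exact hy1 1 (hker _ fun w => h5 _ (hy 1) w trivial)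
  have h3 : ∀ σ τ : F, σ * σ = 1 → τ * τ = 1 → R2 u v σ τ ≠ ⊥ := by
    intro σ τ hσ hτ h0
    obtain ⟨U, hU⟩ : ∃ U : Submodule F V, ∀ w, w ∈ U ↔ u w = σ • w :=
      ⟨LinearMap.ker (u - σ • LinearMap.id), fun w => by
        rw [LinearMap.mem_ker, LinearMap.sub_apply, LinearMap.smul_apply, LinearMap.id_apply, sub_eq_zero]⟩
    have h4 : ∀ w ∈ U, v w = -(τ • w) := by
      intro w hw
      have h5 : w + τ • v w ∈ R2 u v σ τ := by
        refine ⟨?_, ?_⟩
        · rw [map_add, map_smul, huv, (hU w).1 hw, map_smul, smul_add, smul_comm]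
        · rw [map_add, map_smul, hvv, smul_add, smul_smul, hτ, one_smul, add_comm]
      rw [h0, Submodule.mem_bot] at h5
      have h6 : τ • (w + τ • v w) = 0 := by rw [h5, smul_zero]
      rw [smul_add, smul_smul, hτ, one_smul] at h6
      exact (neg_eq_of_add_eq_zero_right h6).symm
    have hUi : Iv ρ (K 3) U := fun k hk w hw => by
      rw [hU, huk3 k hk, (hU w).1 hw, map_smul]
    have h5 : ∀ w ∈ U, ρ (y 3) w = τ • ρ (y 2) w := by
      intro w hw
      have h6 : ρ (y 2) w ∈ U := by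
        rw [hU, hu, hcy 2 2, hcy 1 2, ← hu, (hU w).1 hw, map_smul]
      have h7 := h4 _ h6
      rw [hv, hcy 2 3, hsq, map_neg] at h7
      exact neg_injective h7
    have h6 : Tv ρ (K 3) U := (hQ 3).tv_of_comm hUi (hy 3) (hy1 3) fun k hk w hw => by
      rw [h5 w hw, h5 _ (hUi k hk w hw), map_smul, comm_v hy hc (by decide : (3 : Fin 4) ≠ 2) hk]
    have h7 := hno 3 U h6
    obtain ⟨w, hw, hw0⟩ := h1 σ hσ
    apply hw0
    have : w ∈ U := (hU w).2 hw
    rwa [h7, Submodule.mem_bot] at this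
  -- one of them is small
  have hdis : ∀ (f : V →ₗ[F] V) (A C : Submodule F V), (∀ w ∈ A, f w = w) → (∀ w ∈ C, f w = -w) →
      finrank F A + finrank F C = finrank F (A ⊔ C : Submodule F V) := by
    intro f A C hA hC
    have h3 : A ⊓ C = ⊥ := by
      rw [eq_bot_iff]
      intro v hv
      rw [Submodule.mem_bot]
      apply two_zero h2
      rw [← hC v hv.2, hA v hv.1]
    have h4 := Submodule.finrank_sup_add_finrank_inf_eq A C
    rw [h3, finrank_bot, add_zero] at h4
    exact h4.symm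
  have hpp : ∀ w ∈ R2 u v 1 1 ⊔ R2 u v 1 (-1), u w = w := by
    intro w hw
    obtain ⟨a, ha, c, hc', rfl⟩ := Submodule.mem_sup.1 hw
    rw [map_add, ha.1, hc'.1, one_smul, one_smul]
  have hmm : ∀ w ∈ R2 u v (-1) 1 ⊔ R2 u v (-1) (-1), u w = -w := by
    intro w hw
    obtain ⟨a, ha, c, hc', rfl⟩ := Submodule.mem_sup.1 hw
    rw [map_add, ha.1, hc'.1, neg_one_smul, neg_one_smul, neg_add]
  have d1 := hdis v (R2 u v 1 1) (R2 u v 1 (-1)) (fun w hw => by rw [hw.2, one_smul])
    (fun w hw => by rw [hw.2, neg_one_smul])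
  have d2 := hdis v (R2 u v (-1) 1) (R2 u v (-1) (-1)) (fun w hw => by rw [hw.2, one_smul])
    (fun w hw => by rw [hw.2, neg_one_smul])
  have d3 := hdis u _ _ hpp hmm
  have hle := Submodule.finrank_le (R := F) (M := V) (R2 u v 1 1 ⊔ R2 u v 1 (-1) ⊔ (R2 u v (-1) 1 ⊔ R2 u v (-1) (-1)))
  have hfin : ∀ σ τ : F, σ * σ = 1 → τ * τ = 1 → 2 < finrank F (R2 u v σ τ) := by
    intro σ τ hσ hτ
    by_contra hcon
    push Not at hcon
    apply h3 σ τ hσ hτ
    apply hno 0
    refine tv_of_two (K := K 0) h2 hs hB (hQ 0).perf ?_ ?_ hcon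
    · intro k hk w hw
      exact ⟨by rw [huk k hk, hw.1, map_smul], by rw [hvk k hk, hw.2, map_smul]⟩
    · intro w hw h0
      apply hnd
      intro t
      -- the projection of `t`
      have h4 : (t + σ • u t) + τ • v (t + σ • u t) ∈ R2 u v σ τ := by
        have h5 : u (t + σ • u t) = σ • (t + σ • u t) := by
          rw [map_add, map_smul, huu, smul_add, smul_smul, hσ, one_smul, add_comm]
        obtain ⟨s, hs'⟩ : ∃ s, s = t + σ • u t := ⟨_, rfl⟩
        rw [← hs'] at h5 ⊢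
        refine ⟨?_, ?_⟩
        · rw [map_add, map_smul, huv, h5, map_smul, smul_add, smul_comm]
        · rw [map_add, map_smul, hvv, smul_add, smul_smul, hτ, one_smul, add_comm]
      have h5 := h0 _ h4
      have hwu : ∀ s, B w (u s) = σ * B w s := fun s => by
        rw [← huB, hw.1, map_smul, LinearMap.smul_apply, smul_eq_mul]
      have hwv : ∀ s, B w (v s) = τ * B w s := fun s => by
        rw [← hvB, hw.2, map_smul, LinearMap.smul_apply, smul_eq_mul]
      rw [map_add, map_smul, hwv, map_add, map_smul, hwu, smul_eq_mul, smul_eq_mul] at h5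
      have h6 : (2 * 2) * B w t = 0 := by
        linear_combination h5 - (B w t + τ * τ * B w t) * (hσ) - 2 * B w t * hτ
      exact (mul_eq_zero.1 h6).resolve_left (mul_ne_zero h2 h2)
  have := hfin 1 1 (one_mul 1) (one_mul 1)
  have := hfin 1 (-1) (one_mul 1) (by ring)
  have := hfin (-1) 1 (by ring) (one_mul 1)
  have := hfin (-1) (-1) (by ring) (by ring)
  omega

end

end Cfsg.Agent.H1.D4
end

-- part: H1/D4/Pair
section
/-!
# S4311, box C1: two components (helper1)

If `K₁`, `K₂` commute and an element `x` with `dim [V, x] ≤ 2` normalises both of them and does not centralise `K₁`, then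
`K₁` is trivial on `[V, K₂]`, or `dim [V, K₂] ≤ 4` and `[V, K₂] ≤ [V, K₁]`.
-/

set_option autoImplicit false

namespace Cfsg.Agent.H1.D4

open Module

variable {F : Type*} [Field F] {V : Type*} [AddCommGroup V] [Module F V] {G : Type*} [Group G] {X : Type*} [Group X]

/-- `[V, K]` -/
def cm (ρ : Representation F G V) (K : Subgroup G) : Submodule F V := Submodule.span F {w | ∃ k ∈ K, ∃ v, w = ρ k v - v}

/-- `[V, g]` -/
def rg (ρ : Representation F G V) (g : G) : Submodule F V := LinearMap.range (ρ g - LinearMap.id)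

variable {ρ : Representation F G V} {π : G →* X}

theorem mem_rg {g : G} {w : V} : w ∈ rg ρ g ↔ ∃ v, ρ g v - v = w := Iff.rfl

theorem cm_mem {K : Subgroup G} {k : G} (hk : k ∈ K) (v : V) : ρ k v - v ∈ cm ρ K :=
  Submodule.subset_span ⟨k, hk, v, rfl⟩

theorem rg_le_cm {K : Subgroup G} {k : G} (hk : k ∈ K) : rg ρ k ≤ cm ρ K := by
  rintro _ ⟨v, rfl⟩
  exact cm_mem hk v

/-- elements permuting commutators -/
theorem cm_map {K L : Subgroup G} {g : G} (h : ∀ k ∈ K, g * k * g⁻¹ ∈ L) {v : V} (hv : v ∈ cm ρ K) : ρ g v ∈ cm ρ L := by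
  induction hv using Submodule.span_induction with
  | mem w hw =>
    obtain ⟨k, hk, u, rfl⟩ := hw
    have h1 : ρ g (ρ k u - u) = ρ (g * k * g⁻¹) (ρ g u) - ρ g u := by
      rw [map_sub, ← rho_mul, ← rho_mul]
      congr 2
      congr 1
      group
    rw [h1]
    exact cm_mem (h k hk) _
  | zero => rw [map_zero]; exact Submodule.zero_mem _
  | add a b _ _ ha hb => rw [map_add]; exact Submodule.add_mem _ ha hb
  | smul c a _ ha => rw [map_smul]; exact Submodule.smul_mem _ _ ha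

section form

variable {B : LinearMap.BilinForm F V}

/-- the fixed vectors are those orthogonal to the commutator -/
theorem fix_iff (hnd : ∀ u, (∀ v, B u v = 0) → u = 0) (hB : ∀ (g : G) (u v : V), B (ρ g u) (ρ g v) = B u v) {g : G}
    {v : V} : ρ g v = v ↔ ∀ w, B v (ρ g w - w) = 0 := by
  constructor
  · intro h w
    rw [map_sub, sub_eq_zero]
    nth_rewrite 1 [← h]
    exact hB g v w
  · intro h
    have h1 : ρ g⁻¹ v - v = 0 := by
      apply hnd
      intro w
      have h3 := h w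
      rw [map_sub, sub_eq_zero] at h3
      rw [map_sub, LinearMap.sub_apply, sub_eq_zero, ← h3]
      have h4 := hB g (ρ g⁻¹ v) w
      rw [rho_inv] at h4
      exact h4.symm
    have h3 := rho_inv (ρ := ρ) g v
    rw [sub_eq_zero.1 h1] at h3
    exact h3

theorem orth_cm (hnd : ∀ u, (∀ v, B u v = 0) → u = 0) (hB : ∀ (g : G) (u v : V), B (ρ g u) (ρ g v) = B u v)
    {K : Subgroup G} {v : V} (h : ∀ k ∈ K, ρ k v = v) {u : V} (hu : u ∈ cm ρ K) : B v u = 0 := by
  induction hu using Submodule.span_induction with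
  | mem w hw =>
    obtain ⟨k, hk, u, rfl⟩ := hw
    exact (fix_iff hnd hB).1 (h k hk) u
  | zero => rw [map_zero]
  | add a b _ _ ha hb => rw [map_add, ha, hb, add_zero]
  | smul c a _ ha => rw [map_smul, ha, smul_zero]

/-- `[V, g]` is nondegenerate if `g` is semisimple -/
theorem nd_rg (hnd : ∀ u, (∀ v, B u v = 0) → u = 0) (hB : ∀ (g : G) (u v : V), B (ρ g u) (ρ g v) = B u v) {g : G}
    (hss : ∀ v, ρ g (ρ g v - v) = ρ g v - v → ρ g v = v) (u : V) (hu : u ∈ rg ρ g) (h : ∀ v ∈ rg ρ g, B u v = 0) :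
    u = 0 := by
  obtain ⟨w, rfl⟩ := hu
  have h1 : ρ g (ρ g w - w) = ρ g w - w := (fix_iff hnd hB).2 fun v => h _ ⟨v, rfl⟩
  have h3 := hss w h1
  change ρ g w - w = 0
  rw [h3, sub_self]

end form

/-- **the argument for two components** -/
theorem pair_aux [FiniteDimensional F V] (h2 : (2 : F) ≠ 0) {B : LinearMap.BilinForm F V}
    (hs : ∀ u v, B u v = B v u) (hnd : ∀ u, (∀ v, B u v = 0) → u = 0)
    (hB : ∀ (g : G) (u v : V), B (ρ g u) (ρ g v) = B u v) (hcen : ∀ z, π z = 1 → ∀ g, z * g = g * z)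
    {K₁ K₂ : Subgroup G} (hQ₁ : Qs π K₁) (hQ₂ : Qs π K₂) (hc : ∀ a ∈ K₁, ∀ b ∈ K₂, a * b = b * a) {x a : G}
    (hx₁ : ∀ k ∈ K₁, x * k * x⁻¹ ∈ K₁) (hx₂ : ∀ k ∈ K₂, x * k * x⁻¹ ∈ K₂) (hd : finrank F (rg ρ x) ≤ 2)
    (hssx : ∀ v, ρ x (ρ x v - v) = ρ x v - v → ρ x v = v)
    (hss : ∀ k ∈ K₁, ∀ v, ρ k (ρ k v - v) = ρ k v - v → ρ k v = v) (ha : a ∈ K₁)
    (hb1 : π (x * a * x⁻¹ * a⁻¹) ≠ 1) :
    (∀ k ∈ K₁, ∀ v ∈ cm ρ K₂, ρ k v = v) ∨ (finrank F (cm ρ K₂) ≤ 4 ∧ cm ρ K₂ ≤ cm ρ K₁) := by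
  obtain ⟨b, hb⟩ : ∃ b, b = x * a * x⁻¹ * a⁻¹ := ⟨_, rfl⟩
  rw [← hb] at hb1
  have hbK : b ∈ K₁ := by rw [hb]; exact K₁.mul_mem (hx₁ a ha) (K₁.inv_mem ha)
  have hcρ : ∀ k ∈ K₁, ∀ l ∈ K₂, ∀ v, ρ l (ρ k v) = ρ k (ρ l v) := fun k hk l hl v => by
    rw [← rho_mul, ← rho_mul, hc k hk l hl]
  -- the two subspaces
  obtain ⟨Cb, hCb⟩ : ∃ C : Submodule F V, ∀ v, v ∈ C ↔ ρ b v = v :=
    ⟨LinearMap.ker (ρ b - LinearMap.id), fun v => by
      rw [LinearMap.mem_ker, LinearMap.sub_apply, LinearMap.id_apply, sub_eq_zero]⟩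
  obtain ⟨aW, haW⟩ : ∃ A : Submodule F V, A = (rg ρ x).map (ρ a) := ⟨_, rfl⟩
  have hiR : Iv ρ K₂ (rg ρ b) := by
    rintro k hk _ ⟨v, rfl⟩
    exact ⟨ρ k v, by
      change ρ b (ρ k v) - ρ k v = ρ k (ρ b v - v)
      rw [map_sub, hcρ b hbK k hk]⟩
  have hiC : Iv ρ K₂ Cb := fun k hk v hv => by
    rw [hCb] at hv ⊢
    rw [← hcρ b hbK k hk, hv]
  have hxinv : ∀ v, ρ x⁻¹ v - v ∈ rg ρ x := fun v => by
    refine ⟨-(ρ x⁻¹ v), ?_⟩
    change ρ x (-(ρ x⁻¹ v)) - -(ρ x⁻¹ v) = _
    rw [map_neg, rho_inv]; abel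
  have hyv : ∀ v, ρ (a * x⁻¹ * a⁻¹) v - v ∈ aW := fun v => by
    rw [haW]
    refine ⟨_, hxinv (ρ a⁻¹ v), ?_⟩
    rw [map_sub, rho_inv, ← rho_mul, ← rho_mul, mul_assoc]
  have hbxy : b = x * (a * x⁻¹ * a⁻¹) := by rw [hb]; group
  have hRle : rg ρ b ≤ rg ρ x ⊔ aW := by
    rintro _ ⟨v, rfl⟩
    change ρ b v - v ∈ _
    have h3 : ρ b v - v = (ρ x (ρ (a * x⁻¹ * a⁻¹) v) - ρ (a * x⁻¹ * a⁻¹) v) + (ρ (a * x⁻¹ * a⁻¹) v - v) := by
      rw [hbxy, rho_mul]; abel
    rw [h3]
    exact Submodule.add_mem_sup ⟨_, rfl⟩ (hyv v)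
  have hdaW : finrank F aW ≤ 2 := by
    rw [haW]
    exact (Submodule.finrank_map_le _ _).trans hd
  have hd4 : finrank F (rg ρ b) ≤ 4 := by
    have h3 := Submodule.finrank_mono hRle
    have h4 := Submodule.finrank_add_le_finrank_add_finrank (rg ρ x) aW
    omega
  -- trivial on one of them
  have claimA : Tv ρ K₂ (rg ρ b) ∨ Tv ρ K₂ Cb := by
    by_cases hd2 : finrank F (rg ρ b) ≤ 2
    · exact Or.inl (tv_of_two h2 hs hB hQ₂.perf hiR (nd_rg hnd hB (hss b hbK)) hd2)
    have hCx : ∀ v ∈ Cb, ρ x v = v := by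
      by_cases hWW : rg ρ x ⊓ aW = ⊥
      · intro v hv
        rw [hCb, hbxy, rho_mul] at hv
        have h3 : ρ (a * x⁻¹ * a⁻¹) v = ρ x⁻¹ v := by
          have h4 := congrArg (ρ x⁻¹) hv
          rwa [inv_rho] at h4
        have h4 : ρ x⁻¹ v - v ∈ rg ρ x ⊓ aW := ⟨hxinv v, by rw [← h3]; exact hyv v⟩
        rw [hWW, Submodule.mem_bot] at h4
        have h5 := rho_inv (ρ := ρ) x v
        rw [sub_eq_zero.1 h4] at h5
        exact h5
      · have h3 := Submodule.finrank_sup_add_finrank_inf_eq (rg ρ x) aW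
        have h4 : finrank F (rg ρ x ⊓ aW : Submodule F V) ≠ 0 := fun h0 => hWW (Submodule.finrank_eq_zero.1 h0)
        have h5 : rg ρ b = rg ρ x ⊔ aW := Submodule.eq_of_le_of_finrank_le hRle (by omega)
        intro v hv
        rw [hCb] at hv
        refine (fix_iff hnd hB).2 fun w => ?_
        have h6 : ρ x w - w ∈ rg ρ b := by
          rw [h5]
          exact Submodule.mem_sup_left ⟨w, rfl⟩
        obtain ⟨w', hw'⟩ := h6
        have h7 := (fix_iff hnd hB).1 hv w'
        change ρ b w' - w' = _ at hw'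
        rw [hw'] at h7
        exact h7
    by_cases hcx : ∃ k ∈ K₂, π (x * k * x⁻¹ * k⁻¹) ≠ 1
    · obtain ⟨k, hk, hne⟩ := hcx
      right
      refine hQ₂.tv_of_one hiC (K₂.mul_mem (hx₂ k hk) (K₂.inv_mem hk)) hne fun v hv => ?_
      have h3 := hiC _ (K₂.inv_mem hk) v hv
      have h4 : ρ x⁻¹ (ρ k⁻¹ v) = ρ k⁻¹ v := by
        have h5 := inv_rho (ρ := ρ) x (ρ k⁻¹ v)
        rwa [hCx _ h3] at h5
      rw [rho_mul, rho_mul, rho_mul, h4, rho_inv, hCx v hv]
    · push Not at hcx
      left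
      -- `x` centralises `K₂`
      have hxk : ∀ k ∈ K₂, x * k = k * x := by
        let f : K₂ →* G :=
          { toFun := fun k => x * k * x⁻¹ * (k : G)⁻¹
            map_one' := by simp
            map_mul' := fun k l => by
              have h3 := hcen _ (hcx l l.2)
              calc x * ((k * l : K₂) : G) * x⁻¹ * ((k * l : K₂) : G)⁻¹ =
                  x * k * x⁻¹ * ((x * l * x⁻¹ * (l : G)⁻¹) * (k : G)⁻¹) := by
                    rw [Subgroup.coe_mul]; group
                _ = _ := by rw [h3]; group }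
        have h3 := perfect_hom hQ₂.perf f (fun k l => hcen _ (hcx k k.2) _)
        intro k hk
        have h4 : x * k * x⁻¹ * k⁻¹ = 1 := h3 ⟨k, hk⟩
        have h5 : x * k = (x * k * x⁻¹ * k⁻¹) * (k * x) := by group
        rw [h5, h4, one_mul]
      have hiW : Iv ρ K₂ (rg ρ x) := by
        rintro k hk _ ⟨v, rfl⟩
        refine ⟨ρ k v, ?_⟩
        change ρ x (ρ k v) - ρ k v = ρ k (ρ x v - v)
        rw [map_sub, ← rho_mul, ← rho_mul, hxk k hk]
      have hTW : Tv ρ K₂ (rg ρ x) := tv_of_two h2 hs hB hQ₂.perf hiW (nd_rg hnd hB hssx) hd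
      intro k hk v hv
      obtain ⟨p, hp, q, hq, rfl⟩ := Submodule.mem_sup.1 (hRle hv)
      rw [haW] at hq
      obtain ⟨w, hw, rfl⟩ := hq
      rw [map_add, hTW k hk p hp, hcρ a ha k hk, hTW k hk w hw]
  rcases claimA with hA | hA
  · left
    have hi : Iv ρ K₁ (cm ρ K₂) := fun k hk v hv => cm_map (fun l hl => by
      rw [hc k hk l hl, mul_inv_cancel_right]; exact hl) hv
    refine hQ₁.tv_of_one hi hbK hb1 fun v hv => ?_
    induction hv using Submodule.span_induction with
    | mem w hw =>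
      obtain ⟨k, hk, u, rfl⟩ := hw
      have h3 := hA k hk _ ⟨u, rfl⟩
      change ρ k (ρ b u - u) = ρ b u - u at h3
      rw [map_sub] at h3
      rw [map_sub, ← hcρ b hbK k hk]
      have h4 : ρ k (ρ b u) = ρ b u - u + ρ k u := by rw [← h3]; abel
      rw [h4]; abel
    | zero => rw [map_zero]
    | add a b _ _ ha hb => rw [map_add, ha, hb]
    | smul c a _ ha => rw [map_smul, ha]
  · right
    have htop : Cb ⊔ rg ρ b = ⊤ := by
      apply Submodule.eq_top_of_disjoint
      · have h3 := LinearMap.finrank_range_add_finrank_ker (ρ b - LinearMap.id)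
        have h4 : Cb = LinearMap.ker (ρ b - LinearMap.id) := by
          ext v
          rw [hCb, LinearMap.mem_ker, LinearMap.sub_apply, LinearMap.id_apply, sub_eq_zero]
        rw [h4, ← h3, add_comm]
        rfl
      · rw [Submodule.disjoint_def]
        rintro v hv ⟨w, rfl⟩
        rw [hCb] at hv
        have h3 : ρ b (ρ b w - w) = ρ b w - w := hv
        have h4 := hss b hbK w h3
        change ρ b w - w = 0
        rw [h4, sub_self]
    have hle : cm ρ K₂ ≤ rg ρ b := by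
      rw [cm, Submodule.span_le]
      rintro _ ⟨k, hk, v, rfl⟩
      have hv : v ∈ Cb ⊔ rg ρ b := by rw [htop]; trivial
      obtain ⟨p, hp, q, hq, rfl⟩ := Submodule.mem_sup.1 hv
      have h3 : ρ k (p + q) - (p + q) = ρ k q - q := by rw [map_add, hA k hk p hp]; abel
      rw [h3]
      exact Submodule.sub_mem _ (hiR k hk q hq) hq
    exact ⟨(Submodule.finrank_mono hle).trans hd4, hle.trans (rg_le_cm hbK)⟩

/-- **two components**: `V` is the orthogonal sum of the two commutator spaces of dimension `4` -/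
theorem pair_final [FiniteDimensional F V] (h2 : (2 : F) ≠ 0) (hV : finrank F V = 8) {B : LinearMap.BilinForm F V}
    (hs : ∀ u v, B u v = B v u) (hnd : ∀ u, (∀ v, B u v = 0) → u = 0)
    (hB : ∀ (g : G) (u v : V), B (ρ g u) (ρ g v) = B u v) (hcen : ∀ z, π z = 1 → ∀ g, z * g = g * z)
    {K₁ K₂ : Subgroup G} (hQ₁ : Qs π K₁) (hQ₂ : Qs π K₂) (hc : ∀ a ∈ K₁, ∀ b ∈ K₂, a * b = b * a) {x a g : G}
    (hx₁ : ∀ k ∈ K₁, x * k * x⁻¹ ∈ K₁) (hx₂ : ∀ k ∈ K₂, x * k * x⁻¹ ∈ K₂) (hd : finrank F (rg ρ x) ≤ 2)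
    (hssx : ∀ v, ρ x (ρ x v - v) = ρ x v - v → ρ x v = v)
    (hss : ∀ k ∈ K₁, ∀ v, ρ k (ρ k v - v) = ρ k v - v → ρ k v = v) (ha : a ∈ K₁)
    (hb1 : π (x * a * x⁻¹ * a⁻¹) ≠ 1) (hg : ∀ k ∈ K₁, g * k * g⁻¹ ∈ K₂) (hg' : ∀ k ∈ K₂, g⁻¹ * k * g ∈ K₁)
    (htop : cm ρ K₁ ⊔ cm ρ K₂ = ⊤) :
    finrank F (cm ρ K₁) = 4 ∧ finrank F (cm ρ K₂) = 4 ∧ cm ρ K₁ ⊓ cm ρ K₂ = ⊥ ∧
      ∀ u ∈ cm ρ K₁, ∀ v ∈ cm ρ K₂, B u v = 0 := by
  have hm : cm ρ K₂ = (cm ρ K₁).map (ρ g) := by
    apply le_antisymm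
    · intro v hv
      refine ⟨ρ g⁻¹ v, cm_map (fun k hk => ?_) hv, rho_inv g v⟩
      rw [inv_inv]; exact hg' k hk
    · rintro _ ⟨v, hv, rfl⟩
      exact cm_map hg hv
  have hinj : Function.Injective (ρ g) := fun u v h => by
    rw [← inv_rho (ρ := ρ) g u, h, inv_rho]
  have hdd : finrank F (cm ρ K₂) = finrank F (cm ρ K₁) := by
    rw [hm]
    exact (Submodule.equivMapOfInjective (ρ g) hinj (cm ρ K₁)).finrank_eq.symm
  have h3 := Submodule.finrank_sup_add_finrank_inf_eq (cm ρ K₁) (cm ρ K₂)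
  rw [htop, finrank_top, hV] at h3
  rcases pair_aux h2 hs hnd hB hcen hQ₁ hQ₂ hc hx₁ hx₂ hd hssx hss ha hb1 with h | ⟨h4, h5⟩
  · have horth : ∀ u ∈ cm ρ K₁, ∀ v ∈ cm ρ K₂, B u v = 0 := fun u hu v hv => by
      rw [hs]
      exact orth_cm hnd hB (fun k hk => h k hk v hv) hu
    have hinf : cm ρ K₁ ⊓ cm ρ K₂ = ⊥ := by
      rw [eq_bot_iff]
      intro v hv
      rw [Submodule.mem_bot]
      apply hnd
      intro w
      have hw : w ∈ cm ρ K₁ ⊔ cm ρ K₂ := by rw [htop]; trivial
      obtain ⟨p, hp, q, hq, rfl⟩ := Submodule.mem_sup.1 hw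
      rw [map_add, horth v hv.1 q hq, hs v p, horth p hp v hv.2, add_zero]
    rw [hinf, finrank_bot, add_zero, hdd] at h3
    exact ⟨by omega, by omega, hinf, horth⟩
  · exfalso
    rw [sup_eq_left.2 h5] at htop
    rw [htop, finrank_top, hV] at hdd
    omega

end Cfsg.Agent.H1.D4
end

-- part: H1/D4/Cx
section
/-!
# S4311, box C1: at most two components (helper1)
-/

set_option autoImplicit false
set_option linter.unusedSectionVars false

namespace Cfsg.Agent.H1.D4

open Module Subgroup Cfsg.Agent.Lib.MinNormal Cfsg.Agent.Lib.MinNormalNonabelian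

variable {F : Type*} [Field F] {V : Type*} [AddCommGroup V] [Module F V] {G : Type*} [Group G] {X : Type*} [Group X]

/-- the standing hypotheses -/
structure Cx (ρ : Representation F G V) (B : LinearMap.BilinForm F V) (f : G →* X) : Prop where
  h2 : (2 : F) ≠ 0
  dim : finrank F V = 8
  symm : ∀ u v, B u v = B v u
  nd : ∀ u, (∀ v, B u v = 0) → u = 0
  inv : ∀ (g : G) (u v : V), B (ρ g u) (ρ g v) = B u v
  surj : Function.Surjective f
  ker : ∀ g, f g = 1 ↔ (∀ v, ρ g v = v) ∨ ∀ v, ρ g v = -v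
  inj : ∀ g, (∀ v, ρ g v = v) → g = 1
  char : (Nat.card G : F) ≠ 0

variable {ρ : Representation F G V} {B : LinearMap.BilinForm F V} {f : G →* X}

theorem Cx.eq (h : Cx ρ B f) {a b : G} (hab : ∀ v, ρ a v = ρ b v) : a = b := by
  have h1 : b⁻¹ * a = 1 := h.inj _ fun v => by rw [rho_mul, hab, inv_rho]
  exact (inv_mul_eq_one.1 h1).symm

theorem Cx.hcen (h : Cx ρ B f) (z : G) (hz : f z = 1) (g : G) : z * g = g * z := by
  refine h.eq fun v => ?_
  rw [rho_mul, rho_mul]
  rcases (h.ker z).1 hz with h1 | h1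
  · rw [h1, h1]
  · rw [h1, h1, map_neg]

theorem Cx.fd (h : Cx ρ B f) : FiniteDimensional F V := by
  apply FiniteDimensional.of_finrank_pos
  rw [h.dim]
  norm_num

theorem Cx.ss [Finite G] (h : Cx ρ B f) (g : G) (v : V) (hg : ρ g (ρ g v - v) = ρ g v - v) : ρ g v = v := by
  obtain ⟨u, hu⟩ : ∃ u, u = ρ g v - v := ⟨_, rfl⟩
  rw [← hu] at hg
  have h1 : ρ g v = v + u := by rw [hu, add_sub_cancel]
  have h3 : ∀ n : ℕ, ρ (g ^ n) v = v + (n : F) • u := by
    intro n
    induction n with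
    | zero => rw [pow_zero, map_one, Module.End.one_apply, Nat.cast_zero, zero_smul, add_zero]
    | succ n ih =>
      rw [pow_succ', rho_mul, ih, map_add, map_smul, hg, h1, Nat.cast_succ, add_smul, one_smul, add_assoc, add_comm u]
  have h4 := h3 (Nat.card G)
  rw [pow_card_eq_one', map_one, Module.End.one_apply] at h4
  have h5 : (Nat.card G : F) • u = 0 := by
    have := h4.symm
    rwa [add_eq_left] at this
  have h6 : u = 0 := (smul_eq_zero.1 h5).resolve_left h.char
  rw [h1, h6, add_zero]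

theorem Cx.qs (h : Cx ρ B f) [Finite X] {N : Subgroup X} {s : Set (Subgroup X)} (hS : Soc N s) {T : Subgroup X}
    (hT : T ∈ s) : Qs f (kt f T) := by
  have := hS.simple T hT
  exact qs_kt h.surj h.hcen (hS.perf T hT) (fun S h1 h2 h3 => simple_le h1 h2 h3) (hS.cen T hT)

theorem Cx.le_two [Finite X] (h : Cx ρ B f) {N : Subgroup X} {s : Set (Subgroup X)} (hS : Soc N s)
    (h4 : 4 ≤ s.ncard) : False := by
  classical
  have := h.fd
  have hf2 : Fact (Nat.Prime 2) := ⟨Nat.prime_two⟩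
  have hsf : Finite s := Subtype.finite
  have := Fintype.ofFinite s
  have hc4 : Fintype.card (Fin 4) ≤ Fintype.card s := by
    rw [Fintype.card_fin, ← Nat.card_eq_fintype_card]
    exact h4
  obtain ⟨e⟩ := Function.Embedding.nonempty_of_card_le hc4
  obtain ⟨T, hT⟩ : ∃ T : Fin 4 → Subgroup X, ∀ i, T i = (e i).1 := ⟨fun i => (e i).1, fun i => rfl⟩
  have hTs : ∀ i, T i ∈ s := fun i => by rw [hT]; exact (e i).2
  have hTi : ∀ i j, i ≠ j → T i ≠ T j := fun i j hij h => hij (e.injective (Subtype.ext (by rw [← hT, ← hT]; exact h)))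
  obtain ⟨t, ht⟩ := exists_prime_orderOf_dvd_card' (G := T 0) 2 (hS.two _ (hTs 0))
  have htt : (t : X) * t = 1 := by
    have h1 : t ^ 2 = 1 := by rw [← ht]; exact pow_orderOf_eq_one t
    rw [pow_two] at h1
    exact congrArg Subtype.val h1
  have ht1 : (t : X) ≠ 1 := by
    intro h
    have h1 : t = 1 := Subtype.ext h
    rw [h1, orderOf_one] at ht
    norm_num at ht
  obtain ⟨k, hk, hkt⟩ := lift_of h.surj (hS.perf _ (hTs 0)) t.2
  have hg : ∀ i, ∃ g : G, T i = (T 0).map (MulAut.conj (f g)).toMonoidHom := by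
    intro i
    obtain ⟨x, hx⟩ := hS.conj _ (hTs 0) _ (hTs i)
    obtain ⟨g, rfl⟩ := h.surj x
    exact ⟨g, hx⟩
  choose g hg using hg
  have hy : ∀ i, g i * k * (g i)⁻¹ ∈ kt f (T i) := fun i =>
    kt_conj (fun s hs => by rw [hg i]; exact ⟨s, hs, rfl⟩) k hk
  have hy1 : ∀ i, f (g i * k * (g i)⁻¹) ≠ 1 := by
    intro i h1
    rw [map_mul, map_mul, map_inv, hkt, mul_inv_eq_one, mul_eq_left] at h1
    exact ht1 h1
  have hcc : ∀ i j, i ≠ j → ∀ a ∈ kt f (T i), ∀ b ∈ kt f (T j), a * b = b * a := fun i j hij =>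
    kt_comm h.hcen (hS.comm _ (hTs i) _ (hTs j) (hTi i j hij))
  have hkk : f (k * k) = 1 := by rw [map_mul, hkt, htt]
  have hsq : ∀ i v, ρ (g i * k * (g i)⁻¹) (ρ (g i * k * (g i)⁻¹) v) = ρ (g i) (ρ (k * k) (ρ (g i)⁻¹ v)) := by
    intro i v
    rw [← rho_mul, ← rho_mul, ← rho_mul]
    congr 2
    group
  rcases (h.ker _).1 hkk with h1 | h1
  · refine no_four_pos h.h2 h.dim.le (fun i => h.qs hS (hTs i)) hcc hy hy1 (fun g hg => (h.ker g).2 (Or.inl hg)) ?_
    intro i v
    rw [hsq, h1, rho_inv]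
  · refine no_four_neg h.h2 h.dim.le h.symm h.nd h.inv (fun i => h.qs hS (hTs i)) hcc hy hy1
      (fun g hg => (h.ker g).2 (Or.inl hg)) ?_
    intro i v
    rw [hsq, h1, map_neg, rho_inv]

end Cfsg.Agent.H1.D4
end

-- part: H1/D4/CaseTwo
section
/-!
# S4311, box C1: two components are impossible (helper1)
-/

set_option autoImplicit false
set_option linter.unusedSectionVars false

namespace Cfsg.Agent.H1.D4

open Module Subgroup Cfsg.Agent.Lib.MinNormal Cfsg.Agent.Lib.MinNormalNonabelian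

section perm

variable {X : Type*} [Group X] [Finite X] {N T₁ T₂ : Subgroup X}

theorem map_inj {x : X} {S T : Subgroup X} (h : S.map (MulAut.conj x).toMonoidHom = T.map (MulAut.conj x).toMonoidHom) :
    S = T := by
  have h1 := congrArg (fun U : Subgroup X => U.map (MulAut.conj x⁻¹).toMonoidHom) h
  simp only [map_conj_map_conj, inv_mul_cancel, map_conj_one] at h1
  exact h1

theorem perm2 (hS : Soc N {T₁, T₂}) (hne : T₁ ≠ T₂) (x : X) :
    (T₁.map (MulAut.conj x).toMonoidHom = T₁ ∧ T₂.map (MulAut.conj x).toMonoidHom = T₂) ∨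
    (T₁.map (MulAut.conj x).toMonoidHom = T₂ ∧ T₂.map (MulAut.conj x).toMonoidHom = T₁) := by
  have h1 := hS.map T₁ (Or.inl rfl) x
  have h2 := hS.map T₂ (Or.inr rfl) x
  rcases h1 with h1 | h1 <;> rcases h2 with h2 | h2
  · exact absurd (map_inj (h1.trans h2.symm)) hne
  · exact Or.inl ⟨h1, h2⟩
  · exact Or.inr ⟨h1, h2⟩
  · have h3 : T₂.map (MulAut.conj x).toMonoidHom = T₂ := h2
    have h4 : T₁.map (MulAut.conj x).toMonoidHom = T₂ := h1
    exact absurd (map_inj (h4.trans h3.symm)) hne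

/-- an element of order three fixes both -/
theorem perm3 (hS : Soc N {T₁, T₂}) (hne : T₁ ≠ T₂) {x : X} (hx : x ^ 3 = 1) :
    T₁.map (MulAut.conj x).toMonoidHom = T₁ ∧ T₂.map (MulAut.conj x).toMonoidHom = T₂ := by
  rcases perm2 hS hne x with h | ⟨h1, h2⟩
  · exact h
  · exfalso
    have h3 : T₁.map (MulAut.conj (x ^ 3)).toMonoidHom = T₂ := by
      rw [pow_succ, pow_two, ← map_conj_map_conj, h1, ← map_conj_map_conj, h2, h1]
    rw [hx, map_conj_one] at h3
    exact hne h3

end perm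

variable {F : Type*} [Field F] {V : Type*} [AddCommGroup V] [Module F V] {G : Type*} [Group G] {X : Type*} [Group X]
  [Finite X] {ρ : Representation F G V} {B : LinearMap.BilinForm F V} {f : G →* X} {N T₁ T₂ : Subgroup X}

theorem kt_perm (hS : Soc N {T₁, T₂}) (hne : T₁ ≠ T₂) (g : G) :
    ((∀ k ∈ kt f T₁, g * k * g⁻¹ ∈ kt f T₁) ∧ ∀ k ∈ kt f T₂, g * k * g⁻¹ ∈ kt f T₂) ∨
    ((∀ k ∈ kt f T₁, g * k * g⁻¹ ∈ kt f T₂) ∧ ∀ k ∈ kt f T₂, g * k * g⁻¹ ∈ kt f T₁) := by
  have key : ∀ {S T : Subgroup X}, S.map (MulAut.conj (f g)).toMonoidHom = T → ∀ k ∈ kt f S, g * k * g⁻¹ ∈ kt f T :=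
    fun h => kt_conj fun s hs => by rw [← h]; exact ⟨s, hs, rfl⟩
  rcases perm2 hS hne (f g) with ⟨h1, h2⟩ | ⟨h1, h2⟩
  · exact Or.inl ⟨key h1, key h2⟩
  · exact Or.inr ⟨key h1, key h2⟩

/-- the hypotheses about the frame -/
structure Fr (ρ : Representation F G V) (B : LinearMap.BilinForm F V) {J : Type*} [DecidableEq J] (e : J → V) :
    Prop where
  form : ∀ i j, B (e i) (e j) = if i = j then 2 else 0
  sp : ∀ v, (∀ j, B (e j) v = 0) → v = 0
  t : ∀ j k, j ≠ k → ∃ t : G, ∀ v, ρ t v = v - B (e j) v • e j - B (e k) v • e k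
  tr : ∀ i j, ∃ g : G, ρ g (e i) = e j
  third : ∀ j k : J, ∃ l, l ≠ j ∧ l ≠ k

section frame

variable {J : Type*} [Fintype J] [DecidableEq J] {e : J → V}

/-- subspaces invariant under the sign changes -/
theorem Fr.mem (h : Fr ρ B e) (h2 : (2 : F) ≠ 0) {M : Submodule F V}
    (hM : ∀ j k, j ≠ k → ∀ v ∈ M, B (e j) v • e j + B (e k) v • e k ∈ M) {v : V} (hv : v ∈ M) (j : J) :
    B (e j) v • e j ∈ M := by
  obtain ⟨k, hk, -⟩ := h.third j j
  obtain ⟨l, hl, hl'⟩ := h.third j k
  have h1 := hM j k hk.symm v hv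
  have h3 := hM j l hl.symm _ h1
  rw [map_add, map_add, map_smul, map_smul, map_smul, map_smul, h.form, h.form, h.form, h.form, if_pos rfl,
    if_neg hk.symm, if_neg hl, if_neg hl'] at h3
  have h4 := M.smul_mem (2 : F)⁻¹ h3
  simp only [smul_eq_mul, mul_zero, add_zero, zero_smul] at h4
  rw [smul_smul, mul_comm _ (2 : F), inv_mul_cancel_left₀ h2] at h4
  exact h4

theorem Fr.exists_mem (h : Fr ρ B e) (h2 : (2 : F) ≠ 0) {M : Submodule F V}
    (hM : ∀ j k, j ≠ k → ∀ v ∈ M, B (e j) v • e j + B (e k) v • e k ∈ M) (h0 : M ≠ ⊥) : ∃ j, e j ∈ M := by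
  obtain ⟨v, hv, hv0⟩ := Submodule.exists_mem_ne_zero_of_ne_bot h0
  by_contra hcon
  push Not at hcon
  apply hv0
  refine h.sp v fun j => ?_
  by_contra hj
  apply hcon j
  have h1 := M.smul_mem (B (e j) v)⁻¹ (h.mem h2 hM hv j)
  rwa [smul_smul, inv_mul_cancel₀ hj, one_smul] at h1

theorem Fr.expand (h : Fr ρ B e) (h2 : (2 : F) ≠ 0) (v : V) : v = ∑ j, ((2 : F)⁻¹ * B (e j) v) • e j := by
  rw [← sub_eq_zero]
  refine h.sp _ fun i => ?_
  rw [map_sub, map_sum]
  simp only [map_smul, h.form, smul_eq_mul]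
  rw [Finset.sum_eq_single i]
  · rw [if_pos rfl, mul_comm, mul_inv_cancel_left₀ h2, sub_self]
  · intro j _ hj
    rw [if_neg hj.symm, mul_zero]
  · intro hi
    exact absurd (Finset.mem_univ i) hi

theorem Fr.irr (h : Fr ρ B e) (h2 : (2 : F) ≠ 0) {M : Submodule F V} (hM : ∀ g : G, ∀ v ∈ M, ρ g v ∈ M) (h0 : M ≠ ⊥) :
    M = ⊤ := by
  obtain ⟨i, hi⟩ := h.exists_mem h2 (fun j k hjk v hv => by
    obtain ⟨t, ht⟩ := h.t j k hjk
    have h1 := M.sub_mem hv (hM t v hv)
    rw [ht] at h1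
    have h3 : v - (v - B (e j) v • e j - B (e k) v • e k) = B (e j) v • e j + B (e k) v • e k := by abel
    rwa [h3] at h1) h0
  rw [eq_top_iff]
  intro v _
  rw [h.expand h2 v]
  refine Submodule.sum_mem _ fun j _ => M.smul_mem _ ?_
  obtain ⟨g, hg⟩ := h.tr i j
  rw [← hg]
  exact hM g _ hi

end frame

/-- members of the socle and commuting elements -/
theorem Soc.comm_one (hS : Soc N {T₁, T₂}) {x : X} (h1 : ∀ t ∈ T₁, x * t = t * x) (h2 : ∀ t ∈ T₂, x * t = t * x) :
    x = 1 := by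
  apply hS.cent
  have h3 : N ≤ Subgroup.centralizer {x} := by
    rw [← hS.sup]
    refine sSup_le ?_
    rintro U (rfl | hU) t ht
    · rw [Subgroup.mem_centralizer_iff]
      intro y hy
      rw [Set.mem_singleton_iff.1 hy]
      exact h1 t ht
    · rw [Subgroup.mem_centralizer_iff]
      intro y hy
      rw [Set.mem_singleton_iff.1 hy]
      rw [Set.mem_singleton_iff.1 hU] at ht
      exact h2 t ht
  intro n hn
  have h4 := h3 hn
  rw [Subgroup.mem_centralizer_iff] at h4
  exact h4 x rfl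

section final

variable {J : Type*} [Fintype J] [DecidableEq J] {e : J → V}

theorem Fr.linInd (he : Fr ρ B e) (h2 : (2 : F) ≠ 0) (s : Finset J) : LinearIndependent F (fun j : s => e j) := by
  rw [Fintype.linearIndependent_iff]
  intro c hc i
  have h1 : B (e i) (∑ j : s, c j • e j) = 0 := by rw [hc, map_zero]
  rw [map_sum, Finset.sum_eq_single i] at h1
  · rw [map_smul, he.form, if_pos rfl, smul_eq_mul] at h1
    exact (mul_eq_zero.1 h1).resolve_right h2
  · intro j _ hj
    rw [map_smul, he.form, if_neg (fun h => hj (Subtype.ext h.symm)), smul_zero]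
  · intro hi
    exact absurd (Finset.mem_univ i) hi

/-- the element `-1` on a four-dimensional subspace invariant under the sign changes -/
theorem Fr.exists_neg (he : Fr ρ B e) (h2 : (2 : F) ≠ 0) {A : Submodule F V}
    (hM : ∀ j k, j ≠ k → ∀ v ∈ A, B (e j) v • e j + B (e k) v • e k ∈ A) (hA : finrank F A = 4) :
    ∃ z : G, (∀ v ∈ A, ρ z v = -v) ∧ ∀ v, (∀ a ∈ A, B a v = 0) → ρ z v = v := by
  classical
  obtain ⟨s, hs⟩ : ∃ s : Finset J, ∀ j, j ∈ s ↔ e j ∈ A := ⟨Finset.univ.filter fun j => e j ∈ A, fun j => by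
    rw [Finset.mem_filter]; exact ⟨fun h => h.2, fun h => ⟨Finset.mem_univ j, h⟩⟩⟩
  have hz : ∀ v ∈ A, ∀ j, j ∉ s → B (e j) v = 0 := by
    intro v hv j hj
    by_contra h0
    apply hj
    rw [hs]
    have h1 := A.smul_mem (B (e j) v)⁻¹ (he.mem h2 hM hv j)
    rwa [smul_smul, inv_mul_cancel₀ h0, one_smul] at h1
  have hsum : ∀ v ∈ A, v = ∑ j : s, ((2 : F)⁻¹ * B (e j) v) • e j := by
    intro v hv
    rw [Finset.sum_coe_sort s (fun j => ((2 : F)⁻¹ * B (e j) v) • e j)]
    conv_lhs => rw [he.expand h2 v]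
    refine (Finset.sum_subset (Finset.subset_univ s) fun j _ hj => ?_).symm
    rw [hz v hv j hj, mul_zero, zero_smul]
  have hspan : A = Submodule.span F (Set.range fun j : s => e j) := by
    apply le_antisymm
    · intro v hv
      rw [hsum v hv]
      exact Submodule.sum_mem _ fun j _ => Submodule.smul_mem _ _ (Submodule.subset_span ⟨j, rfl⟩)
    · rw [Submodule.span_le]
      rintro _ ⟨j, rfl⟩
      exact (hs j).1 j.2
  have hcard : s.card = 4 := by
    rw [← hA, hspan, finrank_span_eq_card (he.linInd h2 s), Fintype.card_coe]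
  obtain ⟨ε⟩ : Nonempty (Fin 4 ≃ s) := ⟨(s.equivFinOfCardEq hcard).symm⟩
  have hinj : ∀ a b : Fin 4, a ≠ b → (ε a : J) ≠ ε b := fun a b hab h => hab (ε.injective (Subtype.ext h))
  obtain ⟨t, ht⟩ := he.t (ε 0) (ε 1) (hinj _ _ (by decide))
  obtain ⟨t', ht'⟩ := he.t (ε 2) (ε 3) (hinj _ _ (by decide))
  have hzz : ∀ v, ρ (t * t') v = v - ∑ i : Fin 4, B (e (ε i)) v • e (ε i) := by
    intro v
    have h0 : ∀ i : Fin 4, i ≠ 2 → i ≠ 3 → B (e (ε i)) (ρ t' v) = B (e (ε i)) v := by
      intro i h2 h3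
      rw [ht', map_sub, map_sub, map_smul, map_smul, he.form, he.form, if_neg (hinj _ _ h2), if_neg (hinj _ _ h3),
        smul_zero, smul_zero, sub_zero, sub_zero]
    rw [rho_mul, ht, h0 0 (by decide) (by decide), h0 1 (by decide) (by decide), ht', Fin.sum_univ_four]
    abel
  refine ⟨t * t', fun v hv => ?_, fun v hv => ?_⟩
  · have h1 : ∑ i : Fin 4, B (e (ε i)) v • e (ε i) = (2 : F) • v := by
      rw [Equiv.sum_comp ε (fun j : s => B (e j) v • e j)]
      conv_rhs => rw [hsum v hv, Finset.smul_sum]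
      refine Finset.sum_congr rfl fun j _ => ?_
      rw [smul_smul, mul_inv_cancel_left₀ h2]
    rw [hzz, h1, two_smul]
    abel
  · rw [hzz]
    have h1 : ∑ i : Fin 4, B (e (ε i)) v • e (ε i) = 0 :=
      Finset.sum_eq_zero fun i _ => by rw [hv _ ((hs _).1 (ε i).2), zero_smul]
    rw [h1, sub_zero]

end final

end Cfsg.Agent.H1.D4
end

private theorem dce_93a4a5891e60 : _root_.True := by
  try have : _root_.True := by simp only [_root_.Cfsg.Agent.H1.D4.cm.eq_1]
  exact _root_.True.intro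
end
end

-- part: H556/OddCoreE_mg
section
prune_inst 0x20000000000000000000000000000000
set_option linter.all false
open scoped Cfsg.Agent.FastGrp

-- part: H556/OddCoreA
section
/-!
# Odd normal subgroups of orthogonal groups of odd index (helper556)

Abstract part.  `G` a finite group of isometries of a symmetric form which contains the even sign changes of an
orthonormal frame of length `≥ N - 1`; `A ≠ 1` an abelian normal subgroup of odd order.  Then `G` has an involution `z`,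
`z ≠ ±1`, all conjugates of which commute.
-/

set_option autoImplicit false
set_option linter.unusedSectionVars false

namespace Cfsg.Agent.H556.OddCore

open Module Cfsg.Agent.H556.Om Cfsg.Agent.H167.OP

/-! ### Elementary abelian 2-groups acting on abelian groups of odd order -/

theorem exists_eigen {G : Type*} [Group G] [Finite G] {T : Set G}
    (hTT : ∀ s ∈ T, ∀ t ∈ T, s * t = t * s) (hT2 : ∀ t ∈ T, t * t = 1) (n : ℕ) :
    ∀ A : Subgroup G, Nat.card A = n → (∀ a ∈ A, ∀ b ∈ A, a * b = b * a) → A ≠ ⊥ →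
      (∀ t ∈ T, ∀ a ∈ A, t * a * t⁻¹ ∈ A) → ∃ a ∈ A, a ≠ 1 ∧ ∀ t ∈ T, t * a * t⁻¹ = a ∨ t * a * t⁻¹ = a⁻¹ := by
  induction n using Nat.strong_induction_on with
  | _ n ih =>
    intro A hn hab hA hTA
    by_cases hall : ∀ t ∈ T, (∀ a ∈ A, t * a * t⁻¹ = a) ∨ (∀ a ∈ A, t * a * t⁻¹ = a⁻¹)
    · obtain ⟨a, ha, ha1⟩ := (Subgroup.ne_bot_iff_exists_ne_one).mp hA |> fun ⟨a, ha⟩ =>
        (⟨a.1, a.2, fun h => ha (Subtype.ext h)⟩ : ∃ a ∈ A, a ≠ 1)
      refine ⟨a, ha, ha1, fun t ht => ?_⟩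
      rcases hall t ht with h | h
      · exact Or.inl (h a ha)
      · exact Or.inr (h a ha)
    · push Not at hall
      obtain ⟨t, ht, ⟨a, ha, hat⟩, b, hb, hbt⟩ := hall
      -- the centralizer
      let C : Subgroup G :=
        { carrier := {x | x ∈ A ∧ t * x * t⁻¹ = x}
          one_mem' := ⟨A.one_mem, by group⟩
          mul_mem' := by
            rintro x y ⟨hx, hx1⟩ ⟨hy, hy1⟩
            refine ⟨A.mul_mem hx hy, ?_⟩
            have : t * (x * y) * t⁻¹ = (t * x * t⁻¹) * (t * y * t⁻¹) := by group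
            rw [this, hx1, hy1]
          inv_mem' := by
            rintro x ⟨hx, hx1⟩
            refine ⟨A.inv_mem hx, ?_⟩
            have : t * x⁻¹ * t⁻¹ = (t * x * t⁻¹)⁻¹ := by group
            rw [this, hx1] }
      have hCA : C < A := by
        refine lt_of_le_of_ne (fun x hx => hx.1) ?_
        intro h
        have : a ∈ C := by rw [h]; exact ha
        exact hat this.2
      have hti : t⁻¹ = t := inv_eq_of_mul_eq_one_left (hT2 t ht)
      have hCb : C ≠ ⊥ := by
        intro h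
        apply hbt
        have h1 : b * (t * b * t⁻¹) ∈ C := by
          refine ⟨A.mul_mem hb (hTA t ht b hb), ?_⟩
          have h2 : t * (b * (t * b * t⁻¹)) * t⁻¹ = (t * b * t⁻¹) * ((t * t) * b * (t * t)⁻¹) := by group
          rw [h2, hT2 t ht, one_mul, inv_one, mul_one]
          exact hab _ (hTA t ht b hb) _ hb
        rw [h, Subgroup.mem_bot] at h1
        exact eq_inv_of_mul_eq_one_right h1
      have hCcard : Nat.card C < n := by
        rw [← hn]
        by_contra hcon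
        push Not at hcon
        exact hCA.ne (Subgroup.eq_of_le_of_card_ge hCA.le hcon)
      obtain ⟨c, hc, hc1, hcT⟩ := ih _ hCcard C rfl (fun x hx y hy => hab x hx.1 y hy.1) hCb (by
        intro s hs x hx
        refine ⟨hTA s hs x hx.1, ?_⟩
        calc t * (s * x * s⁻¹) * t⁻¹ = (t * s) * x * (t * s)⁻¹ := by group
          _ = (s * t) * x * (s * t)⁻¹ := by rw [hTT t ht s hs]
          _ = s * (t * x * t⁻¹) * s⁻¹ := by group
          _ = s * x * s⁻¹ := by rw [hx.2])
      exact ⟨c, hc.1, hc1, hcT⟩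

/-! ### The two subspaces -/

section Sub

variable {F : Type*} [Field F] {V : Type*} [AddCommGroup V] [Module F V] {G : Type*} [Group G]

/-- fixed vectors of `a` -/
def XX (ρ : Representation F G V) (a : G) : Submodule F V := LinearMap.ker (ρ a - 1)

/-- the commutator space of `a` -/
def YY (ρ : Representation F G V) (a : G) : Submodule F V := LinearMap.range (ρ a - 1)

variable {ρ : Representation F G V} {f : V →ₗ[F] V →ₗ[F] F} {a g : G}

theorem mem_XX {v : V} : v ∈ XX ρ a ↔ ρ a v = v := by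
  rw [XX, LinearMap.mem_ker, LinearMap.sub_apply, sub_eq_zero]; rfl

theorem mem_YY {v : V} : v ∈ YY ρ a ↔ ∃ u, ρ a u - u = v := Iff.rfl

theorem inv_XX {v : V} (hv : ρ a v = v) : ρ a⁻¹ v = v := by
  conv_lhs => rw [← hv]
  exact inv_ap ρ a v

theorem orth_XY (hiso : ∀ g u v, f (ρ g u) (ρ g v) = f u v) {x y : V} (hx : x ∈ XX ρ a) (hy : y ∈ YY ρ a) :
    f x y = 0 := by
  obtain ⟨u, rfl⟩ := mem_YY.mp hy
  rw [mem_XX] at hx
  rw [map_sub, sub_eq_zero, ← hiso a x u, hx]

theorem pres_XX (hg : g * a * g⁻¹ = a ∨ g * a * g⁻¹ = a⁻¹) {v : V} (hv : v ∈ XX ρ a) : ρ g v ∈ XX ρ a := by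
  rw [mem_XX] at hv ⊢
  rcases hg with h | h
  · have h1 : a * g = g * a := by
      calc a * g = (g * a * g⁻¹) * g := by rw [h]
        _ = g * a := by group
    rw [← mul_ap, h1, mul_ap, hv]
  · have h1 : a * g = g * a⁻¹ := by
      calc a * g = (g * a * g⁻¹)⁻¹ * g := by rw [h, inv_inv]
        _ = g * a⁻¹ := by group
    rw [← mul_ap, h1, mul_ap, inv_XX hv]

theorem pres_YY (hg : g * a * g⁻¹ = a ∨ g * a * g⁻¹ = a⁻¹) {v : V} (hv : v ∈ YY ρ a) : ρ g v ∈ YY ρ a := by
  obtain ⟨u, rfl⟩ := mem_YY.mp hv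
  rw [mem_YY, map_sub]
  rcases hg with h | h
  · refine ⟨ρ g u, ?_⟩
    have h1 : a * g = g * a := by
      calc a * g = (g * a * g⁻¹) * g := by rw [h]
        _ = g * a := by group
    rw [← mul_ap, h1, mul_ap]
  · refine ⟨-(ρ a⁻¹ (ρ g u)), ?_⟩
    have h1 : a⁻¹ * g = g * a := by
      calc a⁻¹ * g = (g * a * g⁻¹) * g := by rw [h]
        _ = g * a := by group
    rw [map_neg, ap_inv, ← mul_ap, ← mul_ap, h1]
    abel

variable [FiniteDimensional F V]

theorem disj_XY (hc : (orderOf a : F) ≠ 0) {v : V} (hx : v ∈ XX ρ a) (hy : v ∈ YY ρ a) : v = 0 := by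
  refine Cfsg.Agent.H170.HL.eq_zero_of_fixed (y := ρ a) hc ?_ hy (mem_XX.mp hx)
  rw [← map_pow, pow_orderOf_eq_one, map_one]

theorem finrank_XY : finrank F (XX ρ a) + finrank F (YY ρ a) = finrank F V := by
  rw [add_comm]
  exact LinearMap.finrank_range_add_finrank_ker (ρ a - 1)

theorem isCompl_XY (hc : (orderOf a : F) ≠ 0) : IsCompl (XX ρ a) (YY ρ a) := by
  have h1 : Disjoint (XX ρ a) (YY ρ a) := by
    rw [Submodule.disjoint_def]
    exact fun v hx hy => disj_XY hc hx hy
  exact (Submodule.isCompl_iff_disjoint _ _ (finrank_XY (ρ := ρ) (a := a)).symm.le).mpr h1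

theorem exists_XY (hc : (orderOf a : F) ≠ 0) (v : V) : ∃ x ∈ XX ρ a, ∃ y ∈ YY ρ a, v = x + y := by
  have h1 : v ∈ XX ρ a ⊔ YY ρ a := by rw [(isCompl_XY hc).sup_eq_top]; trivial
  obtain ⟨x, hx, y, hy, h⟩ := Submodule.mem_sup.mp h1
  exact ⟨x, hx, y, hy, h.symm⟩

end Sub

/-! ### Coordinates -/

section Coord

variable {F : Type*} [Field F] {V : Type*} [AddCommGroup V] [Module F V] {f : V →ₗ[F] V →ₗ[F] F}
  {J : Type*} [Fintype J] [DecidableEq J] {e : J → V}

/-- the projection onto a coordinate line -/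
theorem proj_eq (h2 : (2 : F) ≠ 0) (hF : Frame f e) {i j k : J} (hij : i ≠ j) (hik : i ≠ k) (v : V) :
    v - mono f e (sg F i j) id v - mono f e (sg F j k) id v + mono f e (sg F i j) id (mono f e (sg F j k) id v) =
      f (e j) v • ((2 : F) • e j) := by
  have h : (1 - mono f e (sg F i j) id - mono f e (sg F j k) id + mono f e (sg F i j) id * mono f e (sg F j k) id :
      Module.End F V) = (f (e j)).smulRight ((2 : F) • e j) := by
    refine ext_frame hF h2 (fun l => ?_) fun w hw => ?_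
    · simp only [LinearMap.add_apply, LinearMap.sub_apply, Module.End.mul_apply, Module.End.one_apply,
        LinearMap.smulRight_apply, mono_e hF h2, map_smul, id]
      rw [hF.form]
      by_cases hl : j = l
      · subst hl
        simp only [sg, or_true, true_or, if_true]
        module
      · rw [if_neg hl, zero_smul]
        by_cases hli : l = i
        · subst hli
          simp only [sg, true_or, if_true]
          rw [if_neg (by rintro (h | h); exacts [hij h, hik h])]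
          module
        · have h3 : sg F i j l = 1 := if_neg (by rintro (h | h); exacts [hli h, hl h.symm])
          rw [h3]
          module
    · simp only [LinearMap.add_apply, LinearMap.sub_apply, Module.End.mul_apply, Module.End.one_apply,
        LinearMap.smulRight_apply, mono_orth hw, hw j, zero_smul]
      abel
  exact LinearMap.congr_fun h v

/-- the sign change on a subset -/
def sgn {J : Type*} [DecidableEq J] (F : Type*) [Field F] (I : Finset J) (k : J) : F := if k ∈ I then -1 else 1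

/-- two orthogonal complementary coordinate subspaces -/
theorem split [FiniteDimensional F V] (h2 : (2 : F) ≠ 0) (hF : Frame f e) (hsym : ∀ u v, f u v = f v u) {X Y : Submodule F V}
    (horth : ∀ x ∈ X, ∀ y ∈ Y, f x y = 0) (hdisj : ∀ v ∈ X, v ∈ Y → v = 0)
    (hcoord : ∀ j, e j ∈ X ∨ e j ∈ Y) (hW : ∀ w, (∀ j, f (e j) w = 0) → w ∈ X) (I : Finset J)
    (hI : ∀ j, j ∈ I ↔ e j ∈ Y) :
    I.card = finrank F Y ∧ (∀ v ∈ Y, mono f e (sgn F I) id v = -v) ∧ (∀ v ∈ X, mono f e (sgn F I) id v = v) := by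
  have hXI : ∀ j, j ∉ I → e j ∈ X := fun j hj => (hcoord j).resolve_right fun h => hj ((hI j).mpr h)
  have hYX : ∀ y ∈ Y, ∃ c : J → F, y = ∑ j ∈ I, c j • e j := by
    intro y hy
    obtain ⟨c, w, hw, hyc⟩ := exists_decomp hF h2 y
    have hc : ∀ j, f (e j) y = 2 * c j := by
      intro j
      rw [hyc, map_add, hw j, add_zero, map_sum, Finset.sum_eq_single j]
      · rw [map_smul, hF.self, smul_eq_mul, mul_comm]
      · intro i _ hi
        rw [map_smul, hF.orth j i hi.symm, smul_zero]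
      · intro h; exact absurd (Finset.mem_univ j) h
    have hc0 : ∀ j, j ∉ I → c j = 0 := by
      intro j hj
      have h1 := horth _ (hXI j hj) _ hy
      rw [hc] at h1
      exact (mul_eq_zero.mp h1).resolve_left h2
    have hsum : ∑ j, c j • e j = ∑ j ∈ I, c j • e j := by
      refine (Finset.sum_subset (Finset.subset_univ I) fun j _ hj => ?_).symm
      rw [hc0 j hj, zero_smul]
    refine ⟨c, ?_⟩
    have hwY : w ∈ Y := by
      have h1 : w = y - ∑ j ∈ I, c j • e j := by rw [← hsum, hyc]; abel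
      rw [h1]
      exact Y.sub_mem hy (Submodule.sum_mem _ fun j hj => Y.smul_mem _ ((hI j).mp hj))
    rw [hyc, hsum, hdisj w (hW w hw) hwY, add_zero]
  refine ⟨?_, ?_, ?_⟩
  · have h1 : Y = Submodule.span F (Set.range fun j : I => e j) := by
      apply le_antisymm
      · intro y hy
        obtain ⟨c, rfl⟩ := hYX y hy
        exact Submodule.sum_mem _ fun j hj => Submodule.smul_mem _ _ (Submodule.subset_span ⟨⟨j, hj⟩, rfl⟩)
      · rw [Submodule.span_le]
        rintro _ ⟨j, rfl⟩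
        exact (hI j).mp j.2
    have h3 : finrank F (Submodule.span F (Set.range (e ∘ (Subtype.val : I → J)))) = Fintype.card I :=
      finrank_span_eq_card ((hF.linearIndependent h2).comp _ Subtype.val_injective)
    rw [Fintype.card_coe] at h3
    rw [h1]
    exact h3.symm
  · intro y hy
    obtain ⟨c, rfl⟩ := hYX y hy
    rw [map_sum, ← Finset.sum_neg_distrib]
    refine Finset.sum_congr rfl fun j hj => ?_
    rw [map_smul, mono_e hF h2, sgn, if_pos hj]
    show c j • (-1 : F) • e j = -(c j • e j)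
    module
  · intro x hx
    obtain ⟨c, w, hw, hxc⟩ := exists_decomp hF h2 x
    have hc : ∀ j, f (e j) x = 2 * c j := by
      intro j
      rw [hxc, map_add, hw j, add_zero, map_sum, Finset.sum_eq_single j]
      · rw [map_smul, hF.self, smul_eq_mul, mul_comm]
      · intro i _ hi
        rw [map_smul, hF.orth j i hi.symm, smul_zero]
      · intro h; exact absurd (Finset.mem_univ j) h
    have hc0 : ∀ j, j ∈ I → c j = 0 := by
      intro j hj
      have h1 := horth _ hx _ ((hI j).mp hj)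
      rw [hsym, hc] at h1
      exact (mul_eq_zero.mp h1).resolve_left h2
    rw [hxc, map_add, mono_orth hw, map_sum]
    congr 1
    refine Finset.sum_congr rfl fun j _ => ?_
    rw [map_smul, mono_e hF h2, sgn]
    by_cases hj : j ∈ I
    · rw [hc0 j hj, zero_smul, zero_smul]
    · rw [if_neg hj, one_smul]; rfl

end Coord

end Cfsg.Agent.H556.OddCore
end

-- part: H556/OddCoreB
section
/-!
# Odd normal subgroups of orthogonal groups of odd index, II (helper556)
-/

set_option autoImplicit false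
set_option linter.unusedSectionVars false

namespace Cfsg.Agent.H556.OddCore

open Module Cfsg.Agent.H556.Om Cfsg.Agent.H167.OP

variable {F : Type*} [Field F] {V : Type*} [AddCommGroup V] [Module F V] [FiniteDimensional F V]
  {f : V →ₗ[F] V →ₗ[F] F} {J : Type*} [Fintype J] [DecidableEq J] {e : J → V} {G : Type*} [Group G]
  {ρ : Representation F G V}

theorem pow_fix {g : G} {v : V} (h : ρ g v = v) (n : ℕ) : ρ (g ^ n) v = v := by
  induction n with
  | zero => rw [pow_zero, one_ap]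
  | succ n ih => rw [pow_succ, mul_ap, h, ih]

theorem fix_of_sq {a : G} (ho : Odd (orderOf a)) {v : V} (h : ρ a (ρ a v) = v) : ρ a v = v := by
  obtain ⟨m, hm⟩ := ho
  have h1 : a = (a * a) ^ (m + 1) := by
    have h2 : a ^ (2 * m + 1) = 1 := by rw [← hm, pow_orderOf_eq_one]
    calc a = a ^ (2 * m + 1) * a := by rw [h2, one_mul]
      _ = (a * a) ^ (m + 1) := by rw [← pow_succ, ← pow_two, ← pow_mul]; rfl
  have h3 : ρ (a * a) v = v := by rw [mul_ap, h]
  have h4 := pow_fix h3 (m + 1)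
  rwa [← h1] at h4

theorem sub_sg (h2 : (2 : F) ≠ 0) (hF : Frame f e) {i j : J} (hij : i ≠ j) (v : V) :
    v - mono f e (sg F i j) id v = f (e i) v • e i + f (e j) v • e j := by
  have h : (1 - mono f e (sg F i j) id : Module.End F V) =
      (f (e i)).smulRight (e i) + (f (e j)).smulRight (e j) := by
    refine ext_frame hF h2 (fun l => ?_) fun w hw => ?_
    · simp only [LinearMap.add_apply, LinearMap.sub_apply, Module.End.one_apply,
        LinearMap.smulRight_apply, mono_e hF h2, id]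
      rw [hF.form, hF.form]
      by_cases hi : i = l
      · subst hi
        simp only [sg, true_or, if_true]
        rw [if_neg hij.symm]
        module
      · by_cases hj : j = l
        · subst hj
          simp only [sg, or_true, if_true]
          rw [if_neg hij]
          module
        · have h3 : sg F i j l = 1 := if_neg (by rintro (h | h); exacts [hi h.symm, hj h.symm])
          rw [h3, if_neg hi, if_neg hj]
          module
    · simp only [LinearMap.add_apply, LinearMap.sub_apply, Module.End.one_apply,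
        LinearMap.smulRight_apply, mono_orth hw, hw i, hw j, zero_smul]
      abel
  exact LinearMap.congr_fun h v

/-- every basis vector lies in one of the two subspaces -/
theorem coord (h2 : (2 : F) ≠ 0) (hF : Frame f e) {a : G} (hc : (orderOf a : F) ≠ 0) {i j k : J}
    (hij : i ≠ j) (hik : i ≠ k) {t t' : G} (ht : ρ t = mono f e (sg F i j) id) (ht' : ρ t' = mono f e (sg F j k) id)
    (hta : t * a * t⁻¹ = a ∨ t * a * t⁻¹ = a⁻¹) (hta' : t' * a * t'⁻¹ = a ∨ t' * a * t'⁻¹ = a⁻¹) :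
    e j ∈ XX ρ a ∨ e j ∈ YY ρ a := by
  obtain ⟨x, hx, y, hy, hxy⟩ := exists_XY (ρ := ρ) hc (e j)
  have key : ∀ v : V, v - ρ t v - ρ t' v + ρ t (ρ t' v) = f (e j) v • ((2 : F) • e j) := by
    intro v
    rw [ht, ht']
    exact proj_eq h2 hF hij hik v
  have hX : f (e j) x • ((2 : F) • e j) ∈ XX ρ a := by
    rw [← key]
    exact (XX ρ a).add_mem ((XX ρ a).sub_mem ((XX ρ a).sub_mem hx (pres_XX hta hx)) (pres_XX hta' hx))
      (pres_XX hta (pres_XX hta' hx))
  have hY : f (e j) y • ((2 : F) • e j) ∈ YY ρ a := by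
    rw [← key]
    exact (YY ρ a).add_mem ((YY ρ a).sub_mem ((YY ρ a).sub_mem hy (pres_YY hta hy)) (pres_YY hta' hy))
      (pres_YY hta (pres_YY hta' hy))
  have hsum : f (e j) x + f (e j) y = 2 := by
    rw [← map_add, ← hxy, hF.self]
  have hdiv : ∀ (U : Submodule F V) (c : F), c ≠ 0 → c • ((2 : F) • e j) ∈ U → e j ∈ U := by
    intro U c hc h
    rw [smul_smul] at h
    exact (Submodule.smul_mem_iff U (mul_ne_zero hc h2)).mp h
  by_cases h0 : f (e j) x = 0
  · right
    refine hdiv _ _ ?_ hY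
    rw [h0, zero_add] at hsum
    rw [hsum]; exact h2
  · exact Or.inl (hdiv _ _ h0 hX)

/-- the dimension of the commutator space of `a` -/
theorem dim_YY [Finite G] (h2 : (2 : F) ≠ 0) (hF : Frame f e) {a : G} (hc : (orderOf a : F) ≠ 0)
    (ho : Odd (orderOf a)) {i j : J} (hij : i ≠ j) {t : G} (ht : ρ t = mono f e (sg F i j) id)
    (htt : t * t = 1) (hta : t * a * t⁻¹ = a⁻¹) : Even (finrank F (YY ρ a)) ∧ finrank F (YY ρ a) ≤ 4 := by
  have htY : ∀ v ∈ YY ρ a, ρ t v ∈ YY ρ a := fun v hv => pres_YY (Or.inr hta) hv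
  have htt' : ∀ v, ρ t (ρ t v) = v := fun v => by rw [← mul_ap, htt, one_ap]
  let Up : Submodule F V := YY ρ a ⊓ LinearMap.ker (ρ t - 1)
  let Um : Submodule F V := YY ρ a ⊓ LinearMap.ker (ρ t + 1)
  have hUp : ∀ v, v ∈ Up ↔ v ∈ YY ρ a ∧ ρ t v = v := by
    intro v
    rw [Submodule.mem_inf, LinearMap.mem_ker, LinearMap.sub_apply, sub_eq_zero]; rfl
  have hUm : ∀ v, v ∈ Um ↔ v ∈ YY ρ a ∧ ρ t v = -v := by
    intro v
    rw [Submodule.mem_inf, LinearMap.mem_ker, LinearMap.add_apply, ← eq_neg_iff_add_eq_zero]; rfl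
  -- the operator `a - a⁻¹`
  let B : Module.End F V := ρ a - ρ a⁻¹
  have hB : ∀ v, B v = ρ a v - ρ a⁻¹ v := fun _ => rfl
  have hBY : ∀ v ∈ YY ρ a, B v ∈ YY ρ a := by
    intro v hv
    rw [hB]
    exact (YY ρ a).sub_mem (pres_YY (Or.inl (by group)) hv) (pres_YY (Or.inl (by group)) hv)
  have h1 : t * a = a⁻¹ * t := by
    calc t * a = (t * a * t⁻¹) * t := by group
      _ = a⁻¹ * t := by rw [hta]
  have h1' : t * a⁻¹ = a * t := by
    calc t * a⁻¹ = (t * a * t⁻¹)⁻¹ * t := by group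
      _ = a * t := by rw [hta, inv_inv]
  have hBt : ∀ v, ρ t (B v) = -(B (ρ t v)) := by
    intro v
    rw [hB, hB, map_sub, ← mul_ap, ← mul_ap, h1, h1', mul_ap, mul_ap]
    abel
  have hBinj : ∀ v ∈ YY ρ a, B v = 0 → v = 0 := by
    intro v hv h
    rw [hB, sub_eq_zero] at h
    have h3 : ρ a (ρ a v) = v := by rw [h, ap_inv]
    exact disj_XY hc (mem_XX.mpr (fix_of_sq ho h3)) hv
  have hpm : finrank F Up ≤ finrank F Um := by
    let φ : Up →ₗ[F] Um := LinearMap.restrict B (p := Up) (q := Um) (by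
      intro v hv
      rw [hUp] at hv
      rw [hUm]
      exact ⟨hBY v hv.1, by rw [hBt, hv.2]⟩)
    refine LinearMap.finrank_le_finrank_of_injective (f := φ) ?_
    rw [← LinearMap.ker_eq_bot, LinearMap.ker_eq_bot']
    intro v hv
    apply Subtype.ext
    exact hBinj v ((hUp v).mp v.2).1 (congrArg Subtype.val hv)
  have hmp : finrank F Um ≤ finrank F Up := by
    let φ : Um →ₗ[F] Up := LinearMap.restrict B (p := Um) (q := Up) (by
      intro v hv
      rw [hUm] at hv
      rw [hUp]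
      exact ⟨hBY v hv.1, by rw [hBt, hv.2, map_neg, neg_neg]⟩)
    refine LinearMap.finrank_le_finrank_of_injective (f := φ) ?_
    rw [← LinearMap.ker_eq_bot, LinearMap.ker_eq_bot']
    intro v hv
    apply Subtype.ext
    exact hBinj v ((hUm v).mp v.2).1 (congrArg Subtype.val hv)
  have hsup : Up ⊔ Um = YY ρ a := by
    apply le_antisymm (sup_le inf_le_left inf_le_left)
    intro v hv
    have h3 : v = (2 : F)⁻¹ • (v + ρ t v) + (2 : F)⁻¹ • (v - ρ t v) := by
      rw [← smul_add]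
      have : v + ρ t v + (v - ρ t v) = (2 : F) • v := by module
      rw [this, smul_smul, inv_mul_cancel₀ h2, one_smul]
    rw [h3]
    refine Submodule.add_mem_sup (Up.smul_mem _ ?_) (Um.smul_mem _ ?_)
    · rw [hUp]
      exact ⟨(YY ρ a).add_mem hv (htY v hv), by rw [map_add, htt']; abel⟩
    · rw [hUm]
      exact ⟨(YY ρ a).sub_mem hv (htY v hv), by rw [map_sub, htt']; abel⟩
  have hinf : Up ⊓ Um = ⊥ := by
    rw [eq_bot_iff]
    intro v hv
    rw [Submodule.mem_inf, hUp, hUm] at hv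
    have h3 : v = -v := hv.1.2.symm.trans hv.2.2
    have h4 : (2 : F) • v = 0 := by
      rw [two_smul]
      nth_rewrite 2 [h3]
      exact add_neg_cancel v
    exact (Submodule.mem_bot F).mpr ((smul_eq_zero.mp h4).resolve_left h2)
  have hdim : finrank F (YY ρ a) = finrank F Up + finrank F Um := by
    have := Submodule.finrank_sup_add_finrank_inf_eq Up Um
    rw [hsup, hinf, finrank_bot, add_zero] at this
    exact this
  have hle : finrank F Um ≤ 2 := by
    have h3 : Um ≤ Submodule.span F ({e i, e j} : Set V) := by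
      intro v hv
      rw [hUm] at hv
      have h4 := sub_sg (f := f) h2 hF hij v
      rw [← ht, hv.2, sub_neg_eq_add, ← two_smul F] at h4
      have h5 : (2 : F) • v ∈ Submodule.span F ({e i, e j} : Set V) := by
        rw [h4]
        exact Submodule.add_mem _ (Submodule.smul_mem _ _ (Submodule.subset_span (by simp)))
          (Submodule.smul_mem _ _ (Submodule.subset_span (by simp)))
      exact (Submodule.smul_mem_iff _ h2).mp h5
    refine (Submodule.finrank_mono h3).trans ?_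
    classical
    have h4 := finrank_span_finset_le_card (R := F) ({e i, e j} : Finset V)
    rw [Finset.coe_pair] at h4
    exact h4.trans Finset.card_le_two
  have heq : finrank F Up = finrank F Um := le_antisymm hpm hmp
  refine ⟨⟨finrank F Um, by rw [hdim, heq]⟩, by omega⟩

/-- if all sign changes commute with `a` then `a = 1` -/
theorem eq_one_of_comm (hinj : Function.Injective ρ) (h2 : (2 : F) ≠ 0) (hsym : ∀ u v, f u v = f v u)
    (hnd : ∀ x, (∀ y, f x y = 0) → x = 0) (hiso : ∀ g u v, f (ρ g u) (ρ g v) = f u v) (hF : Frame f e)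
    (hW1 : ∀ w w', (∀ j, f (e j) w = 0) → (∀ j, f (e j) w' = 0) → w ≠ 0 → ∃ c : F, w' = c • w) {a : G}
    (hc : (orderOf a : F) ≠ 0) (ho : Odd (orderOf a))
    (hcomm : ∀ j, ∃ i k, i ≠ j ∧ i ≠ k ∧ ∃ t t', ρ t = mono f e (sg F i j) id ∧ ρ t' = mono f e (sg F j k) id ∧
      t * a * t⁻¹ = a ∧ t' * a * t'⁻¹ = a) : a = 1 := by
  have hcm : ∀ {t : G}, t * a * t⁻¹ = a → ∀ v, ρ t (ρ a v) = ρ a (ρ t v) := by
    intro t h v
    have h1 : t * a = a * t := by
      calc t * a = (t * a * t⁻¹) * t := by group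
        _ = a * t := by rw [h]
    rw [← mul_ap, h1, mul_ap]
  have hfix : ∀ j, ρ a (e j) = e j := by
    intro j
    obtain ⟨i, k, hij, hik, t, t', ht, ht', hta, hta'⟩ := hcomm j
    have key : ∀ v : V, v - ρ t v - ρ t' v + ρ t (ρ t' v) = f (e j) v • ((2 : F) • e j) := by
      intro v
      rw [ht, ht']
      exact proj_eq h2 hF hij hik v
    have h1 := key (ρ a (e j))
    have h3 : ρ a (e j) - ρ t (ρ a (e j)) - ρ t' (ρ a (e j)) + ρ t (ρ t' (ρ a (e j))) =
        ρ a (e j - ρ t (e j) - ρ t' (e j) + ρ t (ρ t' (e j))) := by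
      rw [hcm hta, hcm hta', hcm hta]
      simp only [map_add, map_sub]
    rw [h3, key (e j), hF.self, map_smul, map_smul, smul_smul, smul_smul] at h1
    set c := f (e j) (ρ a (e j)) with hcdef
    have h22 : (2 : F) * 2 ≠ 0 := mul_ne_zero h2 h2
    have h4 : ρ a (e j) = ((2 : F)⁻¹ * c) • e j := by
      have h5 : ρ a (e j) = ((2 : F) * 2)⁻¹ • ((2 : F) * 2) • ρ a (e j) := by
        rw [smul_smul, inv_mul_cancel₀ h22, one_smul]
      rw [h5, h1, smul_smul]
      congr 1
      rw [mul_inv]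
      field_simp
    have h6 : ((2 : F)⁻¹ * c) * ((2 : F)⁻¹ * c) = 1 := by
      have h7 := hiso a (e j) (e j)
      rw [h4, map_smul, map_smul, LinearMap.smul_apply, hF.self, smul_eq_mul, smul_eq_mul, ← mul_assoc] at h7
      exact mul_right_cancel₀ h2 (by rw [h7, one_mul])
    apply fix_of_sq ho
    rw [h4, map_smul, h4, smul_smul, h6, one_smul]
  -- the commutator space is zero
  have hYW : ∀ y ∈ YY ρ a, ∀ j, f (e j) y = 0 := fun y hy j => orth_XY hiso (mem_XX.mpr (hfix j)) hy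
  have hY : ∀ y ∈ YY ρ a, y = 0 := by
    intro y hy
    by_contra hy0
    obtain ⟨c, hcy⟩ := hW1 y (ρ a y) (hYW y hy) (hYW _ (pres_YY (Or.inl (by group)) hy)) hy0
    have hyy : f y y ≠ 0 := by
      intro h0
      apply hy0
      apply hnd
      intro v
      obtain ⟨x, hx, y', hy', rfl⟩ := exists_XY (ρ := ρ) hc v
      obtain ⟨d, hd⟩ := hW1 y y' (hYW y hy) (hYW y' hy') hy0
      rw [map_add, hsym y x, orth_XY hiso hx hy, hd, map_smul, h0, smul_zero, add_zero]
    have h6 : c * c = 1 := by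
      have h7 := hiso a y y
      rw [hcy, map_smul, map_smul, LinearMap.smul_apply, smul_eq_mul, smul_eq_mul, ← mul_assoc] at h7
      exact mul_right_cancel₀ hyy (by rw [h7, one_mul])
    apply hy0
    apply disj_XY hc _ hy
    rw [mem_XX]
    apply fix_of_sq ho
    rw [hcy, map_smul, hcy, smul_smul, h6, one_smul]
  apply hinj
  rw [map_one]
  apply LinearMap.ext
  intro v
  exact sub_eq_zero.mp (hY _ ⟨v, rfl⟩)

end Cfsg.Agent.H556.OddCore
end

-- part: H556/OddCoreC
section
/-!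
# Odd normal subgroups of orthogonal groups of odd index, III (helper556): the abstract theorem
-/

set_option autoImplicit false
set_option linter.unusedSectionVars false

namespace Cfsg.Agent.H556.OddCore

open Module Cfsg.Agent.H556.Om Cfsg.Agent.H167.OP

variable {F : Type*} [Field F] {V : Type*} [AddCommGroup V] [Module F V] [FiniteDimensional F V]
  {f : V →ₗ[F] V →ₗ[F] F} {J : Type*} [Fintype J] [DecidableEq J] {e : J → V} {G : Type*} [Group G]
  {ρ : Representation F G V}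

theorem mono_comm (h2 : (2 : F) ≠ 0) (hF : Frame f e) (s t : J → F) :
    mono f e s id * mono f e t id = mono f e t id * mono f e s id := by
  rw [mono_mul hF h2, mono_mul hF h2]
  congr 1
  funext j
  exact mul_comm _ _

theorem sg_sq (i j k : J) : sg F i j k * sg F i j k = 1 := by
  unfold sg
  split_ifs <;> ring

/-- the leftover space is in one of the two subspaces -/
theorem leftover (hsym : ∀ u v, f u v = f v u) {X Y : Submodule F V} (horth : ∀ x ∈ X, ∀ y ∈ Y, f x y = 0)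
    (hdisj : ∀ v ∈ X, v ∈ Y → v = 0) (hsum : ∀ v, ∃ x ∈ X, ∃ y ∈ Y, v = x + y)
    (hW1 : ∀ w w', (∀ j, f (e j) w = 0) → (∀ j, f (e j) w' = 0) → w ≠ 0 → ∃ c : F, w' = c • w)
    (hcoord : ∀ j, e j ∈ X ∨ e j ∈ Y) :
    (∀ w, (∀ j, f (e j) w = 0) → w ∈ X) ∨ (∀ w, (∀ j, f (e j) w = 0) → w ∈ Y) := by
  by_cases h0 : ∀ w, (∀ j, f (e j) w = 0) → w = 0
  · left
    intro w hw
    rw [h0 w hw]
    exact X.zero_mem
  · push Not at h0
    obtain ⟨w, hw, hw0⟩ := h0
    obtain ⟨x, hx, y, hy, hxy⟩ := hsum w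
    have hxW : ∀ j, f (e j) x = 0 := by
      intro j
      rcases hcoord j with h | h
      · have h1 := hw j
        rw [hxy, map_add, horth _ h _ hy, add_zero] at h1
        exact h1
      · rw [hsym]
        exact horth _ hx _ h
    have hyW : ∀ j, f (e j) y = 0 := by
      intro j
      have h1 := hw j
      rw [hxy, map_add, hxW j, zero_add] at h1
      exact h1
    by_cases hx0 : x = 0
    · right
      have hy0 : y ≠ 0 := by
        rintro rfl
        apply hw0
        rw [hxy, hx0, add_zero]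
      intro w' hw'
      obtain ⟨c, hc⟩ := hW1 y w' hyW hw' hy0
      rw [hc]
      exact Y.smul_mem _ hy
    · left
      intro w' hw'
      obtain ⟨c, hc⟩ := hW1 x w' hxW hw' hx0
      rw [hc]
      exact X.smul_mem _ hx

/-- **the abstract theorem** -/
theorem main [Finite G] (hinj : Function.Injective ρ) (h2 : (2 : F) ≠ 0) (hsym : ∀ u v, f u v = f v u)
    (hnd : ∀ x, (∀ y, f x y = 0) → x = 0) (hiso : ∀ g u v, f (ρ g u) (ρ g v) = f u v) (hF : Frame f e)
    (hW1 : ∀ w w', (∀ j, f (e j) w = 0) → (∀ j, f (e j) w' = 0) → w ≠ 0 → ∃ c : F, w' = c • w)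
    (hpar : (∀ w, (∀ j, f (e j) w = 0) → w = 0) ∨ Even (finrank F V)) (hdim : 5 ≤ finrank F V)
    (hJ : 3 ≤ Fintype.card J)
    (hD : ∀ I : Finset J, Even I.card → ∃ g, ρ g = mono f e (sgn F I) id)
    (hcG : (Nat.card G : F) ≠ 0) {A : Subgroup G} [hN : A.Normal] (hA : A ≠ ⊥)
    (hab : ∀ a ∈ A, ∀ b ∈ A, a * b = b * a) (hodd : Odd (Nat.card A)) :
    ∃ z : G, z * z = 1 ∧ (∀ g : G, z * (g * z * g⁻¹) = g * z * g⁻¹ * z) ∧ (∃ v, v ≠ 0 ∧ ρ z v = v) ∧
      (∃ v, v ≠ 0 ∧ ρ z v = -v) := by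
  classical
  let T : Set G := {g | ∃ i j, i ≠ j ∧ ρ g = mono f e (sg F i j) id}
  have hTT : ∀ s ∈ T, ∀ t ∈ T, s * t = t * s := by
    rintro s ⟨i, j, -, hs⟩ t ⟨k, l, -, ht⟩
    apply hinj
    rw [map_mul, map_mul, hs, ht, mono_comm h2 hF]
  have hT2 : ∀ t ∈ T, t * t = 1 := by
    rintro t ⟨k, l, -, ht⟩
    apply hinj
    rw [map_mul, map_one, ht, mono_mul hF h2]
    exact mono_one hF h2 (fun j => sg_sq _ _ _) fun _ => rfl
  have hsgT : ∀ i j : J, i ≠ j → ∃ t ∈ T, ρ t = mono f e (sg F i j) id := by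
    intro i j hij
    obtain ⟨g, hg⟩ := hD {i, j} (by rw [Finset.card_pair hij]; exact even_two)
    have h1 : sgn F ({i, j} : Finset J) = sg F i j := by
      funext k
      simp [sgn, sg]
    rw [h1] at hg
    exact ⟨g, ⟨i, j, hij, hg⟩, hg⟩
  obtain ⟨a, ha, ha1, hTa⟩ := exists_eigen hTT hT2 _ A rfl hab hA fun t _ a ha => hN.conj_mem a ha t
  have hc : (orderOf a : F) ≠ 0 := by
    intro h
    obtain ⟨m, hm⟩ := orderOf_dvd_natCard a
    exact hcG (by rw [hm, Nat.cast_mul, h, zero_mul])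
  have ho : Odd (orderOf a) := by
    have h1 : orderOf a ∣ Nat.card A := by
      have := orderOf_dvd_natCard (⟨a, ha⟩ : A)
      rwa [Subgroup.orderOf_mk] at this
    exact hodd.of_dvd_nat h1
  have hthree : ∀ j : J, ∃ i k, i ≠ j ∧ j ≠ k ∧ i ≠ k := by
    intro j
    have h1 : 2 ≤ (Finset.univ.erase j).card := by
      rw [Finset.card_erase_of_mem (Finset.mem_univ j), Finset.card_univ]
      omega
    obtain ⟨i, hi, k, hk, hik⟩ := Finset.one_lt_card.mp h1
    exact ⟨i, k, (Finset.mem_erase.mp hi).1, (Finset.mem_erase.mp hk).1.symm, hik⟩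
  have hcoord : ∀ j, e j ∈ XX ρ a ∨ e j ∈ YY ρ a := by
    intro j
    obtain ⟨i, k, hij, hjk, hik⟩ := hthree j
    obtain ⟨t, htT, ht⟩ := hsgT i j hij
    obtain ⟨t', htT', ht'⟩ := hsgT j k hjk
    exact coord h2 hF hc hij hik ht ht' (hTa t htT) (hTa t' htT')
  -- some sign change inverts `a`
  have hinv : ∃ i j : J, i ≠ j ∧ ∃ t, ρ t = mono f e (sg F i j) id ∧ t * t = 1 ∧ t * a * t⁻¹ = a⁻¹ := by
    by_contra hcon
    push Not at hcon
    have hcm : ∀ t ∈ T, t * a * t⁻¹ = a := by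
      rintro t ht
      refine (hTa t ht).resolve_right ?_
      obtain ⟨i, j, hij, ht'⟩ := ht
      exact hcon i j hij t ht' (hT2 t ⟨i, j, hij, ht'⟩)
    apply ha1
    refine eq_one_of_comm hinj h2 hsym hnd hiso hF hW1 hc ho fun j => ?_
    obtain ⟨i, k, hij, hjk, hik⟩ := hthree j
    obtain ⟨t, htT, ht⟩ := hsgT i j hij
    obtain ⟨t', htT', ht'⟩ := hsgT j k hjk
    exact ⟨i, k, hij, hik, t, t', ht, ht', hcm t htT, hcm t' htT'⟩
  obtain ⟨i₀, j₀, hij₀, t₀, ht₀, htt₀, hta₀⟩ := hinv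
  obtain ⟨hevY, hY4⟩ := dim_YY h2 hF hc ho hij₀ ht₀ htt₀ hta₀
  have hXY := finrank_XY (ρ := ρ) (a := a)
  have hdisj : ∀ v ∈ XX ρ a, v ∈ YY ρ a → v = 0 := fun v => disj_XY hc
  have horth : ∀ x ∈ XX ρ a, ∀ y ∈ YY ρ a, f x y = 0 := fun x hx y hy => orth_XY hiso hx hy
  -- the involution
  have hz : ∃ (z : G) (ε : F), (ε = 1 ∨ ε = -1) ∧ (∀ v ∈ XX ρ a, ρ z v = ε • v) ∧
      (∀ v ∈ YY ρ a, ρ z v = -(ε • v)) := by
    rcases leftover hsym horth hdisj (exists_XY hc) hW1 hcoord with hW | hW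
    · obtain ⟨hI1, hI2, hI3⟩ := split h2 hF hsym horth hdisj hcoord hW
        (Finset.univ.filter fun j => e j ∈ YY ρ a) (by simp only [_root_.Finset.mem_filter, _root_.Finset.mem_univ, _root_.true_and, _root_.implies_true])
      obtain ⟨z, hz⟩ := hD _ (by rw [hI1]; exact hevY)
      refine ⟨z, 1, Or.inl rfl, fun v hv => ?_, fun v hv => ?_⟩
      · rw [hz, hI3 v hv, one_smul]
      · rw [hz, hI2 v hv, one_smul]
    · rcases hpar with hW0 | hev
      · -- no leftover
        obtain ⟨hI1, hI2, hI3⟩ := split h2 hF hsym horth hdisj hcoord (fun w hw => by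
            rw [hW0 w hw]; exact (XX ρ a).zero_mem)
          (Finset.univ.filter fun j => e j ∈ YY ρ a) (by simp only [_root_.Finset.mem_filter, _root_.Finset.mem_univ, _root_.true_and, _root_.implies_true])
        obtain ⟨z, hz⟩ := hD _ (by rw [hI1]; exact hevY)
        refine ⟨z, 1, Or.inl rfl, fun v hv => ?_, fun v hv => ?_⟩
        · rw [hz, hI3 v hv, one_smul]
        · rw [hz, hI2 v hv, one_smul]
      · obtain ⟨hI1, hI2, hI3⟩ := split (X := YY ρ a) (Y := XX ρ a) h2 hF hsym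
          (fun x hx y hy => by rw [hsym]; exact horth y hy x hx) (fun v hv hv' => hdisj v hv' hv)
          (fun j => (hcoord j).symm) hW (Finset.univ.filter fun j => e j ∈ XX ρ a) (by simp only [_root_.Finset.mem_filter, _root_.Finset.mem_univ, _root_.true_and, _root_.implies_true])
        obtain ⟨z, hz⟩ := hD _ (by
          rw [hI1]
          rw [← hXY] at hev
          exact (Nat.even_add.mp hev).mpr hevY)
        refine ⟨z, -1, Or.inr rfl, fun v hv => ?_, fun v hv => ?_⟩
        · rw [hz, hI2 v hv, neg_smul, one_smul]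
        · rw [hz, hI3 v hv, neg_smul, one_smul, neg_neg]
  obtain ⟨z, ε, hε, hzX, hzY⟩ := hz
  have hεε : ε * ε = 1 := by rcases hε with h | h <;> rw [h] <;> ring
  -- elements preserving the two subspaces commute with `z`
  have hcomm : ∀ b : G, b * a * b⁻¹ = a → z * b = b * z := by
    intro b hb
    apply hinj
    apply LinearMap.ext
    intro v
    obtain ⟨x, hx, y, hy, rfl⟩ := exists_XY (ρ := ρ) hc v
    rw [mul_ap, mul_ap, map_add, map_add, map_add, map_add, hzX _ (pres_XX (Or.inl hb) hx),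
      hzY _ (pres_YY (Or.inl hb) hy), hzX _ hx, hzY _ hy, map_smul, map_neg, map_smul]
  have hzA : ∀ b ∈ A, z * b = b * z := by
    intro b hb
    apply hcomm
    rw [hab b hb a ha, mul_inv_cancel_right]
  refine ⟨z, ?_, ?_, ?_, ?_⟩
  · apply hinj
    apply LinearMap.ext
    intro v
    obtain ⟨x, hx, y, hy, rfl⟩ := exists_XY (ρ := ρ) hc v
    rw [mul_ap, map_one, Module.End.one_apply, map_add, hzX _ hx, hzY _ hy, map_add, map_smul, map_neg,
      map_smul, hzX _ hx, hzY _ hy, smul_neg, neg_neg, smul_smul, smul_smul, hεε, one_smul, one_smul]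
  · intro g
    have h1 : z * (g⁻¹ * a * g) = g⁻¹ * a * g * z := hzA _ (by
      have := hN.conj_mem a ha g⁻¹
      rwa [inv_inv] at this)
    refine hcomm (g * z * g⁻¹) ?_
    have h3 : g * z * g⁻¹ * a = a * (g * z * g⁻¹) := by
      calc g * z * g⁻¹ * a = g * (z * (g⁻¹ * a * g)) * g⁻¹ := by group
        _ = g * (g⁻¹ * a * g * z) * g⁻¹ := by rw [h1]
        _ = a * (g * z * g⁻¹) := by group
    rw [h3, mul_inv_cancel_right]
  all_goals
    have hX0 : ∃ v ∈ XX ρ a, v ≠ 0 := by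
      apply Submodule.exists_mem_ne_zero_of_ne_bot
      intro h
      rw [h, finrank_bot] at hXY
      omega
    have hY0 : ∃ v ∈ YY ρ a, v ≠ 0 := by
      apply Submodule.exists_mem_ne_zero_of_ne_bot
      intro h
      apply ha1
      apply hinj
      rw [map_one]
      apply LinearMap.ext
      intro v
      have h1 : ρ a v - v ∈ YY ρ a := ⟨v, rfl⟩
      rw [h, Submodule.mem_bot, sub_eq_zero] at h1
      exact h1
    obtain ⟨x, hx, hx0⟩ := hX0
    obtain ⟨y, hy, hy0⟩ := hY0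
  · rcases hε with rfl | rfl
    · exact ⟨x, hx0, by rw [hzX x hx, one_smul]⟩
    · exact ⟨y, hy0, by rw [hzY y hy, neg_smul, one_smul, neg_neg]⟩
  · rcases hε with rfl | rfl
    · exact ⟨y, hy0, by rw [hzY y hy, one_smul]⟩
    · exact ⟨x, hx0, by rw [hzX x hx, neg_smul, one_smul]⟩

end Cfsg.Agent.H556.OddCore
end

-- part: H556/OddCoreD
section
/-!
# Odd normal subgroups of orthogonal groups of odd index, IV (helper556): scaled frames and sign changes in `Omega`
-/

set_option autoImplicit false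
set_option linter.unusedSectionVars false

namespace Cfsg.Agent.H556.OddCore

open Module QuadraticMap Cfsg.Agent.H556.Om Cfsg.Agent.H167.OP Cfsg.Agent.H170.HL Cfsg.Agent.H170.HL.OmRow

variable {F : Type*} [Field F] {ι : Type} [Fintype ι] [DecidableEq ι] {Q : QuadraticForm F (ι → F)}
variable {J : Type*} [Fintype J] [DecidableEq J] {e : J → ι → F} {c : F}

theorem sc_apply (u v : ι → F) : (c⁻¹ • polarBilin Q) u v = c⁻¹ * polarBilin Q u v := rfl

theorem sc_symm (u v : ι → F) : (c⁻¹ • polarBilin Q) u v = (c⁻¹ • polarBilin Q) v u := by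
  rw [sc_apply, sc_apply, polar_symm]

theorem sc_iso (g : Cfsg.Omega F (⇑Q)) (u v : ι → F) :
    (c⁻¹ • polarBilin Q) (rep (inc (⇑Q)) g u) (rep (inc (⇑Q)) g v) = (c⁻¹ • polarBilin Q) u v := by
  rw [sc_apply, sc_apply, polar_omega]

theorem exists_iso' (h2 : (2 : F) ≠ 0) (hc : c ≠ 0) (hF : Frame (c⁻¹ • polarBilin Q) e) (s : J → F)
    (σ : Equiv.Perm J) (hs : ∀ j, s j * s j = 1) :
    ∃ g : Cfsg.isometryGroup F (⇑Q), rep (inc' (⇑Q)) g = mono (c⁻¹ • polarBilin Q) e s σ := by
  refine exists_of_iso (⇑Q) _ (mono (c⁻¹ • polarBilin Q) e (s ∘ σ.symm) σ.symm) ?_ ?_ (Q_eq_of h2 ?_)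
  · rw [mono_mul hF h2]
    exact mono_one hF h2 (fun j => hs _) fun j => σ.apply_symm_apply j
  · rw [mono_mul hF h2]
    exact mono_one hF h2 (fun j => by simp [hs]) fun j => σ.symm_apply_apply j
  · intro u v
    have h := mono_form (f := c⁻¹ • polarBilin Q) sc_symm hF h2 hs σ.injective u v
    rw [sc_apply, sc_apply] at h
    exact mul_left_cancel₀ (inv_ne_zero hc) h

theorem exists_sg' (hQ : GoodQ Q) (h2 : (2 : F) ≠ 0) (hc : c ≠ 0) (hF : Frame (c⁻¹ • polarBilin Q) e) {i j : J}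
    (hij : i ≠ j) :
    ∃ g : Cfsg.Omega F (⇑Q), rep (inc (⇑Q)) g = mono (c⁻¹ • polarBilin Q) e (sg F i j) id := by
  let s : J → F := fun k => if k = i then -1 else 1
  have hs : ∀ k, s k * s k = 1 := by
    intro k
    simp only [s]
    split_ifs <;> ring
  obtain ⟨g, hg⟩ := exists_iso' h2 hc hF s (Equiv.swap i j) hs
  refine ⟨⟨g * g, hQ.sq g⟩, ?_⟩
  have h1 : rep (inc (⇑Q)) ⟨g * g, hQ.sq g⟩ = rep (inc' (⇑Q)) (g * g) := rfl
  rw [h1, map_mul, hg, mono_mul hF h2]
  refine ext_frame hF h2 (fun k => ?_) fun w hw => ?_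
  · rw [mono_e hF h2, mono_e hF h2]
    have h3 : s k * s (Equiv.swap i j k) = sg F i j k := by
      simp only [s, sg]
      by_cases h4 : k = i
      · subst h4
        rw [Equiv.swap_apply_left, if_pos rfl, if_neg hij.symm, if_pos (Or.inl rfl), mul_one]
      · by_cases h5 : k = j
        · subst h5
          rw [Equiv.swap_apply_right, if_pos rfl, if_neg h4, if_pos (Or.inr rfl), one_mul]
        · rw [Equiv.swap_apply_of_ne_of_ne h4 h5, if_neg h4, if_neg (by (clear * - J i j k h4 h5; tauto)), one_mul]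
    rw [h3]
    congr 1
    show e (Equiv.swap i j (Equiv.swap i j k)) = e k
    rw [Equiv.swap_apply_self]
  · rw [mono_orth hw, mono_orth hw]

theorem sgn_sq (I : Finset J) (k : J) : sgn F I k * sgn F I k = 1 := by
  unfold sgn
  split_ifs <;> ring

/-- even sign changes are in `Omega` -/
theorem exists_sgn (hQ : GoodQ Q) (h2 : (2 : F) ≠ 0) (hc : c ≠ 0) (hF : Frame (c⁻¹ • polarBilin Q) e) (n : ℕ) :
    ∀ I : Finset J, I.card = 2 * n →
    ∃ g : Cfsg.Omega F (⇑Q), rep (inc (⇑Q)) g = mono (c⁻¹ • polarBilin Q) e (sgn F I) id := by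
  induction n with
  | zero =>
    intro I hI
    have h1 : I = ∅ := Finset.card_eq_zero.mp hI
    subst h1
    refine ⟨1, ?_⟩
    rw [map_one]
    exact (mono_one hF h2 (fun j => by simp [sgn]) fun j => rfl).symm
  | succ n ih =>
    intro I hI
    obtain ⟨i, hi, j, hj, hij⟩ := Finset.one_lt_card.mp (show 1 < I.card by omega)
    obtain ⟨g, hg⟩ := ih ((I.erase i).erase j) (by
      rw [Finset.card_erase_of_mem (Finset.mem_erase.mpr ⟨hij.symm, hj⟩), Finset.card_erase_of_mem hi]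
      omega)
    obtain ⟨t, ht⟩ := exists_sg' hQ h2 hc hF hij
    refine ⟨g * t, ?_⟩
    rw [map_mul, hg, ht, mono_mul hF h2]
    congr 1
    funext k
    simp only [sgn, sg, id, Finset.mem_erase]
    by_cases hki : k = i
    · subst hki
      simp [hi]
    · by_cases hkj : k = j
      · subst hkj
        simp [hj]
      · simp [hki, hkj]

/-- the group of sign changes -/
def DG (h2 : (2 : F) ≠ 0) (hF : Frame (c⁻¹ • polarBilin Q) e) : Subgroup (Cfsg.Omega F (⇑Q)) where
  carrier := {x | ∃ s : J → F, (∀ j, s j * s j = 1) ∧ rep (inc (⇑Q)) x = mono (c⁻¹ • polarBilin Q) e s id}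
  one_mem' := ⟨fun _ => 1, fun _ => one_mul 1, by
    rw [map_one]
    exact (mono_one hF h2 (fun _ => rfl) fun _ => rfl).symm⟩
  mul_mem' := by
    rintro x y ⟨s, hs, hx⟩ ⟨t, ht, hy⟩
    refine ⟨fun j => t j * s j, fun j => ?_, ?_⟩
    · calc t j * s j * (t j * s j) = (t j * t j) * (s j * s j) := by ring
        _ = 1 := by rw [hs, ht, one_mul]
    · rw [map_mul, hx, hy, mono_mul hF h2]
      rfl
  inv_mem' := by
    rintro x ⟨s, hs, hx⟩
    refine ⟨s, hs, ?_⟩
    have h1 : x * x = 1 := by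
      apply rep_inj
      rw [map_mul, hx, mono_mul hF h2, map_one]
      exact mono_one hF h2 (fun j => hs j) fun _ => rfl
    rw [← eq_inv_of_mul_eq_one_left (h1 :), hx]

theorem DG_isPGroup (h2 : (2 : F) ≠ 0) (hF : Frame (c⁻¹ • polarBilin Q) e) : IsPGroup 2 (DG h2 hF) := by
  rintro ⟨x, s, hs, hx⟩
  refine ⟨1, Subtype.ext ?_⟩
  show x ^ 2 ^ 1 = 1
  rw [pow_one, pow_two]
  apply rep_inj
  rw [map_mul, hx, mono_mul hF h2, map_one]
  exact mono_one hF h2 (fun j => hs j) fun _ => rfl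

/-- the translated sign changes in a subgroup of odd index -/
theorem exists_frame_in [Finite F] (hQ : GoodQ Q) (h2 : (2 : F) ≠ 0) (hc : c ≠ 0) (hF : Frame (c⁻¹ • polarBilin Q) e)
    {H : Subgroup (Cfsg.Omega F (⇑Q))} (hH : ¬ 2 ∣ H.index) :
    ∃ e' : J → ι → F, Frame (c⁻¹ • polarBilin Q) e' ∧ ∀ I : Finset J, Even I.card →
      ∃ g ∈ H, rep (inc (⇑Q)) g = mono (c⁻¹ • polarBilin Q) e' (sgn F I) id := by
  have hfin : Finite (Cfsg.Omega F (⇑Q)) := inferInstance
  obtain ⟨g, hg⟩ := exists_conj hH (DG_isPGroup h2 hF)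
  refine ⟨fun j => rep (inc (⇑Q)) g (e j), hF.map (sc_iso g), fun I hI => ?_⟩
  obtain ⟨n, hn⟩ := hI
  obtain ⟨x, hx⟩ := exists_sgn hQ h2 hc hF n I (by rw [hn, two_mul])
  refine ⟨g * x * g⁻¹, hg x ⟨sgn F I, sgn_sq I, hx⟩, ?_⟩
  apply LinearMap.ext
  intro v
  rw [mono_comp (g := rep (inc (⇑Q)) g) (g' := rep (inc (⇑Q)) g⁻¹), mul_ap, mul_ap, hx]
  · intro u v
    rw [← sc_iso g u, ap_inv]
  · intro v
    exact ap_inv _ g v

/-- the dimension of the leftover space -/
theorem leftover_dim (h2 : (2 : F) ≠ 0) (hF : Frame (c⁻¹ • polarBilin Q) e) (W : Submodule F (ι → F))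
    (hW : ∀ w, w ∈ W ↔ ∀ j, (c⁻¹ • polarBilin Q) (e j) w = 0) : finrank F W + Fintype.card J = Fintype.card ι := by
  let Φ : (ι → F) →ₗ[F] (J → F) := LinearMap.pi fun j => (c⁻¹ • polarBilin Q) (e j)
  have h1 : W = LinearMap.ker Φ := by
    ext w
    rw [hW, LinearMap.mem_ker]
    constructor
    · intro h
      funext j
      exact h j
    · intro h j
      exact congrFun h j
  have h3 : LinearMap.range Φ = ⊤ := by
    rw [eq_top_iff]
    intro d _
    refine ⟨∑ j, ((2 : F)⁻¹ * d j) • e j, ?_⟩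
    funext i
    show (c⁻¹ • polarBilin Q) (e i) (∑ j, ((2 : F)⁻¹ * d j) • e j) = d i
    rw [map_sum, Finset.sum_eq_single i]
    · rw [map_smul, hF.self, smul_eq_mul]
      field_simp
    · intro j _ hj
      rw [map_smul, hF.orth i j hj.symm, smul_zero]
    · intro h
      exact absurd (Finset.mem_univ i) h
  have h4 := LinearMap.finrank_range_add_finrank_ker Φ
  rw [h3, finrank_top, Module.finrank_pi, Module.finrank_pi] at h4
  rw [h1]
  omega

end Cfsg.Agent.H556.OddCore
end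

-- part: H556/OddCoreE
section
/-!
# Odd normal subgroups of orthogonal groups of odd index, V (helper556): the theorem for `Omega`
-/

set_option autoImplicit false
set_option linter.unusedSectionVars false

namespace Cfsg.Agent.H556.OddCore

open Module QuadraticMap Cfsg.Agent.H556.Om Cfsg.Agent.H167.OP Cfsg.Agent.H170.HL Cfsg.Agent.H170.HL.OmRow

section Frames

variable {F : Type*} [Field F] {ι : Type} [Fintype ι] [DecidableEq ι] {Q : QuadraticForm F (ι → F)}

theorem exists_sumsq [Finite F] (h2 : (2 : F) ≠ 0) (d : F) : ∃ a b : F, a * a + b * b = d := by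
  classical
  have : Fintype F := Fintype.ofFinite F
  obtain ⟨a, b, hab⟩ := FiniteField.exists_root_sum_quadratic (R := F)
    (f := Polynomial.C 1 * Polynomial.X ^ 2 + Polynomial.C 0 * Polynomial.X + Polynomial.C (-d))
    (g := Polynomial.C 1 * Polynomial.X ^ 2 + Polynomial.C 0 * Polynomial.X + Polynomial.C 0)
    (Polynomial.degree_quadratic one_ne_zero) (Polynomial.degree_quadratic one_ne_zero) (by
      have hchar : ringChar F ≠ 2 := by
        intro h
        apply h2
        have := ringChar.Nat.cast_ringChar (R := F)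
        rw [h] at this
        exact_mod_cast this
      exact FiniteField.odd_card_of_char_ne_two hchar)
  refine ⟨a, b, ?_⟩
  simp only [Polynomial.eval_add, Polynomial.eval_mul, Polynomial.eval_pow, Polynomial.eval_C, Polynomial.eval_X]
    at hab
  linear_combination hab

theorem exists_scaled [Finite F] (hnd : (polarBilin Q).Nondegenerate) (h2 : (2 : F) ≠ 0) (hN : 1 ≤ Fintype.card ι) :
    ∃ (c : F) (_ : c ≠ 0) (J : Type) (_ : Fintype J) (_ : DecidableEq J) (e : J → ι → F),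
      Frame (c⁻¹ • polarBilin Q) e ∧ (Fintype.card J = Fintype.card ι ∨
        (Fintype.card J + 1 = Fintype.card ι ∧ Even (Fintype.card ι))) := by
  have hF0 : Frame (polarBilin Q) (fun i : Fin 0 => (i.elim0 : ι → F)) := ⟨fun i => i.elim0, fun i => i.elim0⟩
  rcases Nat.even_or_odd (Fintype.card ι) with hev | ⟨m, hm⟩
  · obtain ⟨x, hx, -⟩ := exists_frames hnd h2 hF0 (Fintype.card ι - 1) (by
      rw [Fintype.card_fin]; omega)
    refine ⟨1, one_ne_zero, Fin (Fintype.card ι - 1), inferInstance, inferInstance, x, ?_, Or.inr ⟨?_, hev⟩⟩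
    · rw [inv_one, one_smul]
      exact hx
    · rw [Fintype.card_fin]; omega
  · obtain ⟨x₀, hx₀, -⟩ := exists_frames hnd h2 hF0 (2 * m) (by
      rw [Fintype.card_fin]; omega)
    let ε : Fin m × Bool ≃ Fin (2 * m) := Fintype.equivOfCardEq (by
      rw [Fintype.card_prod, Fintype.card_fin, Fintype.card_fin, Fintype.card_bool, mul_comm])
    let x : Fin m × Bool → ι → F := x₀ ∘ ε
    have hx : Frame (polarBilin Q) x := hx₀.comp ε.injective
    obtain ⟨w, hw, hww⟩ := exists_next hnd h2 (x := x) (fun j => by rw [hx.self]; exact h2) hx.orth (by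
      rw [Fintype.card_prod, Fintype.card_fin, Fintype.card_bool]; omega)
    set! d : F := (2 : F)⁻¹ * polarBilin Q w w with hd
    have hd0 : d ≠ 0 := mul_ne_zero (inv_ne_zero h2) hww
    obtain ⟨a, b, hab⟩ := exists_sumsq h2 d
    let e : Option (Fin m × Bool) → ι → F := fun o => o.elim w fun j =>
      if j.2 then a • x (j.1, true) + b • x (j.1, false) else (-b) • x (j.1, true) + a • x (j.1, false)
    have hxt : ∀ i, e (some (i, true)) = a • x (i, true) + b • x (i, false) := fun _ => rfl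
    have hxf : ∀ i, e (some (i, false)) = (-b) • x (i, true) + a • x (i, false) := fun _ => rfl
    have hne : ∀ (i k : Fin m) (s t : Bool), i ≠ k → polarBilin Q (x (i, s)) (x (k, t)) = 0 := fun i k s t h =>
      hx.orth _ _ fun h' => h (congrArg Prod.fst h')
    have htf : ∀ i, polarBilin Q (x (i, true)) (x (i, false)) = 0 := fun i => hx.orth _ _ (by simp)
    have hft : ∀ i, polarBilin Q (x (i, false)) (x (i, true)) = 0 := fun i => hx.orth _ _ (by simp)
    have hwx : ∀ j, polarBilin Q w (x j) = 0 := fun j => by rw [polar_symm, hw]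
    refine ⟨d, hd0, Option (Fin m × Bool), inferInstance, inferInstance, e, ⟨?_, ?_⟩, Or.inl ?_⟩
    · rintro (_ | ⟨i, _ | _⟩)
      · show d⁻¹ * polarBilin Q w w = 2
        rw [inv_mul_eq_iff_eq_mul₀ hd0, hd]
        field_simp
      · rw [sc_apply, hxf, inv_mul_eq_iff_eq_mul₀ hd0]
        simp only [map_add, map_smul, LinearMap.add_apply, LinearMap.smul_apply, smul_eq_mul, hx.self, htf, hft]
        linear_combination 2 * hab
      · rw [sc_apply, hxt, inv_mul_eq_iff_eq_mul₀ hd0]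
        simp only [map_add, map_smul, LinearMap.add_apply, LinearMap.smul_apply, smul_eq_mul, hx.self, htf, hft]
        linear_combination 2 * hab
    · have hwe : ∀ j, polarBilin Q w (e (some j)) = 0 := by
        rintro ⟨i, _ | _⟩
        · rw [hxf, map_add, map_smul, map_smul, hwx, hwx, smul_zero, smul_zero, add_zero]
        · rw [hxt, map_add, map_smul, map_smul, hwx, hwx, smul_zero, smul_zero, add_zero]
      rintro (_ | ⟨i, s⟩) (_ | ⟨k, t⟩) hij
      · exact absurd rfl hij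
      · rw [sc_apply]
        show d⁻¹ * polarBilin Q w (e (some (k, t))) = 0
        rw [hwe, mul_zero]
      · rw [sc_symm, sc_apply]
        show d⁻¹ * polarBilin Q w (e (some (i, s))) = 0
        rw [hwe, mul_zero]
      · rw [sc_apply]
        have key : polarBilin Q (e (some (i, s))) (e (some (k, t))) = 0 := by
          by_cases hik : i = k
          · subst hik
            cases s <;> cases t
            · exact absurd rfl hij
            · rw [hxf, hxt]
              simp only [map_add, map_smul, LinearMap.add_apply, LinearMap.smul_apply, smul_eq_mul, hx.self, htf, hft]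
              ring
            · rw [hxf, hxt]
              simp only [map_add, map_smul, LinearMap.add_apply, LinearMap.smul_apply, smul_eq_mul, hx.self, htf, hft]
              ring
            · exact absurd rfl hij
          · cases s <;> cases t <;> simp only [hxf, hxt, map_add, map_smul, LinearMap.add_apply,
              LinearMap.smul_apply, smul_eq_mul, hne _ _ _ _ hik, mul_zero, add_zero]
        rw [key, mul_zero]
    · rw [Fintype.card_option, Fintype.card_prod, Fintype.card_fin, Fintype.card_bool]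
      omega

/-- **the theorem in `Omega`** -/
theorem exists_invol [Finite F] (hQ : GoodQ Q) (h2 : (2 : F) ≠ 0) (hN : 5 ≤ Fintype.card ι)
    {H : Subgroup (Cfsg.Omega F (⇑Q))} (hH : ¬ 2 ∣ H.index) (hcH : (Nat.card H : F) ≠ 0) {A : Subgroup H}
    [hA' : A.Normal] (hA : A ≠ ⊥) (hab : ∀ a ∈ A, ∀ b ∈ A, a * b = b * a) (hodd : Odd (Nat.card A)) :
    ∃ z : H, z * z = 1 ∧ (∀ g : H, z * (g * z * g⁻¹) = g * z * g⁻¹ * z) ∧
      (∃ v, v ≠ 0 ∧ rep (inc (⇑Q)) (z : Cfsg.Omega F (⇑Q)) v = v) ∧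
      (∃ v, v ≠ 0 ∧ rep (inc (⇑Q)) (z : Cfsg.Omega F (⇑Q)) v = -v) := by
  have hfin : Finite (Cfsg.Omega F (⇑Q)) := inferInstance
  obtain ⟨c, hc, J, _, _, e₀, hF₀, hcard⟩ := exists_scaled hQ.nd h2 (by omega)
  obtain ⟨e, hF, hD⟩ := exists_frame_in hQ h2 hc hF₀ hH
  let ρ : Representation F H (ι → F) := (rep (inc (⇑Q))).comp H.subtype
  have hρ : ∀ g : H, ρ g = rep (inc (⇑Q)) (g : Cfsg.Omega F (⇑Q)) := fun _ => rfl
  let W : Submodule F (ι → F) := ⨅ j, LinearMap.ker ((c⁻¹ • polarBilin Q) (e j))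
  have hW : ∀ w, w ∈ W ↔ ∀ j, (c⁻¹ • polarBilin Q) (e j) w = 0 := by
    intro w
    simp only [W, Submodule.mem_iInf, LinearMap.mem_ker]
  have hWd := leftover_dim h2 hF W hW
  have hfr : finrank F (ι → F) = Fintype.card ι := Module.finrank_pi F
  refine main (ρ := ρ) (f := c⁻¹ • polarBilin Q) (e := e) (A := A) ?_ h2 sc_symm ?_ (fun g u v => sc_iso _ u v) hF
    ?_ ?_ (by rw [hfr]; exact hN) (by omega) ?_ hcH hA hab hodd
  · intro x y hxy
    exact Subtype.ext (rep_inj hxy)
  · intro x hx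
    apply hQ.nd.1
    intro y
    have h := hx y
    rw [sc_apply] at h
    exact (mul_eq_zero.mp h).resolve_left (inv_ne_zero hc)
  · intro w w' hw hw' hw0
    have h1 : finrank F W = 1 := by
      have h3 : finrank F W ≠ 0 := by
        intro h0
        rw [Submodule.finrank_eq_zero] at h0
        have h4 := (hW w).mpr hw
        rw [h0, Submodule.mem_bot] at h4
        exact hw0 h4
      omega
    obtain ⟨d, hd⟩ := (finrank_eq_one_iff_of_nonzero' (⟨w, (hW w).mpr hw⟩ : W)
      (fun h => hw0 (congrArg Subtype.val h))).mp h1 ⟨w', (hW w').mpr hw'⟩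
    exact ⟨d, (congrArg Subtype.val hd).symm⟩
  · rcases hcard with h | ⟨-, h⟩
    · left
      intro w hw
      have h3 : finrank F W = 0 := by omega
      rw [Submodule.finrank_eq_zero] at h3
      have h4 := (hW w).mpr hw
      rwa [h3, Submodule.mem_bot] at h4
    · right
      rw [hfr]
      exact h
  · intro I hI
    obtain ⟨g, hg, hgI⟩ := hD I hI
    exact ⟨⟨g, hg⟩, hgI⟩

end Frames

/-! ### From the involution to a normal 2-subgroup -/

theorem isPGroup_closure {G : Type*} [Group G] {S : Set G} (hS : ∀ x ∈ S, ∀ y ∈ S, x * y = y * x)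
    (h2 : ∀ x ∈ S, x * x = 1) : IsPGroup 2 (Subgroup.closure S) := by
  have h1 : Subgroup.closure S ≤ Subgroup.centralizer S := by
    rw [Subgroup.closure_le]
    intro x hx
    rw [SetLike.mem_coe, Subgroup.mem_centralizer_iff]
    exact fun y hy => hS y hy x hx
  have h3 : ∀ x ∈ Subgroup.closure S, x * x = 1 := by
    intro x hx
    induction hx using Subgroup.closure_induction with
    | mem x hx => exact h2 x hx
    | one => exact one_mul 1
    | mul x y hx hy hx1 hy1 =>
      have h4 : Subgroup.closure S ≤ Subgroup.centralizer (Subgroup.closure S : Set G) := by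
        rw [Subgroup.closure_le]
        intro s hs
        rw [SetLike.mem_coe, Subgroup.mem_centralizer_iff]
        intro t ht
        exact ((Subgroup.mem_centralizer_iff.mp (h1 ht)) s hs).symm
      have h5 : x * y = y * x := ((Subgroup.mem_centralizer_iff.mp (h4 hy)) x hx)
      calc x * y * (x * y) = x * y * (y * x) := by rw [← h5]
        _ = x * (y * y) * x := by group
        _ = 1 := by rw [hy1, mul_one, hx1]
    | inv x hx hx1 => rw [← mul_inv_rev, hx1, inv_one]
  rintro ⟨x, hx⟩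
  refine ⟨1, Subtype.ext ?_⟩
  show x ^ 2 ^ 1 = 1
  rw [pow_one, pow_two]
  exact h3 x hx

/-- the normal closure of an involution all conjugates of which commute -/
theorem exists_normal {G : Type*} [Group G] {z : G} (hz : z * z = 1) (hc : ∀ g : G, z * (g * z * g⁻¹) = g * z * g⁻¹ * z) :
    ∃ N : Subgroup G, N.Normal ∧ z ∈ N ∧ IsPGroup 2 N := by
  refine ⟨Subgroup.normalClosure {z}, inferInstance, Subgroup.subset_normalClosure rfl, ?_⟩
  unfold Subgroup.normalClosure
  refine isPGroup_closure ?_ ?_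
  · intro x hx y hy
    rw [Group.mem_conjugatesOfSet_iff] at hx hy
    obtain ⟨a, ha, hx⟩ := hx
    obtain ⟨b, hb, hy⟩ := hy
    rw [Set.mem_singleton_iff.mp ha] at hx
    rw [Set.mem_singleton_iff.mp hb] at hy
    obtain ⟨g, rfl⟩ := isConj_iff.mp hx
    obtain ⟨h, rfl⟩ := isConj_iff.mp hy
    have h1 := hc (g⁻¹ * h)
    have h3 : g * (z * (g⁻¹ * h * z * (g⁻¹ * h)⁻¹)) * g⁻¹ = g * (g⁻¹ * h * z * (g⁻¹ * h)⁻¹ * z) * g⁻¹ := by rw [h1]
    have h4 : g * (z * (g⁻¹ * h * z * (g⁻¹ * h)⁻¹)) * g⁻¹ = g * z * g⁻¹ * (h * z * h⁻¹) := by group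
    have h5 : g * (g⁻¹ * h * z * (g⁻¹ * h)⁻¹ * z) * g⁻¹ = h * z * h⁻¹ * (g * z * g⁻¹) := by group
    rw [← h4, ← h5, h3]
  · intro x hx
    rw [Group.mem_conjugatesOfSet_iff] at hx
    obtain ⟨a, ha, hx⟩ := hx
    rw [Set.mem_singleton_iff.mp ha] at hx
    obtain ⟨g, rfl⟩ := isConj_iff.mp hx
    calc g * z * g⁻¹ * (g * z * g⁻¹) = g * (z * z) * g⁻¹ := by group
      _ = 1 := by rw [hz, mul_one, mul_inv_cancel]

/-- the odd part of a central extension of an abelian group of odd order by involutions -/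
theorem exists_lift {K S : Type*} [Group K] [Finite K] [Group S] (φ : K →* S) (hφ : Function.Surjective φ)
    (hker : ∀ k, φ k = 1 → k * k = 1 ∧ ∀ g, g * k = k * g) {C H : Subgroup S} (hCH : C ≤ H) (hC1 : C ≠ ⊥) {n : ℕ}
    (hn : Odd n) (hCn : ∀ c ∈ C, c ^ n = 1) (hCa : ∀ a ∈ C, ∀ b ∈ C, a * b = b * a)
    (hCH' : ∀ h ∈ H, ∀ c ∈ C, h * c * h⁻¹ ∈ C) :
    ∃ A : Subgroup (H.comap φ), A.Normal ∧ A ≠ ⊥ ∧ (∀ a ∈ A, ∀ b ∈ A, a * b = b * a) ∧ Odd (Nat.card A) := by
  have hcomm : ∀ x y : K, φ x ∈ C → φ y ∈ C → x ^ n = 1 → y ^ n = 1 → x * y = y * x := by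
    intro x y hx hy hxn hyn
    have hk : φ (x * y * x⁻¹ * y⁻¹) = 1 := by
      rw [map_mul, map_mul, map_mul, map_inv, map_inv, hCa _ hx _ hy]
      group
    set k := x * y * x⁻¹ * y⁻¹ with hkdef
    obtain ⟨hk2, hkc⟩ := hker k hk
    have h1 : x * y * x⁻¹ = k * y := by rw [hkdef]; group
    have h3 : (k * y) ^ n = 1 := by
      rw [← h1, conj_pow, hyn]
      group
    have h4 : k ^ n = 1 := by
      have h5 : Commute k y := (hkc y).symm
      rw [h5.mul_pow, hyn, mul_one] at h3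
      exact h3
    have h5 : k = 1 := by
      obtain ⟨m, hm⟩ := hn
      rw [hm, pow_succ, pow_mul, pow_two, hk2, one_pow, one_mul] at h4
      exact h4
    rw [h5, one_mul] at h1
    calc x * y = (x * y * x⁻¹) * x := by group
      _ = y * x := by rw [h1]
  let A : Subgroup (H.comap φ) :=
    { carrier := {x | φ x ∈ C ∧ x ^ n = 1}
      one_mem' := ⟨by rw [OneMemClass.coe_one, map_one]; exact C.one_mem, one_pow n⟩
      mul_mem' := by
        rintro x y ⟨hx, hxn⟩ ⟨hy, hyn⟩
        refine ⟨by rw [Subgroup.coe_mul, map_mul]; exact C.mul_mem hx hy, ?_⟩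
        have h1 : Commute x y := Subtype.ext (hcomm x y hx hy (congrArg Subtype.val hxn) (congrArg Subtype.val hyn))
        rw [h1.mul_pow, hxn, hyn, one_mul]
      inv_mem' := by
        rintro x ⟨hx, hxn⟩
        exact ⟨by rw [Subgroup.coe_inv, map_inv]; exact C.inv_mem hx, by rw [inv_pow, hxn, inv_one]⟩ }
  refine ⟨A, ⟨?_⟩, ?_, ?_, ?_⟩
  · rintro x ⟨hx, hxn⟩ g
    refine ⟨?_, ?_⟩
    · rw [Subgroup.coe_mul, Subgroup.coe_mul, Subgroup.coe_inv, map_mul, map_mul, map_inv]
      exact hCH' _ g.2 _ hx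
    · rw [conj_pow, hxn, mul_one, mul_inv_cancel]
  · obtain ⟨⟨c, hc⟩, hc1⟩ := (Subgroup.ne_bot_iff_exists_ne_one).mp hC1
    obtain ⟨x, rfl⟩ := hφ c
    intro hbot
    have hx : φ (x ^ n) = 1 := by rw [map_pow, hCn _ hc]
    obtain ⟨h1, -⟩ := hker _ hx
    have hmem : x * x ∈ H.comap φ := by
      show φ (x * x) ∈ H
      rw [map_mul]
      exact hCH (C.mul_mem hc hc)
    have h3 : (⟨x * x, hmem⟩ : H.comap φ) ∈ A := by
      refine ⟨?_, Subtype.ext ?_⟩
      · show φ (x * x) ∈ C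
        rw [map_mul]
        exact C.mul_mem hc hc
      · show (x * x) ^ n = 1
        rw [(Commute.refl x).mul_pow, h1]
    rw [hbot, Subgroup.mem_bot] at h3
    have h4 : x * x = 1 := congrArg Subtype.val h3
    have h5 : φ x * φ x = 1 := by rw [← map_mul, h4, map_one]
    have h6 : φ x = 1 := by
      have h7 := hCn _ hc
      obtain ⟨m, hm⟩ := hn
      rw [hm, pow_succ, pow_mul, pow_two, h5, one_pow, one_mul] at h7
      exact h7
    exact hc1 (Subtype.ext h6)
  · rintro x ⟨hx, hxn⟩ y ⟨hy, hyn⟩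
    exact Subtype.ext (hcomm x y hx hy (congrArg Subtype.val hxn) (congrArg Subtype.val hyn))
  · by_contra hcon
    rw [Nat.not_odd_iff_even, even_iff_two_dvd] at hcon
    have : Fact (Nat.Prime 2) := ⟨Nat.prime_two⟩
    obtain ⟨⟨x, hx, hxn⟩, hx2⟩ := exists_prime_orderOf_dvd_card' (G := A) 2 hcon
    have h1 : orderOf (⟨x, hx, hxn⟩ : A) ∣ n := orderOf_dvd_of_pow_eq_one (Subtype.ext hxn)
    rw [hx2] at h1
    exact absurd h1 (Nat.two_dvd_ne_zero.mpr (Nat.odd_iff.mp hn))

/-- **the theorem in `POmega`** -/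
theorem nAt_of_odd {S : Type*} [Group S] [Finite S] {F : Type} [Field F] [Finite F] {p : ℕ} [CharP F p]
    (hp : p.Prime) (h2 : (2 : F) ≠ 0) {ι : Type} [Fintype ι] [DecidableEq ι] {Q : QuadraticForm F (ι → F)}
    (hQ : GoodQ Q) (hN : 5 ≤ Fintype.card ι) {Q' : (ι → F) → F} (hQQ : ⇑Q = Q') (e : S ≃* Cfsg.POmega F Q')
    {H : Subgroup S} (hH : ¬ 2 ∣ H.index) (hpH : ¬ p ∣ Nat.card H) {r : ℕ} (hr : r.Prime) (hr2 : r ≠ 2)
    {B : Subgroup S} (hBH : B ≤ H) (hB1 : B ≠ ⊥) (hBr : IsPGroup r B) (hBn : ∀ h ∈ H, ∀ b ∈ B, h * b * h⁻¹ ∈ B) :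
    Cfsg.Agent.H165.RV.NAt H := by
  subst hQQ
  have hfin : Finite (Cfsg.Omega F (⇑Q)) := inferInstance
  have := Fact.mk hr
  let φ : Cfsg.Omega F (⇑Q) →* S :=
    ((e.symm : Cfsg.POmega F (⇑Q) →* S).comp
      (QuotientGroup.mk' (Subgroup.center (Cfsg.Omega F (⇑Q)))) :)
  have hφ : Function.Surjective φ :=
    e.symm.surjective.comp (QuotientGroup.mk'_surjective _)
  have hφc : ∀ k, φ k = 1 → k ∈ Subgroup.center (Cfsg.Omega F (⇑Q)) := by
    intro k h
    rw [← QuotientGroup.eq_one_iff]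
    exact e.symm.injective (h.trans (map_one e.symm).symm)
  have hφ0 : ∀ k, φ k = 1 → inc (⇑Q) k = 1 ∨ inc (⇑Q) k = -1 := fun k h =>
    (Cfsg.Agent.LieClassical.OmegaCenter.mem_center_omega_iff Q hQ.nd hQ.card hQ.sing k).mp (hφc k h)
  have hφ1 : ∀ k, φ k = 1 → k * k = 1 := by
    intro k hk
    apply inc_injective
    rw [map_mul, map_one]
    rcases hφ0 k hk with h | h
    · rw [h, one_mul]
    · rw [h, neg_mul_neg, one_mul]
  -- the centre of `B`
  have hBfin : Finite B := inferInstance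
  have hBnt : Nontrivial B := (Subgroup.nontrivial_iff_ne_bot B).mpr hB1
  have hZ : Nontrivial (Subgroup.center B) := hBr.center_nontrivial
  let C : Subgroup S := (Subgroup.center B).map B.subtype
  have hCB : C ≤ B := Subgroup.map_subtype_le _
  have hC1 : C ≠ ⊥ := by
    intro h
    rw [Subgroup.map_eq_bot_iff_of_injective _ B.subtype_injective] at h
    exact (Subgroup.nontrivial_iff_ne_bot _).mp hZ h
  have hCB' : ∀ c ∈ C, ∀ b ∈ B, c * b = b * c := by
    rintro _ ⟨c, hc, rfl⟩ b hb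
    exact (congrArg Subtype.val (Subgroup.mem_center_iff.mp hc ⟨b, hb⟩)).symm
  have hCn : ∀ h ∈ H, ∀ c ∈ C, h * c * h⁻¹ ∈ C := by
    intro h hh c hc
    have h1 : h * c * h⁻¹ ∈ B := hBn h hh c (hCB hc)
    refine ⟨⟨h * c * h⁻¹, h1⟩, ?_, rfl⟩
    rw [SetLike.mem_coe, Subgroup.mem_center_iff]
    rintro ⟨b, hb⟩
    apply Subtype.ext
    show b * (h * c * h⁻¹) = h * c * h⁻¹ * b
    have h3 : h⁻¹ * b * h ∈ B := by
      have := hBn h⁻¹ (H.inv_mem hh) b hb
      rwa [inv_inv] at this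
    have h4 := hCB' c hc _ h3
    calc b * (h * c * h⁻¹) = h * (h⁻¹ * b * h * c) * h⁻¹ := by group
      _ = h * (c * (h⁻¹ * b * h)) * h⁻¹ := by rw [h4]
      _ = h * c * h⁻¹ * b := by group
  have hodd : Odd (Nat.card B) := by
    obtain ⟨m, hm⟩ := hBr.exists_card_eq
    rw [hm]
    exact (hr.odd_of_ne_two hr2).pow
  obtain ⟨A, hAn, hA1, hAa, hAo⟩ := exists_lift φ hφ (fun k hk => ⟨hφ1 k hk, fun g =>
    Subgroup.mem_center_iff.mp (hφc k hk) g⟩) (hCB.trans hBH) hC1 hodd (fun c hc => by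
      have := pow_card_eq_one' (x := (⟨c, hCB hc⟩ : B))
      exact congrArg Subtype.val this) (fun a ha b hb => hCB' a ha b (hCB hb)) hCn
  -- the preimage
  have hcard : (Nat.card (H.comap φ) : F) ≠ 0 := by
    intro h0
    rw [CharP.cast_eq_zero_iff F p] at h0
    have := Fact.mk hp
    obtain ⟨x, hx⟩ := exists_prime_orderOf_dvd_card' (G := H.comap φ) p h0
    by_cases h1 : φ (x : Cfsg.Omega F (⇑Q)) = 1
    · have h3 : x * x = 1 := Subtype.ext (hφ1 _ h1)
      have h4 : p ∣ 2 := by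
        rw [← hx]
        exact orderOf_dvd_of_pow_eq_one (by rw [pow_two]; exact h3)
      have h5 := (Nat.prime_dvd_prime_iff_eq hp Nat.prime_two).mp h4
      apply h2
      have h6 := CharP.cast_eq_zero F p
      rw [h5] at h6
      exact_mod_cast h6
    · apply hpH
      let z : H := ⟨φ x, x.2⟩
      have h3 : z ^ p = 1 := by
        apply Subtype.ext
        show (φ x) ^ p = 1
        rw [← map_pow]
        have : x ^ p = 1 := by rw [← hx, pow_orderOf_eq_one]
        have h4 : (x : Cfsg.Omega F (⇑Q)) ^ p = 1 := congrArg Subtype.val this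
        rw [h4, map_one]
      have h4 : orderOf z = p := orderOf_eq_prime h3 fun h => h1 (congrArg Subtype.val h)
      rw [← h4]
      exact orderOf_dvd_natCard z
  obtain ⟨z, hz1, hz2, ⟨v, hv0, hv⟩, w, hw0, hw⟩ := exists_invol hQ h2 hN (H := H.comap φ)
    (by rw [Subgroup.index_comap_of_surjective H hφ]; exact hH) hcard hA1 hAa hAo
  obtain ⟨N, hN1, hzN, hN2⟩ := exists_normal hz1 hz2
  let ψ : H.comap φ →* S := φ.comp (H.comap φ).subtype
  refine Cfsg.Agent.H165.RV.NAt.of_isPGroup (N := N.map ψ) ?_ ?_ (hN2.map ψ) ?_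
  · intro h
    have h1 : ψ z ∈ N.map ψ := ⟨z, hzN, rfl⟩
    rw [h, Subgroup.mem_bot] at h1
    rcases hφ0 (z : Cfsg.Omega F (⇑Q)) h1 with h3 | h3
    · have h4 : rep (inc (⇑Q)) (z : Cfsg.Omega F (⇑Q)) w = w := by
        have h5 : (z : Cfsg.Omega F (⇑Q)) = 1 := inc_injective (h3.trans (map_one _).symm)
        rw [h5, one_ap]
      rw [hw] at h4
      have h5 : (2 : F) • w = 0 := by
        rw [two_smul]
        nth_rewrite 1 [← h4]
        exact neg_add_cancel w
      exact hw0 ((smul_eq_zero.mp h5).resolve_left h2)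
    · have h4 : rep (inc (⇑Q)) (z : Cfsg.Omega F (⇑Q)) v = -v := by
        rw [rep_apply, h3, Matrix.neg_mulVec, Matrix.one_mulVec]
      rw [hv] at h4
      have h5 : (2 : F) • v = 0 := by
        rw [two_smul]
        nth_rewrite 1 [h4]
        exact neg_add_cancel v
      exact hv0 ((smul_eq_zero.mp h5).resolve_left h2)
  · rintro _ ⟨n, -, rfl⟩
    exact n.2
  · rintro h hh _ ⟨n, hn, rfl⟩
    obtain ⟨g, rfl⟩ := hφ h
    let g' : H.comap φ := ⟨g, hh⟩
    refine ⟨g' * n * g'⁻¹, hN1.conj_mem n hn g', ?_⟩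
    rw [map_mul, map_mul, map_inv]
    rfl

end Cfsg.Agent.H556.OddCore
end

-- part: H340/RV/Iso
section
/-!
# Isometries supported on small subspaces (helper340)
-/

set_option autoImplicit false

namespace Cfsg.Agent.H340.RV

open Module Polynomial

section Rv

variable {F : Type*} [Field F]

/-- the reversed polynomial -/
noncomputable def rv (f : F[X]) : F[X] :=
  ∑ i ∈ Finset.range (f.natDegree + 1), C (f.coeff i) * X ^ (f.natDegree - i)

theorem natDegree_rv_le (f : F[X]) : (rv f).natDegree ≤ f.natDegree := by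
  refine natDegree_sum_le_of_forall_le _ _ fun i _ => ?_
  exact (natDegree_C_mul_X_pow_le _ _).trans (Nat.sub_le _ _)

theorem eval_rv (f : F[X]) : (rv f).eval 0 = f.leadingCoeff := by
  rw [rv, eval_finsetSum, Finset.sum_range_succ, Finset.sum_eq_zero, zero_add, Nat.sub_self, pow_zero, mul_one,
    eval_C]
  · rfl
  · intro i hi
    have h1 : i < f.natDegree := Finset.mem_range.1 hi
    rw [eval_mul, eval_pow, eval_X, zero_pow (by omega), mul_zero]

theorem rv_ne_zero {f : F[X]} (hf : f ≠ 0) : rv f ≠ 0 := by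
  intro h
  have h1 := eval_rv f
  rw [h, eval_zero] at h1
  exact hf (leadingCoeff_eq_zero.1 h1.symm)

theorem pow_mul_pow_eq {A : Type*} [Ring A] {x y : A} (h : x * y = 1) (i : ℕ) : x ^ i * y ^ i = 1 := by
  induction i with
  | zero => simp
  | succ i ih => rw [pow_succ, pow_succ', mul_assoc, ← mul_assoc x y, h, one_mul, ih]

theorem aeval_rv {A : Type*} [Ring A] [Algebra F A] {x y : A} (h : x * y = 1) (f : F[X]) :
    aeval x (rv f) = x ^ f.natDegree * aeval y f := by
  rw [rv, map_sum, aeval_eq_sum_range, Finset.mul_sum]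
  refine Finset.sum_congr rfl fun i hi => ?_
  have h1 : i ≤ f.natDegree := Nat.lt_succ_iff.1 (Finset.mem_range.1 hi)
  rw [map_mul, map_pow, aeval_X, aeval_C, mul_smul_comm, Algebra.smul_def]
  congr 1
  conv_rhs => rw [← Nat.sub_add_cancel h1, pow_add, mul_assoc, pow_mul_pow_eq h, mul_one]

end Rv

section Cyc

variable {F V : Type*} [Field F] [AddCommGroup V] [Module F V]

/-- the cyclic module -/
noncomputable def cyc (T : End F V) (v : V) : Submodule F V :=
  LinearMap.range ((LinearMap.applyₗ v) ∘ₗ (aeval (R := F) T).toLinearMap)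

theorem mem_cyc {T : End F V} {v w : V} : w ∈ cyc T v ↔ ∃ g : F[X], aeval T g v = w := Iff.rfl

theorem self_mem_cyc (T : End F V) (v : V) : v ∈ cyc T v := ⟨1, by simp⟩

theorem aeval_mem_cyc {T : End F V} {v w : V} (hw : w ∈ cyc T v) (g : F[X]) : aeval T g w ∈ cyc T v := by
  obtain ⟨h, rfl⟩ := mem_cyc.1 hw
  refine mem_cyc.2 ⟨g * h, ?_⟩
  rw [map_mul]
  rfl

theorem aeval_zero_of_mem_cyc {T : End F V} {v w : V} (hw : w ∈ cyc T v) {g : F[X]} (hg : aeval T g v = 0) :
    aeval T g w = 0 := by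
  obtain ⟨h, rfl⟩ := mem_cyc.1 hw
  rw [← Module.End.mul_apply, ← map_mul, mul_comm, map_mul, Module.End.mul_apply, hg, map_zero]

theorem finrank_cyc_le {T : End F V} {v : V} {f : F[X]} (hf : f.Monic) (hv : aeval T f v = 0) :
    finrank F (cyc T v) ≤ f.natDegree := by
  have h1 : cyc T v ≤ (degreeLT F f.natDegree).map ((LinearMap.applyₗ v) ∘ₗ (aeval (R := F) T).toLinearMap) := by
    rintro _ ⟨g, rfl⟩
    refine ⟨g %ₘ f, ?_, ?_⟩
    · rw [SetLike.mem_coe, mem_degreeLT]
      refine (degree_modByMonic_lt g hf).trans_le ?_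
      exact degree_le_natDegree
    · show aeval T (g %ₘ f) v = aeval T g v
      conv_rhs => rw [← modByMonic_add_div g f]
      rw [map_add, LinearMap.add_apply, mul_comm, map_mul, Module.End.mul_apply, hv, map_zero, add_zero]
  have h2 : Module.Finite F (degreeLT F f.natDegree) := Module.Finite.equiv (degreeLTEquiv F f.natDegree).symm
  refine (Submodule.finrank_mono h1).trans ((Submodule.finrank_map_le _ _).trans ?_)
  rw [LinearEquiv.finrank_eq (degreeLTEquiv F f.natDegree), Module.finrank_fin_fun]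

theorem exists_aeval_eq {T : End F V} {v w : V} {f : F[X]} (hf : Irreducible f) (hv : aeval T f v = 0)
    (hw : w ∈ cyc T v) (hw0 : w ≠ 0) : ∃ h : F[X], aeval T h w = v := by
  obtain ⟨g, rfl⟩ := mem_cyc.1 hw
  have h1 : IsCoprime f g := by
    rw [hf.coprime_iff_not_dvd]
    rintro ⟨k, rfl⟩
    apply hw0
    rw [mul_comm, map_mul, Module.End.mul_apply, hv, map_zero]
  obtain ⟨a, b, hab⟩ := h1
  refine ⟨b, ?_⟩
  have h2 : aeval T (a * f + b * g) v = v := by rw [hab, map_one, Module.End.one_apply]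
  rwa [map_add, LinearMap.add_apply, map_mul, map_mul, Module.End.mul_apply, Module.End.mul_apply, hv, map_zero,
    zero_add] at h2

end Cyc

section Form

variable {F V : Type*} [Field F] [AddCommGroup V] [Module F V] {B : V →ₗ[F] V →ₗ[F] F}

theorem adj {T S : End F V} (h : ∀ u v, B (T u) v = B u (S v)) (g : F[X]) (u v : V) :
    B (aeval T g u) v = B u (aeval S g v) := by
  have h1 : ∀ (i : ℕ) (u v : V), B ((T ^ i) u) v = B u ((S ^ i) v) := by
    intro i
    induction i with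
    | zero => intro u v; rfl
    | succ i ih =>
      intro u v
      rw [pow_succ', Module.End.mul_apply, h, ih, ← Module.End.mul_apply, ← pow_succ]
  induction g using Polynomial.induction_on' with
  | add p q hp hq => rw [map_add, map_add, LinearMap.add_apply, LinearMap.add_apply, map_add, map_add,
      LinearMap.add_apply, hp, hq]
  | monomial n a =>
    rw [aeval_monomial, aeval_monomial, Module.End.mul_apply, Module.End.mul_apply, Module.algebraMap_end_apply,
      Module.algebraMap_end_apply, map_smul, LinearMap.smul_apply, map_smul, h1]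

/-- Extension by the identity on the orthogonal complement. -/
theorem exists_ext [FiniteDimensional F V] (hs : ∀ u v, B u v = B v u) {T : V ≃ₗ[F] V}
    (hT : ∀ u v, B (T u) (T v) = B u v) {W : Submodule F V} (hW : ∀ w ∈ W, T w ∈ W) (hW' : ∀ w ∈ W, T.symm w ∈ W)
    (hd : ∀ w ∈ W, (∀ u ∈ W, B u w = 0) → w = 0) :
    ∃ y : V ≃ₗ[F] V, (∀ u v, B (y u) (y v) = B u v) ∧ (∀ w ∈ W, y w = T w) ∧ (∀ w, (∀ u ∈ W, B u w = 0) → y w = w) ∧
      (∀ v, ∃ a ∈ W, ∃ b, (∀ u ∈ W, B u b = 0) ∧ v = a + b) := by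
  have h0 : LinearMap.IsRefl B := fun u v h => by rw [hs, h]
  have h1 : IsCompl W (LinearMap.BilinForm.orthogonal B W) := by
    rw [LinearMap.BilinForm.isCompl_orthogonal_iff_disjoint h0, Submodule.disjoint_def]
    intro x hx hx'
    exact hd x hx fun u hu => hx' u hu
  have hex : ∀ v, ∃ a ∈ W, ∃ b, (∀ u ∈ W, B u b = 0) ∧ v = a + b := by
    intro v
    have h2 : v ∈ W ⊔ LinearMap.BilinForm.orthogonal B W := by rw [h1.sup_eq_top]; trivial
    obtain ⟨a, ha, b, hb, hab⟩ := Submodule.mem_sup.1 h2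
    exact ⟨a, ha, b, fun u hu => hb u hu, hab.symm⟩
  let P : V →ₗ[F] V := W.subtype ∘ₗ W.projectionOnto _ h1
  have hP : ∀ v, P v ∈ W := fun v => (W.projectionOnto _ h1 v).2
  have hP1 : ∀ w ∈ W, P w = w := fun w hw => by
    show ((W.projectionOnto _ h1 w : W) : V) = w
    rw [show w = ((⟨w, hw⟩ : W) : V) from rfl, Submodule.projectionOnto_apply_left]
  have hP2 : ∀ w, (∀ u ∈ W, B u w = 0) → P w = 0 := fun w hw => by
    show ((W.projectionOnto _ h1 w : W) : V) = 0
    have h3 : w ∈ LinearMap.BilinForm.orthogonal B W := fun u hu => hw u hu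
    rw [(Submodule.projectionOnto_apply_eq_zero_iff h1).2 h3]
    rfl
  let e1 : V →ₗ[F] V := T.toLinearMap ∘ₗ P + (LinearMap.id - P)
  let e2 : V →ₗ[F] V := T.symm.toLinearMap ∘ₗ P + (LinearMap.id - P)
  have he1 : ∀ w ∈ W, e1 w = T w := fun w hw => by
    show T (P w) + (w - P w) = T w
    rw [hP1 w hw, sub_self, add_zero]
  have he2 : ∀ w ∈ W, e2 w = T.symm w := fun w hw => by
    show T.symm (P w) + (w - P w) = T.symm w
    rw [hP1 w hw, sub_self, add_zero]
  have he1' : ∀ w, (∀ u ∈ W, B u w = 0) → e1 w = w := fun w hw => by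
    show T (P w) + (w - P w) = w
    rw [hP2 w hw, map_zero, sub_zero, zero_add]
  have he2' : ∀ w, (∀ u ∈ W, B u w = 0) → e2 w = w := fun w hw => by
    show T.symm (P w) + (w - P w) = w
    rw [hP2 w hw, map_zero, sub_zero, zero_add]
  have h12 : e1 ∘ₗ e2 = LinearMap.id := by
    ext v
    obtain ⟨a, ha, b, hb, rfl⟩ := hex v
    rw [LinearMap.comp_apply, map_add, he2 a ha, he2' b hb, map_add, he1 _ (hW' a ha), he1' b hb,
      LinearEquiv.apply_symm_apply]
    rfl
  have h21 : e2 ∘ₗ e1 = LinearMap.id := by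
    ext v
    obtain ⟨a, ha, b, hb, rfl⟩ := hex v
    rw [LinearMap.comp_apply, map_add, he1 a ha, he1' b hb, map_add, he2 _ (hW a ha), he2' b hb,
      LinearEquiv.symm_apply_apply]
    rfl
  refine ⟨LinearEquiv.ofLinearMap e1 e2 h12 h21, ?_, he1, he1', hex⟩
  intro u v
  show B (e1 u) (e1 v) = B u v
  obtain ⟨a, ha, b, hb, rfl⟩ := hex u
  obtain ⟨c, hc, d, hd', rfl⟩ := hex v
  rw [map_add e1, map_add e1, he1 a ha, he1 c hc, he1' b hb, he1' d hd']
  simp only [map_add, LinearMap.add_apply]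
  rw [hT, hd' _ (hW a ha), hs b (T c), hb _ (hW c hc), hd' a ha, hs b c, hb c hc]

theorem pow_symm_mem {T : V ≃ₗ[F] V} {N : ℕ} (hN : N ≠ 0) (hTN : T ^ N = 1) :
    ((T.symm : V ≃ₗ[F] V) : V →ₗ[F] V) = aeval (T : V →ₗ[F] V) (X ^ (N - 1) : F[X]) := by
  rw [map_pow, aeval_X]
  ext v
  have h1 : ∀ (i : ℕ) (v : V), (((T : V →ₗ[F] V) : End F V) ^ i) v = (T ^ i) v := by
    intro i
    induction i with
    | zero => intro v; rfl
    | succ i ih => intro v; rw [pow_succ, pow_succ, Module.End.mul_apply, ih]; rfl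
  rw [h1]
  apply T.injective
  show T (T.symm v) = T ((T ^ (N - 1)) v)
  rw [LinearEquiv.apply_symm_apply]
  have h2 : T ((T ^ (N - 1)) v) = (T * T ^ (N - 1)) v := rfl
  rw [h2, ← pow_succ', Nat.sub_add_cancel (Nat.one_le_iff_ne_zero.2 hN), hTN]
  rfl

theorem end_pow_apply (T : V ≃ₗ[F] V) (i : ℕ) (v : V) : (((T : V →ₗ[F] V) : End F V) ^ i) v = (T ^ i) v := by
  induction i generalizing v with
  | zero => rfl
  | succ i ih => rw [pow_succ, pow_succ, Module.End.mul_apply, ih]; rfl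

/-- what `T` on `W`, `1` on the complement satisfies -/
theorem ext_props {T y : V ≃ₗ[F] V} {W : Submodule F V} (hW : ∀ w ∈ W, T w ∈ W)
    (h1 : ∀ w ∈ W, y w = T w) (h2 : ∀ w, (∀ u ∈ W, B u w = 0) → y w = w)
    (h3 : ∀ v, ∃ a ∈ W, ∃ b, (∀ u ∈ W, B u b = 0) ∧ v = a + b) :
    (∀ g : F[X], ∀ w ∈ W, aeval (y : V →ₗ[F] V) g w = aeval (T : V →ₗ[F] V) g w) ∧
    (∀ g : F[X], (∀ w ∈ W, aeval (T : V →ₗ[F] V) g w = 0) → aeval (y : V →ₗ[F] V) ((X - 1) * g) = 0) ∧
    (∀ M : ℕ, (∀ w ∈ W, aeval (T : V →ₗ[F] V) (X ^ M - 1 : F[X]) w = 0) → y ^ M = 1) ∧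
    LinearMap.range ((y : V →ₗ[F] V) - LinearMap.id) ≤ W := by
  have hpow : ∀ (i : ℕ), ∀ w ∈ W, (T ^ i) w ∈ W := by
    intro i
    induction i with
    | zero => intro w hw; exact hw
    | succ i ih => intro w hw; rw [pow_succ']; exact hW _ (ih w hw)
  have hyT : ∀ (i : ℕ), ∀ w ∈ W, (y ^ i) w = (T ^ i) w := by
    intro i
    induction i with
    | zero => intro w _; rfl
    | succ i ih =>
      intro w hw
      rw [pow_succ', pow_succ', LinearEquiv.mul_apply, ih w hw, h1 _ (hpow i w hw)]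
      rfl
  have hg : ∀ g : F[X], ∀ w ∈ W, aeval (y : V →ₗ[F] V) g w = aeval (T : V →ₗ[F] V) g w := by
    intro g w hw
    induction g using Polynomial.induction_on' with
    | add p q hp hq => rw [map_add, map_add, LinearMap.add_apply, LinearMap.add_apply, hp, hq]
    | monomial n a =>
      rw [aeval_monomial, aeval_monomial, Module.End.mul_apply, Module.End.mul_apply, Module.algebraMap_end_apply,
        Module.algebraMap_end_apply, end_pow_apply, end_pow_apply, hyT n w hw]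
  have hX : ∀ w, aeval (y : V →ₗ[F] V) (X - 1 : F[X]) w = y w - w := by
    intro w
    rw [map_sub, aeval_X, map_one]
    rfl
  refine ⟨hg, ?_, ?_, ?_⟩
  · intro g h0
    ext v
    obtain ⟨a, ha, b, hb, rfl⟩ := h3 v
    rw [map_add, LinearMap.zero_apply]
    have h4 : aeval (y : V →ₗ[F] V) ((X - 1) * g) a = 0 := by
      rw [map_mul, Module.End.mul_apply, hg g a ha, h0 a ha, map_zero]
    have h5 : aeval (y : V →ₗ[F] V) ((X - 1) * g) b = 0 := by
      rw [mul_comm, map_mul, Module.End.mul_apply, hX, h2 b hb, sub_self, map_zero]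
    rw [h4, h5, add_zero]
  · intro M hM
    ext v
    obtain ⟨a, ha, b, hb, rfl⟩ := h3 v
    have h4 : (y ^ M) a = a := by
      have h5 := hM a ha
      rw [map_sub, map_pow, aeval_X, map_one, LinearMap.sub_apply, end_pow_apply, Module.End.one_apply, sub_eq_zero] at h5
      rw [hyT M a ha, h5]
    have h5 : ∀ i : ℕ, (y ^ i) b = b := by
      intro i
      induction i with
      | zero => rfl
      | succ i ih => rw [pow_succ, LinearEquiv.mul_apply, h2 b hb, ih]
    rw [map_add, h4, h5]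
    rfl
  · rintro _ ⟨v, rfl⟩
    obtain ⟨a, ha, b, hb, rfl⟩ := h3 v
    show y (a + b) - (a + b) ∈ W
    rw [map_add, h2 b hb, h1 a ha, add_sub_add_right_eq_sub]
    exact W.sub_mem (hW a ha) ha

end Form

end Cfsg.Agent.H340.RV
end

private theorem dce_55749a449993 : _root_.True := by
  try have : _root_.True := by simp only [_root_.Cfsg.Agent.H556.OddCore.XX.eq_1]
  try have : _root_.True := by simp only [_root_.Cfsg.Agent.H556.OddCore.sgn.eq_1]
  try have : _root_.True := by simp only [_root_.Cfsg.Agent.H340.RV.rv.eq_1]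
  exact _root_.True.intro
end

-- part: H485/RV/Row
section
prune_inst 0xfeacfbabe891dfdfff7e37a6dccdfc36800fffa4dff94b3fe021bf2bdf23000945238d09e000fc1ec6401410a87843fdfffe7fe26bfc7ffffd5df41ffbee0fe5f7b500119488340f300ffe03f0678e7f000000000000000000000000000000000200000000
set_option linter.all false
open scoped Cfsg.Agent.FastGrp

-- part: H485/RV/Fix
section
/-!
# Automorphisms of odd order of `POmega` centralising a Sylow 2-subgroup (TEAM RV, helper485)

1. `fixed_coeff`: `ρ : Representation F G V` preserves the symmetric form `f`; `b` is an orthogonal basis whose norms are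
fixed by `σ`, `Odd (orderOf σ)`, all traces `tr (ρ g)` are fixed by `σ`, and the sign changes of `b` at two places
`≠ none` belong to `ρ G` (at least three places). Then all coefficients `f (b i) (ρ g (b j))` are fixed by `σ`.
2. `fix_of_frame`: `α` is induced by a semisimilarity, has odd order and fixes the classes of all sign changes `t_jk` of
an orthonormal family `e` of `dim - 1 ≥ 6` vectors. Then `α` fixes the class of every `g ∈ Omega` that belongs to a
subgroup containing the `t_jk` on which all traces are fixed by the field automorphisms of odd order.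
3. `ind_of_frame`: no triality: such an automorphism is induced by a semisimilarity (also in dimension 8).
-/

set_option autoImplicit false
set_option linter.unusedSectionVars false
set_option linter.unusedSimpArgs false

namespace Cfsg.Agent.H485.RV

open Module

section ent

section odd

variable {F : Type*} [Field F]

theorem iter_neg (σ : F ≃+* F) {x : F} (h : σ x = -x) : ∀ n : ℕ, (σ ^ n) x = (-1) ^ n * x
  | 0 => by simp
  | n + 1 => by
    rw [pow_succ', RingAut.mul_apply, iter_neg σ h n, map_mul, map_pow, map_neg, map_one, h, pow_succ]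
    ring

/-- a square fixed by an automorphism of odd order has fixed roots -/
theorem fixed_of_sq (h2 : (2 : F) ≠ 0) {σ : F ≃+* F} (hσ : Odd (orderOf σ)) {x : F} (h : σ (x * x) = x * x) :
    σ x = x := by
  rw [map_mul] at h
  rcases mul_self_eq_mul_self_iff.1 h with h1 | h1
  · exact h1
  · have h3 := iter_neg σ h1 (orderOf σ)
    rw [pow_orderOf_eq_one, hσ.neg_one_pow] at h3
    have h4 : x = -1 * x := h3
    have h5 : (2 : F) * x = 0 := by linear_combination h4
    have h6 : x = 0 := (mul_eq_zero.1 h5).resolve_left h2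
    rw [h6, map_zero]

end odd

variable {F : Type*} [Field F] {V : Type*} [AddCommGroup V] [Module F V] [FiniteDimensional F V]
  {G : Type*} [Group G] (ρ : Representation F G V)

/-- `x` has fixed traces against `ρ G` -/
def TX (σ : F ≃+* F) (x : End F V) : Prop := ∀ h : G, σ (LinearMap.trace F V (x * ρ h)) = LinearMap.trace F V (x * ρ h)

variable {ρ} {σ : F ≃+* F}

theorem TX.one (htr : ∀ g, σ (LinearMap.trace F V (ρ g)) = LinearMap.trace F V (ρ g)) : TX ρ σ 1 := fun h => by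
  rw [one_mul, htr]

theorem TX.mul {x : End F V} (hx : TX ρ σ x) (g : G) : TX ρ σ (x * ρ g) := fun h => by
  rw [mul_assoc, ← map_mul, hx]

theorem TX.add {x y : End F V} (hx : TX ρ σ x) (hy : TX ρ σ y) : TX ρ σ (x + y) := fun h => by
  rw [add_mul, map_add, map_add, hx, hy]

theorem TX.sub {x y : End F V} (hx : TX ρ σ x) (hy : TX ρ σ y) : TX ρ σ (x - y) := fun h => by
  rw [sub_mul, map_sub, map_sub, hx, hy]

theorem TX.zero : TX ρ σ (0 : End F V) := fun h => by rw [zero_mul, map_zero, map_zero]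

theorem TX.smul {x : End F V} (hx : TX ρ σ x) {c : F} (hc : σ c = c) : TX ρ σ (c • x) := fun h => by
  rw [smul_mul_assoc, map_smul, smul_eq_mul, map_mul, hc, hx]

theorem TX.sum {ι : Type*} (s : Finset ι) {x : ι → End F V} (hx : ∀ i ∈ s, TX ρ σ (x i)) : TX ρ σ (∑ i ∈ s, x i) := by
  classical
  induction s using Finset.induction_on with
  | empty => rw [Finset.sum_empty]; exact TX.zero
  | insert a s ha ih =>
    rw [Finset.sum_insert ha]
    exact (hx a (Finset.mem_insert_self a s)).add (ih fun i hi => hx i (Finset.mem_insert_of_mem hi))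

/-! ### orthogonal bases -/

section basis

variable {K : Type*} [Fintype K] [DecidableEq K] (f : V →ₗ[F] V →ₗ[F] F) (b : K → V)

/-- orthogonal bases -/
structure OB : Prop where
  orth : ∀ i j, i ≠ j → f (b i) (b j) = 0
  ne : ∀ i, f (b i) (b i) ≠ 0
  span : ∀ v, v = ∑ i, (f (b i) v * (f (b i) (b i))⁻¹) • b i

/-- the projections -/
noncomputable def Pj (i : K) : End F V := (f (b i)).smulRight ((f (b i) (b i))⁻¹ • b i)

variable {f b}

theorem Pj_apply (i : K) (v : V) : Pj f b i v = (f (b i) v * (f (b i) (b i))⁻¹) • b i := by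
  rw [Pj, LinearMap.smulRight_apply, smul_smul]

theorem OB.Pj_b (h : OB f b) (i j : K) : Pj f b i (b j) = if j = i then b i else 0 := by
  rw [Pj_apply]
  split_ifs with hij
  · subst hij
    rw [mul_inv_cancel₀ (h.ne j), one_smul]
  · rw [h.orth i j (Ne.symm hij), zero_mul, zero_smul]

theorem OB.sum_Pj (h : OB f b) : ∑ i, Pj f b i = 1 := by
  apply LinearMap.ext
  intro v
  rw [LinearMap.sum_apply]
  simp only [Pj_apply]
  exact (h.span v).symm

theorem OB.ext (h : OB f b) {φ ψ : End F V} (h1 : ∀ i, φ (b i) = ψ (b i)) : φ = ψ := by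
  apply LinearMap.ext
  intro v
  rw [h.span v, map_sum, map_sum]
  exact Finset.sum_congr rfl fun i _ => by rw [map_smul, map_smul, h1]

theorem trace_Pj (g h : G) (i j : K) :
    LinearMap.trace F V (Pj f b i * ρ g * Pj f b j * ρ h) =
      (f (b i) (ρ g (b j)) * (f (b i) (b i))⁻¹) * (f (b j) (ρ h (b i)) * (f (b j) (b j))⁻¹) := by
  have h1 : Pj f b i * ρ g * Pj f b j * ρ h =
      ((f (b j)).comp (ρ h)).smulRight
        (((f (b i) (ρ g (b j)) * (f (b i) (b i))⁻¹) * (f (b j) (b j))⁻¹) • b i) := by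
    apply LinearMap.ext
    intro v
    simp only [Module.End.mul_apply, Pj_apply, LinearMap.smulRight_apply, LinearMap.comp_apply, map_smul, smul_smul,
      smul_eq_mul]
    congr 1
    ring
  rw [h1, LinearMap.trace_smulRight, LinearMap.comp_apply, map_smul, map_smul, smul_eq_mul]
  ring

end basis

/-! ### the sign changes -/

section signs

variable {J : Type*} [Fintype J] [DecidableEq J] {f : V →ₗ[F] V →ₗ[F] F} {b : Option J → V}

/-- `g` changes the signs of `b j` and `b k` -/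
def IsSg (ρ : Representation F G V) (b : Option J → V) (j k : J) (g : G) : Prop :=
  ∀ i, ρ g (b i) = if i = some j ∨ i = some k then - b i else b i

theorem four_E (hb : OB f b) {j k l : J} (hjk : j ≠ k) (hjl : j ≠ l) (hkl : k ≠ l) {x y z : G}
    (hx : IsSg ρ b j k x) (hy : IsSg ρ b j l y) (hz : IsSg ρ b k l z) :
    (4 : F) • Pj f b (some j) = 1 - ρ x - ρ y + ρ z := by
  apply hb.ext
  intro i
  rw [LinearMap.smul_apply, hb.Pj_b, LinearMap.add_apply, LinearMap.sub_apply, LinearMap.sub_apply, hx i, hy i, hz i,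
    Module.End.one_apply]
  rcases i with _ | i
  · simp
  · by_cases h1 : i = j
    · subst h1
      simp only [if_true, true_or, Option.some.injEq, hjk, hjl, or_self, if_false]
      module
    · by_cases h2 : i = k
      · subst h2
        simp [h1, hkl]
      · by_cases h3 : i = l
        · subst h3
          simp [h1, h2]
        · simp [h1, h2, h3]

theorem TX.mul_E_some (h2 : (2 : F) ≠ 0) (hb : OB f b) (h3 : 3 ≤ Fintype.card J)
    (hs : ∀ j k : J, j ≠ k → ∃ g : G, IsSg ρ b j k g) {x : End F V} (hx : TX ρ σ x) (j : J) :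
    TX ρ σ (x * Pj f b (some j)) := by
  obtain ⟨k, l, hk, hl, hkl⟩ : ∃ k l : J, j ≠ k ∧ j ≠ l ∧ k ≠ l := by
    have h4 : 2 < Fintype.card J := by omega
    obtain ⟨a, c, d, hac, had, hcd⟩ := Fintype.two_lt_card_iff.1 h4
    by_cases h5 : j = a
    · subst h5; exact ⟨c, d, hac, had, hcd⟩
    · by_cases h6 : j = c
      · subst h6; exact ⟨a, d, h5, hcd, had⟩
      · exact ⟨a, c, h5, h6, hac⟩
  obtain ⟨u, hu⟩ := hs j k hk
  obtain ⟨v, hv⟩ := hs j l hl
  obtain ⟨w, hw⟩ := hs k l hkl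
  have h4 := four_E hb hk hl hkl hu hv hw
  have h40 : (4 : F) ≠ 0 := by
    have : (4 : F) = 2 * 2 := by norm_num
    rw [this]
    exact mul_ne_zero h2 h2
  have h5 : x * Pj f b (some j) = (4 : F)⁻¹ • (x - x * ρ u - x * ρ v + x * ρ w) := by
    have h6 : Pj f b (some j) = (4 : F)⁻¹ • ((4 : F) • Pj f b (some j)) := by
      rw [smul_smul, inv_mul_cancel₀ h40, one_smul]
    rw [h6, h4, mul_smul_comm, mul_add, mul_sub, mul_sub, mul_one]
  rw [h5]
  refine TX.smul (((hx.sub (hx.mul u)).sub (hx.mul v)).add (hx.mul w)) ?_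
  rw [map_inv₀]
  congr 1
  exact map_ofNat σ 4

theorem TX.mul_E (h2 : (2 : F) ≠ 0) (hb : OB f b) (h3 : 3 ≤ Fintype.card J)
    (hs : ∀ j k : J, j ≠ k → ∃ g : G, IsSg ρ b j k g) {x : End F V} (hx : TX ρ σ x) (i : Option J) :
    TX ρ σ (x * Pj f b i) := by
  rcases i with _ | j
  · have h4 : Pj f b none = 1 - ∑ j : J, Pj f b (some j) := by
      rw [← hb.sum_Pj, Fintype.sum_option, add_sub_cancel_right]
    rw [h4, mul_sub, mul_one, Finset.mul_sum]
    exact hx.sub (TX.sum _ fun j _ => hx.mul_E_some h2 hb h3 hs j)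
  · exact hx.mul_E_some h2 hb h3 hs j

/-- **The coefficients are fixed.** -/
theorem fixed_coeff (h2 : (2 : F) ≠ 0) (hσ : Odd (orderOf σ)) (hb : OB f b) (h3 : 3 ≤ Fintype.card J)
    (hs : ∀ j k : J, j ≠ k → ∃ g : G, IsSg ρ b j k g) (hc : ∀ i, σ (f (b i) (b i)) = f (b i) (b i))
    (hf : ∀ g u v, f (ρ g u) (ρ g v) = f u v) (hsym : ∀ u v, f u v = f v u)
    (htr : ∀ g, σ (LinearMap.trace F V (ρ g)) = LinearMap.trace F V (ρ g)) (g : G) (i j : Option J) :
    σ (f (b i) (ρ g (b j))) = f (b i) (ρ g (b j)) := by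
  apply fixed_of_sq h2 hσ
  have h4 : TX ρ σ (1 * Pj f b i * ρ g * Pj f b j) := (((TX.one htr).mul_E h2 hb h3 hs i).mul g).mul_E h2 hb h3 hs j
  have h5 := h4 g⁻¹
  rw [one_mul, trace_Pj] at h5
  have h6 : f (b j) (ρ g⁻¹ (b i)) = f (b i) (ρ g (b j)) := by
    rw [← hf g, ← Module.End.mul_apply, ← map_mul, mul_inv_cancel, map_one, Module.End.one_apply, hsym]
  rw [h6] at h5
  have h7 : f (b i) (ρ g (b j)) * (f (b i) (b i))⁻¹ * (f (b i) (ρ g (b j)) * (f (b j) (b j))⁻¹) =
      (f (b i) (ρ g (b j)) * f (b i) (ρ g (b j))) * ((f (b i) (b i))⁻¹ * (f (b j) (b j))⁻¹) := by ring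
  rw [h7, map_mul, map_mul σ ((f (b i) (b i))⁻¹), map_inv₀, map_inv₀, hc, hc] at h5
  exact mul_right_cancel₀ (mul_ne_zero (inv_ne_zero (hb.ne i)) (inv_ne_zero (hb.ne j))) h5

end signs

end ent

section fix

open QuadraticMap Cfsg.Agent.H167.OP Cfsg.Agent.H170.HL Cfsg.Agent.H170.HL.OmRow Cfsg.Agent.H556.Om
open Cfsg.Agent.AutOrth Cfsg.Agent.AutOrth.Main

variable {F : Type*} [Field F] {ι : Type} [Fintype ι] [DecidableEq ι] {Q : QuadraticForm F (ι → F)}

/-- `α` is induced by the semisimilarity `T` -/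
structure IndBy (Q : QuadraticForm F (ι → F)) (α : MulAut (Cfsg.POmega F (⇑Q))) (σ : F ≃+* F) (μ : F)
    (T : (ι → F) ≃+ (ι → F)) : Prop where
  semi : SemiSim.IsSemi Q T σ μ
  ind : ∀ g g' : Cfsg.Omega F (⇑Q), (∀ v, rep (inc (⇑Q)) g' (T v) = T (rep (inc (⇑Q)) g v)) →
    α (QuotientGroup.mk g) = QuotientGroup.mk g'

theorem exists_indBy {α : MulAut (Cfsg.POmega F (⇑Q))} (h : Ind (⇑Q) α) : ∃ σ μ T, IndBy Q α σ μ T := by
  obtain ⟨σ, μ, T, ⟨h1, h2, h3⟩, h4⟩ := h
  exact ⟨σ, μ, T, ⟨h1, h2, h3⟩, h4⟩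

variable {α β : MulAut (Cfsg.POmega F (⇑Q))} {σ τ : F ≃+* F} {μ ν : F} {T U : (ι → F) ≃+ (ι → F)}

/-- semisimilarities normalise `Omega` -/
theorem exists_semi_conj (hG : Cfsg.Agent.LieClassical.OrthTrans.Good Q)
    (hM : SemiSim.IsSemi Q T σ μ) (g : Cfsg.Omega F (⇑Q)) :
    ∃ g' : Cfsg.Omega F (⇑Q), ∀ v, rep (inc (⇑Q)) g' (T v) = T (rep (inc (⇑Q)) g v) := by
  obtain ⟨g', hg'⟩ := (oe hG).surjective (SemiSim.conjE hM (oe hG g))
  refine ⟨g', fun v => ?_⟩
  have h1 := SemiSim.conjE_apply hM (oe hG g) v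
  rw [← hg', oe_apply, oe_apply] at h1
  exact h1

theorem IndBy.one : IndBy Q 1 1 1 (AddEquiv.refl _) := by
  refine ⟨⟨one_ne_zero, fun _ _ => rfl, fun v => (one_mul _).symm⟩, fun g g' hg => ?_⟩
  have h1 : g' = g := by
    apply rep_injective inc_injective
    apply LinearMap.ext
    exact hg
  rw [h1]
  rfl

theorem IndBy.mul (hG : Cfsg.Agent.LieClassical.OrthTrans.Good Q) (h : IndBy Q α σ μ T) (h' : IndBy Q β τ ν U) :
    IndBy Q (α * β) (σ * τ) (μ * σ ν) (U.trans T) := by
  refine ⟨⟨mul_ne_zero h.semi.ne ((map_ne_zero σ).2 h'.semi.ne), fun a v => ?_, fun v => ?_⟩, fun g g'' hg => ?_⟩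
  · rw [AddEquiv.trans_apply, h'.semi.smul, h.semi.smul]
    rfl
  · rw [AddEquiv.trans_apply, h.semi.form, h'.semi.form, map_mul, mul_assoc]
    rfl
  · obtain ⟨g', hg'⟩ := exists_semi_conj hG h'.semi g
    rw [MulAut.mul_apply, h'.ind g g' hg']
    apply h.ind
    intro v
    obtain ⟨u, rfl⟩ := U.surjective v
    have h1 := hg u
    rw [AddEquiv.trans_apply, AddEquiv.trans_apply, ← hg'] at h1
    exact h1

theorem IndBy.pow (hG : Cfsg.Agent.LieClassical.OrthTrans.Good Q) (h : IndBy Q α σ μ T) (n : ℕ) :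
    ∃ c U, IndBy Q (α ^ n) (σ ^ n) c U := by
  induction n with
  | zero => exact ⟨1, AddEquiv.refl _, IndBy.one⟩
  | succ n ih =>
    obtain ⟨c, U, hc⟩ := ih
    rw [pow_succ', pow_succ']
    exact ⟨_, _, h.mul hG hc⟩

/-! ### the frame -/

variable {J : Type*} [Fintype J] [DecidableEq J] {e : J → ι → F} {w : ι → F}

/-- the basis -/
def bs (e : J → ι → F) (w : ι → F) : Option J → ι → F := fun o => o.elim w e

theorem isSg_of (h2 : (2 : F) ≠ 0) (hF : Frame (polarBilin Q) e) (hw : ∀ j, polarBilin Q (e j) w = 0)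
    {j k : J} {g : Cfsg.Omega F (⇑Q)} (hg : rep (inc (⇑Q)) g = mono (polarBilin Q) e (H556.Om.sg F j k) id) :
    IsSg (rep (inc (⇑Q))) (bs e w) j k g := by
  intro i
  rw [hg]
  rcases i with _ | i
  · show mono (polarBilin Q) e (sg F j k) id w = _
    rw [mono_orth hw]
    simp [bs]
  · show mono (polarBilin Q) e (sg F j k) id (e i) = _
    rw [mono_e hF h2]
    simp only [sg, Option.some.injEq, id]
    split_ifs <;> simp [bs]

theorem li_of_orth {K : Type*} [Fintype K] {f : (ι → F) →ₗ[F] (ι → F) →ₗ[F] F} {b : K → ι → F}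
    (horth : ∀ i j, i ≠ j → f (b i) (b j) = 0) (hne : ∀ i, f (b i) (b i) ≠ 0) : LinearIndependent F b := by
  rw [Fintype.linearIndependent_iff]
  intro c hc i
  have h1 := congrArg (f (b i)) hc
  rw [map_sum, map_zero, Finset.sum_eq_single i (fun j _ hji => by
    rw [map_smul, horth i j (Ne.symm hji), smul_zero]) (fun h => absurd (Finset.mem_univ i) h), map_smul,
    smul_eq_mul] at h1
  exact (mul_eq_zero.1 h1).resolve_right (hne i)

/-- `e` and `w` form an orthogonal basis -/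
theorem ob_bs (h2 : (2 : F) ≠ 0) (hF : Frame (polarBilin Q) e) (hw : ∀ j, polarBilin Q (e j) w = 0)
    (hw0 : polarBilin Q w w ≠ 0) (hc : Fintype.card J + 1 = Fintype.card ι) : OB (polarBilin Q) (bs e w) := by
  have horth : ∀ i j : Option J, i ≠ j → polarBilin Q (bs e w i) (bs e w j) = 0 := by
    rintro (_ | i) (_ | j) hij
    · exact absurd rfl hij
    · show polarBilin Q w (e j) = 0
      rw [polar_symm, hw]
    · exact hw i
    · exact hF.orth i j fun h => hij (congrArg some h)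
  have hne : ∀ i : Option J, polarBilin Q (bs e w i) (bs e w i) ≠ 0 := by
    rintro (_ | i)
    · exact hw0
    · show polarBilin Q (e i) (e i) ≠ 0
      rw [hF.self]; exact h2
  have hli : LinearIndependent F (bs e w) := li_of_orth horth hne
  have hspan : Submodule.span F (Set.range (bs e w)) = ⊤ := by
    apply LinearIndependent.span_eq_top_of_card_eq_finrank' hli
    rw [Fintype.card_option, hc, Module.finrank_fintype_fun_eq_card]
  refine ⟨horth, hne, fun v => ?_⟩
  have hv : v ∈ Submodule.span F (Set.range (bs e w)) := by rw [hspan]; trivial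
  obtain ⟨c, rfl⟩ := (Submodule.mem_span_range_iff_exists_fun F).1 hv
  refine Finset.sum_congr rfl fun i _ => ?_
  congr 1
  rw [map_sum, Finset.sum_eq_single i (fun j _ hji => by
    rw [map_smul, horth i j (Ne.symm hji), smul_zero]) (fun h => absurd (Finset.mem_univ i) h), map_smul, smul_eq_mul,
    mul_assoc, mul_inv_cancel₀ (hne i), mul_one]

/-- the coordinates -/
noncomputable def cf (Q : QuadraticForm F (ι → F)) (b : Option J → ι → F) (i : Option J) (v : ι → F) : F :=
  polarBilin Q (b i) v * (polarBilin Q (b i) (b i))⁻¹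

theorem IsSg.cf {b : Option J → ι → F} {j k : J} {g : Cfsg.Omega F (⇑Q)}
    (hg : IsSg (rep (inc (⇑Q))) b j k g) (i : Option J) (v : ι → F) :
    RV.cf Q b i (rep (inc (⇑Q)) g v) = if i = some j ∨ i = some k then - RV.cf Q b i v else RV.cf Q b i v := by
  have h1 : polarBilin Q (rep (inc (⇑Q)) g (b i)) (rep (inc (⇑Q)) g v) = polarBilin Q (b i) v := polar_apply Q g _ _
  rw [hg i] at h1
  unfold RV.cf
  split_ifs at h1 ⊢ with h2
  · rw [← h1, map_neg, LinearMap.neg_apply]
    ring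
  · rw [h1]

theorem OB.eq_of_cf {b : Option J → ι → F} (hb : OB (polarBilin Q) b) {v : ι → F} {i : Option J}
    (h : ∀ j, j ≠ i → cf Q b j v = 0) : v = cf Q b i v • b i := by
  conv_lhs => rw [hb.span v]
  rw [Finset.sum_eq_single i (fun j _ hj => by
    have := h j hj
    unfold cf at this
    rw [this, zero_smul]) (fun h => absurd (Finset.mem_univ i) h)]
  rfl

/-- a semilinear map commuting with the sign changes preserves the lines of the frame -/
theorem exists_line (h2 : (2 : F) ≠ 0) {b : Option J → ι → F} (hb : OB (polarBilin Q) b) (h3 : 3 ≤ Fintype.card J)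
    {T : (ι → F) ≃+ (ι → F)}
    (hs : ∀ j k : J, j ≠ k → ∃ g : Cfsg.Omega F (⇑Q), IsSg (rep (inc (⇑Q))) b j k g ∧
      ∀ v, rep (inc (⇑Q)) g (T v) = T (rep (inc (⇑Q)) g v)) (i : Option J) :
    ∃ c : F, T (b i) = c • b i := by
  have key : ∀ x : F, -x = x → x = 0 := by
    intro x hx
    have : (2 : F) * x = 0 := by linear_combination -hx
    exact (mul_eq_zero.1 this).resolve_left h2
  rcases i with _ | j
  · refine ⟨_, hb.eq_of_cf (i := none) fun k hk => ?_⟩
    rcases k with _ | k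
    · exact absurd rfl hk
    · obtain ⟨l, hl⟩ : ∃ l, l ≠ k := Fintype.exists_ne_of_one_lt_card (by omega) k
      obtain ⟨g, hg, hgT⟩ := hs l k hl
      have h4 := hg.cf (some k) (T (b none))
      rw [hgT, hg none, if_neg (by simp), if_pos (Or.inr rfl)] at h4
      exact key _ h4.symm
  · refine ⟨_, hb.eq_of_cf (i := some j) fun k hk => ?_⟩
    obtain ⟨l, hl, hlk⟩ : ∃ l : J, l ≠ j ∧ some l ≠ k := by
      have h4 : 2 < Fintype.card J := by omega
      obtain ⟨a, c, d, hac, had, hcd⟩ := Fintype.two_lt_card_iff.1 h4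
      by_contra hcon
      push Not at hcon
      have h5 : ∀ x y : J, x ≠ j → y ≠ j → x = y := fun x y hx hy =>
        Option.some_injective _ ((hcon x hx).trans (hcon y hy).symm)
      by_cases h6 : a = j
      · exact hcd (h5 c d (fun h => hac (h6.trans h.symm)) (fun h => had (h6.trans h.symm)))
      · by_cases h7 : c = j
        · exact had (h5 a d h6 (fun h => hcd (h7.trans h.symm)))
        · exact hac (h5 a c h6 h7)
    obtain ⟨g, hg, hgT⟩ := hs j l (Ne.symm hl)
    have h4 := hg.cf k (T (b (some j)))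
    rw [hgT, hg (some j), if_pos (Or.inl rfl), map_neg, if_neg (by
      rintro (h | h)
      · exact hk h
      · exact hlk h.symm)] at h4
    apply key
    unfold cf at h4 ⊢
    rw [map_neg] at h4
    linear_combination h4

/-! ### norms fixed by the field automorphism -/

theorem isSquare_mul_map [Finite F] (τ : F ≃+* F) (a : F) : IsSquare (τ a * a) := by
  have := Fintype.ofFinite F
  by_cases h2 : ringChar F = 2
  · exact FiniteField.isSquare_of_char_two h2 _
  by_cases ha : IsSquare a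
  · exact (ha.map τ).mul ha
  · have h1 : ¬ IsSquare (τ a) := by
      intro h
      have := h.map τ.symm
      rw [RingEquiv.symm_apply_apply] at this
      exact ha this
    classical
    have h3 : quadraticChar F (τ a * a) = 1 := by
      rw [map_mul, quadraticChar_neg_one_iff_not_isSquare.2 ha, quadraticChar_neg_one_iff_not_isSquare.2 h1]
      norm_num
    rcases eq_or_ne (τ a * a) 0 with h4 | h4
    · rw [h4]; exact IsSquare.zero
    · exact (quadraticChar_one_iff_isSquare h4).1 h3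

theorem pow_fix (τ : F ≃+* F) (a : F) (n : ℕ) :
    τ (∏ i ∈ Finset.range n, (τ ^ i) a) * a = (∏ i ∈ Finset.range n, (τ ^ i) a) * (τ ^ n) a := by
  rw [← Finset.prod_range_succ, Finset.prod_range_succ', map_prod]
  congr 1
  exact Finset.prod_congr rfl fun i _ => by rw [pow_succ', RingAut.mul_apply]

/-- every `a ≠ 0` is a norm up to squares -/
theorem exists_norm [Finite F] {τ : F ≃+* F} (hτ : Odd (orderOf τ)) {a : F} (ha : a ≠ 0) :
    ∃ c : F, c ≠ 0 ∧ τ (c * c * a) = c * c * a := by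
  set n := orderOf τ with hn
  set N := ∏ i ∈ Finset.range n, (τ ^ i) a with hN
  have h1 : τ N = N := by
    have h := pow_fix τ a n
    rw [hn, pow_orderOf_eq_one, ← hn] at h
    exact mul_right_cancel₀ ha h
  have hN0 : N ≠ 0 := Finset.prod_ne_zero_iff.2 fun i _ => (map_ne_zero _).2 ha
  have h2 : IsSquare (N * a ^ n) := by
    have : N * a ^ n = ∏ i ∈ Finset.range n, ((τ ^ i) a * a) := by
      rw [Finset.prod_mul_distrib, Finset.prod_const, Finset.card_range]
    rw [this]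
    exact Finset.isSquare_prod _ fun i _ => isSquare_mul_map (τ ^ i) a
  obtain ⟨k, hk⟩ := hτ
  obtain ⟨d, hd⟩ := h2
  have h3 : n = 2 * k + 1 := hk
  have hd0 : d ≠ 0 := by
    rintro rfl
    rw [mul_zero] at hd
    exact mul_ne_zero hN0 (pow_ne_zero _ ha) hd
  refine ⟨d * (a ^ (k + 1))⁻¹, mul_ne_zero hd0 (inv_ne_zero (pow_ne_zero _ ha)), ?_⟩
  have h4 : d * (a ^ (k + 1))⁻¹ * (d * (a ^ (k + 1))⁻¹) * a = N := by
    have h5 : d * (a ^ (k + 1))⁻¹ * (d * (a ^ (k + 1))⁻¹) * a = (d * d) * ((a ^ (k + 1))⁻¹ * (a ^ (k + 1))⁻¹ * a) := by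
      ring
    rw [h5, ← hd, h3]
    field_simp
    ring
  rw [h4, h1]

/-! ### the sign -/

/-- an automorphism induced by `T` fixing the class of a sign change comes from a map commuting with it -/
theorem comm_sg [Finite F] (hG : Cfsg.Agent.LieClassical.OrthTrans.Good Q) (hQ : GoodQ Q) (h2 : (2 : F) ≠ 0)
    {b : Option J → ι → F} (hb : OB (polarBilin Q) b) (hc : 5 ≤ Fintype.card J) (h : IndBy Q α σ μ T) {j k : J}
    {g : Cfsg.Omega F (⇑Q)} (hg : IsSg (rep (inc (⇑Q))) b j k g)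
    (hα : α (QuotientGroup.mk g) = QuotientGroup.mk g) (v : ι → F) :
    rep (inc (⇑Q)) g (T v) = T (rep (inc (⇑Q)) g v) := by
  obtain ⟨g', hg'⟩ := exists_semi_conj hG h.semi g
  have h1 := h.ind g g' hg'
  rw [hα] at h1
  have h3 : g⁻¹ * g' ∈ Subgroup.center (Cfsg.Omega F (⇑Q)) := QuotientGroup.eq.1 h1
  have h4 := (Cfsg.Agent.LieClassical.OmegaCenter.mem_center_omega_iff Q hQ.nd hQ.card hQ.sing _).mp h3
  have h4' : inc (⇑Q) (g⁻¹ * g') = 1 ∨ inc (⇑Q) (g⁻¹ * g') = -1 := h4
  rcases h4' with h5 | h5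
  · have h6 : g⁻¹ * g' = 1 := by
      apply inc_injective
      rw [h5, map_one]
    have h7 : g' = g := by
      rw [← mul_one g, ← h6]; group
    rw [← hg' v, h7]
  · exfalso
    have h6 : ∀ v, rep (inc (⇑Q)) g' v = - rep (inc (⇑Q)) g v := by
      intro v
      have : g' = g * (g⁻¹ * g') := by group
      rw [this, map_mul, Module.End.mul_apply]
      have h7 : rep (inc (⇑Q)) (g⁻¹ * g') v = - v := by
        show (inc (⇑Q) (g⁻¹ * g') : Matrix ι ι F).mulVec v = -v
        rw [h5, Matrix.neg_mulVec, Matrix.one_mulVec]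
      rw [h7, map_neg]
    have key : ∀ x : F, -x = x → x = 0 := by
      intro x hx
      have : (2 : F) * x = 0 := by linear_combination -hx
      exact (mul_eq_zero.1 this).resolve_left h2
    let K := {i : Option J // ¬ (i = some j ∨ i = some k)}
    have hK : 3 ≤ Fintype.card K := by
      have h7 : Fintype.card K = Fintype.card (Option J) - Fintype.card {i : Option J // i = some j ∨ i = some k} :=
        Fintype.card_subtype_compl _
      have h8 : Fintype.card {i : Option J // i = some j ∨ i = some k} ≤ 2 := by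
        rw [Fintype.card_subtype]
        refine (Finset.card_le_card (t := {some j, some k}) fun i hi => ?_).trans Finset.card_le_two
        simpa only [_root_.Finset.mem_insert, _root_.Finset.mem_singleton, _root_.Finset.mem_filter, _root_.Finset.mem_univ, _root_.true_and] using hi
      rw [h7, Fintype.card_option]
      omega
    have hpol : ∀ u v, polarBilin Q (T u) (T v) = μ * σ (polarBilin Q u v) := fun u v => h.semi.polar u v
    have hli : LinearIndependent F fun i : K => T (b i) := by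
      apply li_of_orth (f := polarBilin Q)
      · intro i l hil
        rw [hpol, hb.orth i l fun h => hil (Subtype.ext h), map_zero, mul_zero]
      · intro i
        rw [hpol]
        exact mul_ne_zero h.semi.ne ((map_ne_zero σ).2 (hb.ne i))
    have hmem : ∀ i : K, T (b i) ∈ Submodule.span F ({b (some j), b (some k)} : Set (ι → F)) := by
      intro i
      have h7 : rep (inc (⇑Q)) g (T (b i)) = - T (b i) := by
        have h8 := hg' (b i)
        rw [h6, hg i, if_neg i.2] at h8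
        have h9 := congrArg Neg.neg h8
        rwa [neg_neg] at h9
      rw [hb.span (T (b i))]
      refine Submodule.sum_mem _ fun l _ => ?_
      by_cases h8 : l = some j ∨ l = some k
      · apply Submodule.smul_mem
        apply Submodule.subset_span
        rcases h8 with rfl | rfl
        · exact Or.inl rfl
        · exact Or.inr rfl
      · have h9 := hg.cf l (T (b i))
        rw [h7, if_neg h8] at h9
        have h10 : cf Q b l (T (b i)) = 0 := by
          apply key
          unfold cf at h9 ⊢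
          rw [map_neg] at h9
          linear_combination h9
        unfold cf at h10
        rw [h10, zero_smul]
        exact Submodule.zero_mem _
    have h7 : Module.finrank F (Submodule.span F (Set.range fun i : K => T (b i))) = Fintype.card K :=
      finrank_span_eq_card hli
    have h8 : Submodule.span F (Set.range fun i : K => T (b i)) ≤
        Submodule.span F ({b (some j), b (some k)} : Set (ι → F)) := by
      rw [Submodule.span_le]
      rintro _ ⟨i, rfl⟩
      exact hmem i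
    have h9 := Submodule.finrank_mono h8
    classical
    have h10 : Module.finrank F (Submodule.span F ({b (some j), b (some k)} : Set (ι → F))) ≤ 2 := by
      have := finrank_span_le_card (R := F) ({b (some j), b (some k)} : Set (ι → F))
      refine this.trans ?_
      rw [Set.toFinset_card]
      refine (Fintype.card_le_of_surjective (fun x : Bool => if x then (⟨b (some j), Or.inl rfl⟩ :
        ({b (some j), b (some k)} : Set (ι → F))) else ⟨b (some k), Or.inr rfl⟩) ?_).trans (by simp)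
      rintro ⟨_, rfl | rfl⟩
      · exact ⟨true, rfl⟩
      · exact ⟨false, rfl⟩
    omega

theorem pow_fixed {G : Type*} [Group G] {α : MulAut G} {x : G} (h : α x = x) : ∀ n : ℕ, (α ^ n) x = x
  | 0 => rfl
  | n + 1 => by rw [pow_succ, MulAut.mul_apply, h, pow_fixed h n]

/-! ### the main step -/

/-- **An automorphism of odd order that fixes the classes of the sign changes fixes the class of every element of a
group whose traces are fixed by the field automorphisms of odd order.** -/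
theorem fix_of_frame [Finite F] (hG : Cfsg.Agent.LieClassical.OrthTrans.Good Q) (hQ : GoodQ Q) (h2 : (2 : F) ≠ 0)
    (hF : Frame (polarBilin Q) e) (hw : ∀ j, polarBilin Q (e j) w = 0) (hw0 : polarBilin Q w w ≠ 0)
    (hc : Fintype.card J + 1 = Fintype.card ι) (h5 : 5 ≤ Fintype.card J) {H : Subgroup (Cfsg.Omega F (⇑Q))}
    (hH : ∀ j k, j ≠ k → ∀ g : Cfsg.Omega F (⇑Q), rep (inc (⇑Q)) g = mono (polarBilin Q) e (H556.Om.sg F j k) id → g ∈ H)
    (htr : ∀ τ : F ≃+* F, Odd (orderOf τ) → ∀ h ∈ H,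
      τ (LinearMap.trace F (ι → F) (rep (inc (⇑Q)) h)) = LinearMap.trace F (ι → F) (rep (inc (⇑Q)) h))
    (hα : Odd (orderOf α)) (hI : Ind (⇑Q) α)
    (hfix : ∀ j k, j ≠ k → ∀ g : Cfsg.Omega F (⇑Q), rep (inc (⇑Q)) g = mono (polarBilin Q) e (H556.Om.sg F j k) id →
      α (QuotientGroup.mk g) = QuotientGroup.mk g) {h : Cfsg.Omega F (⇑Q)} (hh : h ∈ H) :
    α (QuotientGroup.mk h) = QuotientGroup.mk h := by
  obtain ⟨σ, μ, T, hT⟩ := exists_indBy hI
  -- a square root of `α` with a field automorphism of odd order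
  have hfin : Finite (F ≃+* F) := by
    exact Finite.of_injective (fun τ : F ≃+* F => (τ : F → F)) fun a b h => RingEquiv.ext (congrFun h)
  obtain ⟨a, m', hm', hord⟩ := Nat.exists_eq_two_pow_mul_odd (orderOf_pos σ).ne'
  have hcop : (2 ^ (a + 1)).Coprime (orderOf α) := Nat.Coprime.pow_left _ (Nat.coprime_two_left.2 hα)
  obtain ⟨m, hm⟩ := exists_pow_eq_self_of_coprime hcop
  obtain ⟨ν, U, hU⟩ := hT.pow hG (2 ^ a * m)
  set β := α ^ (2 ^ a * m) with hβ
  set τ := σ ^ (2 ^ a * m) with hτ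
  have hββ : β * β = α := by
    rw [← pow_mul] at hm
    rw [hβ, ← pow_add, show 2 ^ a * m + 2 ^ a * m = 2 ^ (a + 1) * m by ring]
    exact hm
  have hτo : Odd (orderOf τ) := by
    have h3 : τ ^ m' = 1 := by
      rw [hτ, ← pow_mul, show 2 ^ a * m * m' = (2 ^ a * m') * m by ring, pow_mul, ← hord, pow_orderOf_eq_one, one_pow]
    exact hm'.of_dvd_nat (orderOf_dvd_of_pow_eq_one h3)
  -- normalise `w`
  obtain ⟨c, hc0, hcw⟩ := exists_norm hτo hw0
  set w' := c • w with hw'
  have hw1 : ∀ j, polarBilin Q (e j) w' = 0 := fun j => by rw [hw', map_smul, hw, smul_zero]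
  have hw2 : polarBilin Q w' w' = c * c * polarBilin Q w w := by
    rw [hw', map_smul, map_smul, LinearMap.smul_apply, smul_eq_mul, smul_eq_mul, mul_assoc]
  have hw3 : polarBilin Q w' w' ≠ 0 := by
    rw [hw2]; exact mul_ne_zero (mul_ne_zero hc0 hc0) hw0
  set b := bs e w' with hbdef
  have hb : OB (polarBilin Q) b := ob_bs h2 hF hw1 hw3 hc
  have hnorm : ∀ i, τ (polarBilin Q (b i) (b i)) = polarBilin Q (b i) (b i) := by
    rintro (_ | i)
    · show τ (polarBilin Q w' w') = polarBilin Q w' w'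
      rw [hw2, hcw]
    · show τ (polarBilin Q (e i) (e i)) = polarBilin Q (e i) (e i)
      rw [hF.self]; exact map_ofNat τ 2
  have hsg : ∀ j k : J, j ≠ k → ∃ g : Cfsg.Omega F (⇑Q), g ∈ H ∧ IsSg (rep (inc (⇑Q))) b j k g ∧
      α (QuotientGroup.mk g) = QuotientGroup.mk g := by
    intro j k hjk
    obtain ⟨g, hg⟩ := exists_sg hQ h2 hF hjk
    exact ⟨g, hH j k hjk g hg, isSg_of h2 hF hw1 hg, hfix j k hjk g hg⟩
  -- `U` preserves the lines
  have hline : ∀ i, ∃ c : F, U (b i) = c • b i := by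
    refine exists_line h2 hb (by omega) fun j k hjk => ?_
    obtain ⟨g, -, hg, hgα⟩ := hsg j k hjk
    refine ⟨g, hg, comm_sg hG hQ h2 hb h5 hU hg ?_⟩
    rw [hβ]
    exact pow_fixed hgα _
  choose γ hγ using hline
  have hpol : ∀ u v, polarBilin Q (U u) (U v) = ν * τ (polarBilin Q u v) := fun u v => hU.semi.polar u v
  have hγν : ∀ i, γ i * γ i = ν := by
    intro i
    have h3 := hpol (b i) (b i)
    rw [hγ, map_smul, map_smul, LinearMap.smul_apply, smul_eq_mul, smul_eq_mul, hnorm, ← mul_assoc] at h3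
    exact mul_right_cancel₀ (hb.ne i) h3
  set δ := τ (γ none) * γ none with hδ
  have hUU : ∀ i, U (U (b i)) = δ • b i := by
    intro i
    rw [hγ, hU.semi.smul, hγ, smul_smul]
    congr 1
    rcases mul_self_eq_mul_self_iff.1 ((hγν i).trans (hγν none).symm) with h3 | h3
    · rw [h3]
    · rw [h3, map_neg, neg_mul_neg]
  -- the coefficients
  have hcoef : ∀ i j, τ (cf Q b i (rep (inc (⇑Q)) h (b j))) = cf Q b i (rep (inc (⇑Q)) h (b j)) := by
    intro i j
    have h3 : τ (polarBilin Q (b i) ((rep (inc (⇑Q)) h) (b j))) = polarBilin Q (b i) ((rep (inc (⇑Q)) h) (b j)) := by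
      refine fixed_coeff (ρ := (rep (inc (⇑Q))).comp H.subtype) (f := polarBilin Q) h2 hτo hb (by omega) ?_ hnorm ?_ ?_
        ?_ (⟨h, hh⟩ : H) i j
      · intro j k hjk
        obtain ⟨g, hgH, hg, -⟩ := hsg j k hjk
        exact ⟨⟨g, hgH⟩, hg⟩
      · intro g u v
        exact polar_apply Q _ _ _
      · intro u v
        exact polar_symm _ _
      · intro g
        exact htr τ hτo g g.2
    unfold cf
    rw [map_mul, map_inv₀, h3, hnorm]
  rw [← hββ]
  apply (hU.mul hG hU).ind h h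
  have h3 : ∀ j, rep (inc (⇑Q)) h (U (U (b j))) = U (U (rep (inc (⇑Q)) h (b j))) := by
    intro j
    revert hcoef
    generalize rep (inc (⇑Q)) h = RR
    intro hcoef
    rw [hUU, map_smul]
    conv_rhs => rw [hb.span (RR (b j))]
    conv_lhs => rw [hb.span (RR (b j))]
    rw [map_sum, map_sum, Finset.smul_sum]
    refine Finset.sum_congr rfl fun i _ => ?_
    rw [hU.semi.smul, hU.semi.smul, hUU, smul_smul, smul_smul]
    congr 1
    have h4 := hcoef i j
    unfold cf at h4
    rw [h4, h4, mul_comm]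
  intro v
  rw [AddEquiv.trans_apply, AddEquiv.trans_apply]
  rw [hb.span v]
  rw [map_sum, map_sum, map_sum, map_sum, map_sum, map_sum]
  refine Finset.sum_congr rfl fun i _ => ?_
  simp only [hU.semi.smul, hU.semi.smul, map_smul, map_smul, hU.semi.smul, hU.semi.smul, h3]

end fix

section tri

open QuadraticMap Cfsg.Agent.H167.OP Cfsg.Agent.H170.HL Cfsg.Agent.H170.HL.OmRow Cfsg.Agent.H556.Om
open Cfsg.Agent.AutOrth Cfsg.Agent.AutOrth.Main Cfsg.Agent.LieClassical.OrthTrans
open Cfsg.Agent.ClassicalGeometry.OrthAut1 Cfsg.Agent.LieClassical.OrthCore Cfsg.Agent.LieClassical.OrthSimple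

section

variable {F V : Type*} [Field F] [AddCommGroup V] [Module F V] {Q : QuadraticForm F V}

theorem stab_pact (hG : Good Q) (p : P Q) (W : Submodule F V) :
    stab hG (pact hG p W) = (stab hG W).map (MulAut.conj p).toMonoidHom := by
  ext r
  rw [Subgroup.mem_map, mem_stab]
  constructor
  · intro h
    refine ⟨p⁻¹ * r * p, ?_, ?_⟩
    · rw [mem_stab, map_mul, map_mul, Equiv.Perm.mul_apply, Equiv.Perm.mul_apply, h, map_inv, Equiv.Perm.inv_def, Equiv.symm_apply_apply]
    · show p * (p⁻¹ * r * p) * p⁻¹ = r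
      group
  · rintro ⟨s, hs, rfl⟩
    show pact hG (p * s * p⁻¹) _ = _
    rw [mem_stab] at hs
    rw [map_mul, map_mul, Equiv.Perm.mul_apply, Equiv.Perm.mul_apply, map_inv, Equiv.Perm.inv_def, Equiv.symm_apply_apply, hs]

theorem pt_of_one (hG : Good Q) {α : MulAut (P Q)} {x : V} (hx : Q x = 0) (hx0 : x ≠ 0)
    (h : ∃ y, Q y = 0 ∧ y ≠ 0 ∧
      (stab hG (Submodule.span F {x})).map α.toMonoidHom = stab hG (Submodule.span F {y})) : Pt hG α := by
  intro x' hx' hx0'
  obtain ⟨y, hy, hy0, h⟩ := h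
  obtain ⟨g, hg, hgx⟩ := hG.trans_sing hx hx' hx0 hx0'
  obtain ⟨k, hk⟩ := QuotientGroup.mk_surjective (α ((⟨g, hg⟩ : ↥(E Q)) : P Q))
  have h1 : Submodule.span F {x'} = pact hG ((⟨g, hg⟩ : ↥(E Q)) : P Q) (Submodule.span F {x}) := by
    rw [pact_mk, mapHom_span]
    show _ = Submodule.span F {g x}
    rw [hgx]
  refine ⟨(k : V ≃ₗ[F] V) y, ?_, ?_, ?_⟩
  · rw [mem_O.1 (E_le_O k.2), hy]
  · intro h2
    exact hy0 ((LinearEquiv.map_eq_zero_iff _).1 h2)
  · have h2 : Submodule.span F {(k : V ≃ₗ[F] V) y} =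
        pact hG (α ((⟨g, hg⟩ : ↥(E Q)) : P Q)) (Submodule.span F {y}) := by
      rw [← hk, pact_mk, mapHom_span]
    rw [h1, h2, stab_pact, stab_pact, ← h, Subgroup.map_map, Subgroup.map_map]
    congr 1
    ext r
    simp only [_root_.MulEquiv.toMonoidHom_eq_coe, _root_.MonoidHom.coe_comp, _root_.MonoidHom.coe_coe, _root_.QuotientGroup.coe_mk', _root_.Function.comp_apply, _root_.MulAut.conj_apply, _root_.map_mul, _root_.map_inv]

end

variable {F : Type*} [Field F] {ι : Type} [Fintype ι] [DecidableEq ι] {Q : QuadraticForm F (ι → F)}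
  {J : Type*} [Fintype J] [DecidableEq J] {e : J → ι → F} {w : ι → F} {α : MulAut (Cfsg.POmega F (⇑Q))}

theorem two_Q (v : ι → F) : polarBilin Q v v = 2 * Q v :=
  H556.Om.polar_self v

theorem sub_isSg {b : Option J → ι → F} (hb : OB (polarBilin Q) b) {j k : J} (hjk : j ≠ k)
    {g : Cfsg.Omega F (⇑Q)} (hg : IsSg (rep (inc (⇑Q))) b j k g) (v : ι → F) :
    v - rep (inc (⇑Q)) g v = (2 * cf Q b (some j) v) • b (some j) + (2 * cf Q b (some k) v) • b (some k) := by
  have h1 : ∀ i, cf Q b i (v - rep (inc (⇑Q)) g v) = if i = some j ∨ i = some k then 2 * cf Q b i v else 0 := by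
    intro i
    have h2 : cf Q b i (v - rep (inc (⇑Q)) g v) = cf Q b i v - cf Q b i (rep (inc (⇑Q)) g v) := by
      unfold cf
      rw [map_sub, sub_mul]
    rw [h2, hg.cf]
    split_ifs
    · ring
    · ring
  rw [hb.span (v - rep (inc (⇑Q)) g v)]
  have h3 : ∀ i, polarBilin Q (b i) (v - rep (inc (⇑Q)) g v) * (polarBilin Q (b i) (b i))⁻¹ =
    if i = some j ∨ i = some k then 2 * cf Q b i v else 0 := h1
  simp only [h3]
  rw [Finset.sum_eq_add (some j) (some k) (fun h => hjk (Option.some_injective _ h))]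
  · rw [if_pos (Or.inl rfl), if_pos (Or.inr rfl)]
  · rintro c - ⟨hc1, hc2⟩
    rw [if_neg (by rintro (h | h); exacts [hc1 h, hc2 h]), zero_smul]
  · intro h; exact absurd (Finset.mem_univ _) h
  · intro h; exact absurd (Finset.mem_univ _) h

/-- **No triality.** -/
theorem ind_of_frame [Finite F] (hG : Good Q) (hQ : GoodQ Q) (h7 : 7 ≤ Fintype.card ι) (h2 : (2 : F) ≠ 0)
    (hF : Frame (polarBilin Q) e) (hw : ∀ j, polarBilin Q (e j) w = 0) (hw0 : polarBilin Q w w ≠ 0)
    (hc : Fintype.card J + 1 = Fintype.card ι)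
    (hfix : ∀ j k, j ≠ k → ∀ g : Cfsg.Omega F (⇑Q), rep (inc (⇑Q)) g = mono (polarBilin Q) e (H556.Om.sg F j k) id →
      α (QuotientGroup.mk g) = QuotientGroup.mk g) : Ind (⇑Q) α := by
  rw [ind_iff_pt hG h7]
  obtain ⟨a1, a2, a3, h12, h13, h23⟩ := Fintype.two_lt_card_iff.1 (show 2 < Fintype.card J by omega)
  set b := bs e w with hbdef
  have hb : OB (polarBilin Q) b := ob_bs h2 hF hw hw0 hc
  obtain ⟨p, hp⟩ := CharP.exists F
  obtain ⟨x, y, hxy⟩ : ∃ x y : F, x ^ 2 + y ^ 2 = -1 := by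
    have hp0 : NeZero p := ⟨CharP.char_ne_zero_of_finite F p⟩
    obtain ⟨a, b, hab⟩ := CharP.sq_add_sq F p (-1)
    exact ⟨a, b, by rw [hab]; norm_num⟩
  set u : ι → F := x • e a1 + y • e a2 + e a3 with hu
  have hQu : Q u = 0 := by
    have h3 : polarBilin Q u u = 2 * (x ^ 2 + y ^ 2 + 1) := by
      rw [hu]
      simp only [map_add, map_smul, LinearMap.add_apply, LinearMap.smul_apply, smul_eq_mul, hF.self,
        hF.orth _ _ h12, hF.orth _ _ h13, hF.orth _ _ h23, hF.orth _ _ h12.symm, hF.orth _ _ h13.symm,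
        hF.orth _ _ h23.symm]
      ring
    rw [two_Q, hxy] at h3
    have h4 : (2 : F) * Q u = 0 := by rw [h3]; ring
    exact (mul_eq_zero.1 h4).resolve_left h2
  have hu0 : u ≠ 0 := by
    intro h0
    have h3 : polarBilin Q (e a3) u = 2 := by
      rw [hu]
      simp only [map_add, map_smul, hF.self, hF.orth _ _ h13.symm, hF.orth _ _ h23.symm, smul_zero, zero_add]
    rw [h0, map_zero] at h3
    exact h2 h3.symm
  rcases Cfsg.Agent.ClassicalGeometry.OrthAut3.dichotomy hG (by rwa [Module.finrank_fintype_fun_eq_card])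
    (tr hG α) hQu hu0 with h | h
  · exact pt_of_one hG hQu hu0 h
  exfalso
  obtain ⟨h8, W, hTS, hW4, hW⟩ := h
  rw [Module.finrank_fintype_fun_eq_card] at h8
  let S : Finset J := Finset.univ \ {a1, a2, a3}
  have hmS : ∀ j, j ∈ S ↔ j ≠ a1 ∧ j ≠ a2 ∧ j ≠ a3 := by
    intro j
    simp only [S, _root_.Finset.mem_sdiff, _root_.Finset.mem_univ, _root_.Finset.mem_insert, _root_.Finset.mem_singleton, _root_.not_or, _root_.true_and, _root_.ne_eq]
  have hS : 4 ≤ S.card := by
    have h3 := Finset.le_card_sdiff ({a1, a2, a3} : Finset J) Finset.univ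
    have h4 : ({a1, a2, a3} : Finset J).card ≤ 3 := Finset.card_le_three
    rw [Finset.card_univ] at h3
    show 4 ≤ (Finset.univ \ {a1, a2, a3} : Finset J).card
    omega
  -- sign changes outside preserve `W`
  have hmemW : ∀ j ∈ S, ∀ k ∈ S, j ≠ k → ∀ v ∈ W,
      cf Q b (some j) v * cf Q b (some j) v + cf Q b (some k) v * cf Q b (some k) v = 0 := by
    intro j hj k hk hjk v hv
    obtain ⟨g, hg⟩ := exists_sg hQ h2 hF hjk
    have hsg : IsSg (rep (inc (⇑Q))) b j k g := isSg_of h2 hF hw hg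
    have hgα := hfix j k hjk g hg
    have hfx : ∀ a, a ∉ S → rep (inc (⇑Q)) g (e a) = e a := by
      intro a ha
      have h3 := hsg (some a)
      rw [if_neg] at h3
      · exact h3
      · rintro (h | h)
        · exact ha (Option.some_injective _ h ▸ hj)
        · exact ha (Option.some_injective _ h ▸ hk)
    have hgu : rep (inc (⇑Q)) g u = u := by
      rw [hu]
      simp only [map_add, map_smul]
      rw [hfx a1 (by simp [hmS]), hfx a2 (by simp [hmS]), hfx a3 (by simp [hmS])]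
    have h3 : ((oe hG g : ↥(E Q)) : P Q) ∈ stab hG (Submodule.span F {u}) := by
      apply mem_stab_of_map_le
      intro z hz
      obtain ⟨c, rfl⟩ := Submodule.mem_span_singleton.1 hz
      have h4 : (oe hG g : (ι → F) ≃ₗ[F] (ι → F)) u = u := hgu
      rw [map_smul, h4]
      exact hz
    have h4 : ((oe hG g : ↥(E Q)) : P Q) ∈ stab hG W := by
      rw [← hW]
      refine ⟨_, h3, ?_⟩
      show tr hG α ((oe hG g : ↥(E Q)) : P Q) = _
      rw [tr_apply, hgα, pe_mk]
    have h5 : rep (inc (⇑Q)) g v ∈ W := apply_mem_of_mem_stab h4 hv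
    have h6 := hTS _ (W.sub_mem hv h5)
    have h7 := two_Q (Q := Q) (v - rep (inc (⇑Q)) g v)
    rw [h6, mul_zero, sub_isSg hb hjk hsg] at h7
    have h8 : polarBilin Q (b (some j)) (b (some j)) = 2 := hF.self j
    have h9 : polarBilin Q (b (some k)) (b (some k)) = 2 := hF.self k
    simp only [map_add, map_smul, LinearMap.add_apply, LinearMap.smul_apply, smul_eq_mul, h8, h9,
      hb.orth (some j) (some k) (fun h => hjk (Option.some_injective _ h)),
      hb.orth (some k) (some j) (fun h => hjk (Option.some_injective _ h).symm)] at h7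
    have h10 : (2 * (2 * 2) : F) * (cf Q b (some j) v * cf Q b (some j) v +
        cf Q b (some k) v * cf Q b (some k) v) = 0 := by
      linear_combination h7
    exact (mul_eq_zero.1 h10).resolve_left (mul_ne_zero h2 (mul_ne_zero h2 h2))
  have hzero : ∀ j ∈ S, ∀ v ∈ W, cf Q b (some j) v = 0 := by
    intro j hj v hv
    obtain ⟨k, hk, l, hl, hkl⟩ := Finset.one_lt_card.1 (show 1 < (S.erase j).card by
      rw [Finset.card_erase_of_mem hj]; omega)
    rw [Finset.mem_erase] at hk hl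
    have h3 := hmemW j hj k hk.2 hk.1.symm v hv
    have h4 := hmemW j hj l hl.2 hl.1.symm v hv
    have h5 := hmemW k hk.2 l hl.2 hkl v hv
    have h6 : (2 : F) * (cf Q b (some j) v * cf Q b (some j) v) = 0 := by linear_combination h3 + h4 - h5
    exact mul_self_eq_zero.1 ((mul_eq_zero.1 h6).resolve_left h2)
  have hle : W ≤ Submodule.span F (Set.range ![b none, e a1, e a2, e a3]) := by
    intro v hv
    rw [hb.span v]
    refine Submodule.sum_mem _ fun i _ => ?_
    rcases i with _ | j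
    · exact Submodule.smul_mem _ _ (Submodule.subset_span ⟨0, rfl⟩)
    · by_cases hj : j ∈ S
      · have h3 := hzero j hj v hv
        unfold cf at h3
        rw [h3, zero_smul]
        exact Submodule.zero_mem _
      · apply Submodule.smul_mem
        apply Submodule.subset_span
        rw [hmS] at hj
        by_cases h3 : j = a1
        · exact ⟨1, by rw [h3]; rfl⟩
        · by_cases h4 : j = a2
          · exact ⟨2, by rw [h4]; rfl⟩
          · by_cases h5 : j = a3
            · exact ⟨3, by rw [h5]; rfl⟩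
            · exact absurd ⟨h3, h4, h5⟩ hj
  have h3 : Module.finrank F (Submodule.span F (Set.range ![b none, e a1, e a2, e a3])) ≤ 4 :=
    finrank_range_le_card _
  have h4 : W = Submodule.span F (Set.range ![b none, e a1, e a2, e a3]) :=
    Submodule.eq_of_le_of_finrank_le hle (by rw [hW4]; exact h3)
  have h5 : e a1 ∈ W := by
    rw [h4]
    exact Submodule.subset_span ⟨1, rfl⟩
  have h6 := two_Q (Q := Q) (e a1)
  rw [hTS _ h5, mul_zero, hF.self] at h6
  exact h2 h6

end tri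

end Cfsg.Agent.H485.RV
end

-- part: H340/MP/Char0
section
/-!
# Minimal polynomial lemma, characteristic zero (helper340)

`char0` : `H` finite, `τ : H →* M_n(ℂ)`, `x ∈ H`, `T` a finite set of roots of unity, any two of them having the same
`ℓ^k`-th power, `∏_{z ∈ T} (τ x - z) = 0`, `#T ≤ ℓ^a`. Then `x ^ ℓ^a` lies in a normal subgroup `N` of `H` whose image
modulo scalars is an `ℓ`-group.
-/

set_option autoImplicit false
set_option linter.unusedSectionVars false

namespace Cfsg.Agent.H340.MP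

open Polynomial Matrix IsLocalRing

/-- the transport lemma -/
theorem aeval_eq_zero_of {R k : Type*} [CommRing R] [Field k] {φ : R →+* k} (hu : ∀ a, φ a ≠ 0 → IsUnit a) {n : ℕ}
    (X : Matrix (Fin n) (Fin n) R) (f g : R[X]) (F : k[X]) (hfg : aeval X (f * g) = 0)
    (hF : aeval (X.map φ) F = 0) (hc : IsCoprime F (g.map φ)) : aeval X f = 0 := by
  have hmap : ∀ q : R[X], (aeval X q).map φ = aeval (X.map φ) (q.map φ) := by
    intro q
    have h1 : φ.mapMatrix (aeval X q) = aeval (φ.mapMatrix X) (q.map φ) := by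
      induction q using Polynomial.induction_on' with
      | add p q hp hq => rw [map_add, map_add, hp, hq, Polynomial.map_add, map_add]
      | monomial m a =>
        rw [aeval_monomial, map_mul, map_pow, Polynomial.map_monomial, aeval_monomial]
        congr 1
        ext i j
        rw [RingHom.mapMatrix_apply, Matrix.map_apply, Matrix.algebraMap_matrix_apply, Matrix.algebraMap_matrix_apply]
        split_ifs
        · rfl
        · exact map_zero φ
    exact h1
  obtain ⟨u, v, huv⟩ := hc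
  have h1 : aeval (X.map φ) v * aeval (X.map φ) (g.map φ) = 1 := by
    have h2 := congrArg (aeval (X.map φ)) huv
    rw [map_add, map_mul, map_mul, hF, mul_zero, zero_add, map_one] at h2
    exact h2
  have h3 : IsUnit (aeval X g) := by
    rw [Matrix.isUnit_iff_isUnit_det]
    apply hu
    rw [RingHom.map_det, RingHom.mapMatrix_apply, hmap]
    intro h4
    have h5 := congrArg Matrix.det h1
    rw [Matrix.det_mul, h4, mul_zero, Matrix.det_one] at h5
    exact zero_ne_one h5
  rw [map_mul] at hfg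
  exact (IsUnit.mul_left_eq_zero h3).1 hfg

theorem eq_one_of_map {R k : Type*} [CommRing R] [IsDomain R] [Field k] {φ : R →+* k} {t : R} {r : ℕ}
    (hr : (r : k) ≠ 0) (h : t ^ r = 1) (h1 : φ t = 1) : t = 1 := by
  have hgeom : (∑ i ∈ Finset.range r, t ^ i) * (t - 1) = 0 := by
    rw [geom_sum_mul, h, sub_self]
  have h2 : φ (∑ i ∈ Finset.range r, t ^ i) = (r : k) := by
    rw [map_sum]
    simp only [h1, _root_.map_pow, _root_.one_pow, _root_.Finset.sum_const, _root_.Finset.card_range, _root_.nsmul_eq_mul, _root_.mul_one]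
  rcases mul_eq_zero.1 hgeom with h3 | h3
  · exfalso
    rw [h3, map_zero] at h2
    exact hr h2.symm
  · exact sub_eq_zero.1 h3

theorem eq_of_map {R k : Type*} [CommRing R] [IsDomain R] [Field k] {φ : R →+* k} {s t : R} {r : ℕ}
    (hr : (r : k) ≠ 0) (hs : s ^ r = 1) (ht : t ^ r = 1) (h1 : φ s = φ t) : s = t := by
  have hr0 : r ≠ 0 := by
    rintro rfl
    exact hr Nat.cast_zero
  have ht' : t ^ (r - 1) * t = 1 := by
    rw [← pow_succ, Nat.sub_add_cancel (Nat.one_le_iff_ne_zero.2 hr0), ht]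
  have h2 : s * t ^ (r - 1) = 1 := by
    refine eq_one_of_map hr (φ := φ) ?_ ?_
    · rw [mul_pow, hs, one_mul, ← pow_mul, mul_comm, pow_mul, ht, one_pow]
    · rw [map_mul, h1, ← map_mul, mul_comm, ht', map_one]
  calc s = s * (t ^ (r - 1) * t) := by rw [ht', mul_one]
    _ = t := by rw [← mul_assoc, h2, one_mul]

theorem prod_roots {R : Type*} [CommRing R] [IsDomain R] {m : ℕ} (hm : 0 < m) {ζ : R} (hζ : IsPrimitiveRoot ζ m) :
    ∏ z ∈ nthRootsFinset m (1 : R), (Polynomial.X - C z) = (Polynomial.X : R[X]) ^ m - 1 :=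
  (X_pow_sub_one_eq_prod hm hζ).symm

variable {H : Type*} [Group H] [Finite H]

/-- a matrix of order `m` which is scalar modulo the maximal ideal is scalar -/
theorem scalar_lift {R k : Type*} [CommRing R] [IsDomain R] [Field k] {φ : R →+* k}
    (hu : ∀ a, φ a ≠ 0 → IsUnit a) {n : ℕ} (Y : Matrix (Fin n) (Fin n) R) {m : ℕ} (hm : (m : k) ≠ 0) {ζ : R}
    (hζ : IsPrimitiveRoot ζ m) (hY : Y ^ m = 1) {c : k} (hc : Y.map φ = c • (1 : Matrix (Fin n) (Fin n) k)) :
    ∃ z : R, Y = z • (1 : Matrix (Fin n) (Fin n) R) := by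
  classical
  rcases Nat.eq_zero_or_pos n with hn | hn
  · subst hn
    exact ⟨1, Subsingleton.elim _ _⟩
  have hm0 : 0 < m := Nat.pos_of_ne_zero (by rintro rfl; exact hm Nat.cast_zero)
  have hprod := prod_roots hm0 hζ
  have hc1 : c ^ m = 1 := by
    have h1 : (Y ^ m).map φ = 1 := by rw [hY]; exact φ.mapMatrix.map_one
    have h2 : (Y ^ m).map φ = (Y.map φ) ^ m := φ.mapMatrix.map_pow Y m
    rw [h2, hc, _root_.smul_pow, one_pow] at h1
    have h3 := congrArg (fun M : Matrix (Fin n) (Fin n) k => M ⟨0, hn⟩ ⟨0, hn⟩) h1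
    simpa only [_root_.Matrix.smul_apply, _root_.Matrix.one_apply_eq, _root_.smul_eq_mul, _root_.mul_one] using h3
  have h0 : ∏ z ∈ nthRootsFinset m (1 : R), (c - φ z) = 0 := by
    have h1 := congrArg (fun q : R[X] => Polynomial.eval c (q.map φ)) hprod
    simp only [Polynomial.map_prod, Polynomial.eval_prod, Polynomial.map_sub, Polynomial.map_X, Polynomial.map_C,
      Polynomial.eval_sub, Polynomial.eval_X, Polynomial.eval_C, Polynomial.map_pow, Polynomial.map_one,
      Polynomial.eval_pow, Polynomial.eval_one] at h1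
    rw [h1, hc1, sub_self]
  obtain ⟨z, hz, hcz⟩ := Finset.prod_eq_zero_iff.1 h0
  have hcz' : c = φ z := sub_eq_zero.1 hcz
  have hz1 : z ^ m = 1 := (mem_nthRootsFinset hm0 _).1 hz
  refine ⟨z, ?_⟩
  have key := aeval_eq_zero_of hu Y (Polynomial.X - C z)
    (∏ w ∈ (nthRootsFinset m (1 : R)).erase z, (Polynomial.X - C w)) (Polynomial.X - C c)
    (by
      rw [Finset.mul_prod_erase _ (fun w => (Polynomial.X - C w : R[X])) hz, hprod]
      simp [hY])
    (by
      rw [map_sub, aeval_X, aeval_C, hc, Algebra.algebraMap_eq_smul_one, sub_self])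
    (by
      rw [Polynomial.map_prod]
      refine IsCoprime.prod_right fun w hw => ?_
      rw [Polynomial.map_sub, Polynomial.map_X, Polynomial.map_C]
      refine Polynomial.isCoprime_X_sub_C_of_isUnit_sub ?_
      rw [isUnit_iff_ne_zero, sub_ne_zero, hcz']
      intro h1
      refine (Finset.mem_erase.1 hw).1 ?_
      exact (eq_of_map hm hz1 ((mem_nthRootsFinset hm0 _).1 (Finset.mem_erase.1 hw).2) h1).symm)
  rw [map_sub, aeval_X, aeval_C, Algebra.algebraMap_eq_smul_one, sub_eq_zero] at key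
  exact key

theorem aeval_map {R k : Type*} [CommRing R] [CommRing k] (φ : R →+* k) {n : ℕ} (X : Matrix (Fin n) (Fin n) R)
    (q : R[X]) : (aeval X q).map φ = aeval (X.map φ) (q.map φ) := by
  have h1 : φ.mapMatrix (aeval X q) = aeval (φ.mapMatrix X) (q.map φ) := by
    induction q using Polynomial.induction_on' with
    | add p q hp hq => rw [map_add, map_add, hp, hq, Polynomial.map_add, map_add]
    | monomial m a =>
      rw [aeval_monomial, map_mul, map_pow, Polynomial.map_monomial, aeval_monomial]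
      congr 1
      ext i j
      rw [RingHom.mapMatrix_apply, Matrix.map_apply, Matrix.algebraMap_matrix_apply, Matrix.algebraMap_matrix_apply]
      split_ifs
      · rfl
      · exact map_zero φ
  exact h1

theorem aeval_conj {R : Type*} [CommRing R] {n : ℕ} (X P P' : Matrix (Fin n) (Fin n) R) (h1 : P * P' = 1)
    (h2 : P' * P = 1) (q : R[X]) : aeval (P' * X * P) q = P' * aeval X q * P := by
  have hpow : ∀ m : ℕ, (P' * X * P) ^ m = P' * X ^ m * P := by
    intro m
    induction m with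
    | zero => rw [pow_zero, pow_zero, mul_one, h2]
    | succ m ih =>
      rw [pow_succ, ih, pow_succ]
      calc P' * X ^ m * P * (P' * X * P) = P' * X ^ m * (P * P') * X * P := by simp only [mul_assoc]
        _ = P' * (X ^ m * X) * P := by rw [h1, mul_one, mul_assoc P']
  induction q using Polynomial.induction_on' with
  | add p q hp hq => rw [map_add, hp, hq, map_add, mul_add, add_mul]
  | monomial m a =>
    rw [aeval_monomial, aeval_monomial, hpow, Algebra.algebraMap_eq_smul_one, smul_mul_assoc, one_mul, smul_mul_assoc,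
      one_mul, mul_smul_comm, smul_mul_assoc]

end Cfsg.Agent.H340.MP
end

-- part: H340/MP/CharP
section
/-!
# The minimal polynomial lemma (helper340)

`main` : `H` a finite group of order prime to `p`, `σ : H →* GL_n(F)`, `F` a finite field of characteristic `p`, `x ∈ H`,
`T ⊆ F` finite with `∏_{z ∈ T} (σ x - z) = 0`, the quotients of the elements of `T` of `l`-power order, `#T ≤ l^a`.
Then `x ^ l^a` lies in a normal subgroup `N` of `H` whose image modulo scalars is an `l`-group.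
-/

set_option autoImplicit false
set_option linter.unusedSectionVars false

namespace Cfsg.Agent.H340.MP

open Polynomial Matrix Cfsg.Agent.H831.RepLift

variable {H : Type*} [Group H] [Finite H]

end Cfsg.Agent.H340.MP
end

-- part: H340/MP/Poly
section
/-!
# The minimal polynomial lemma, polynomial form (helper340)

`poly` : `H` a finite group of order prime to `p`, `σ : H →* GL_n(F)`, `F` finite of characteristic `p`, `x ∈ H`,
`σ(x)^(l^b)` scalar, `P(σ(x)) = 0` for some `P ≠ 0` in `F[X]` of degree `≤ l^a`. Then `x ^ l^a` lies in a normal subgroup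
`N` of `H` whose image modulo scalars is an `l`-group.
-/

set_option autoImplicit false
set_option linter.unusedSectionVars false

namespace Cfsg.Agent.H340.MP

open Polynomial Matrix Cfsg.Agent.H831.RepLift

variable {H : Type*} [Group H] [Finite H]

end Cfsg.Agent.H340.MP
end

-- part: H340/MP/One
section
/-!
# The minimal polynomial lemma, faithful version (helper340)

`poly_one` : `H` a finite group of order prime to `p`, `σ : H →* GL_n(F)` injective, `F` finite of characteristic `p`,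
`x ∈ H` an `l`-element, `P(σ(x)) = 0` for some `P ≠ 0` in `F[X]` of degree `≤ l^a`. Then `x ^ l^a ∈ O_l(H)`.
-/

set_option autoImplicit false
set_option linter.unusedSectionVars false

namespace Cfsg.Agent.H340.MP

open Polynomial Matrix IsLocalRing Cfsg.Agent.H831.RepLift

variable {H : Type*} [Group H] [Finite H]

/-- The minimal polynomial lemma in characteristic zero, faithful version. -/
theorem char0_one {n : ℕ} (τ : H →* Matrix (Fin n) (Fin n) ℂ) {l : ℕ} [Fact l.Prime] {x : H} {a : ℕ} (T : Finset ℂ)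
    (h0 : aeval (τ x) (∏ z ∈ T, (Polynomial.X - C z)) = 0) (hroot : ∀ z ∈ T, ∃ m : ℕ, m ≠ 0 ∧ z ^ m = 1)
    (hpow : ∀ z ∈ T, ∃ k : ℕ, z ^ l ^ k = 1) (hcard : T.card ≤ l ^ a) :
    ∃ N : Subgroup H, N.Normal ∧ x ^ l ^ a ∈ N ∧
      ∀ h ∈ N, ∃ (k : ℕ), ¬ l ∣ orderOf (h ^ l ^ k) ∧ τ (h ^ l ^ k) = 1 := by
  classical
  obtain ⟨B, hB⟩ := Cfsg.Agent.H640.exists_valRing l
  obtain ⟨σ, P, P', hP1, hP2, hσ⟩ := Cfsg.Agent.H640.exists_integral B τ
  let φ : B →+* ResidueField B := residue B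
  have hu : ∀ b, φ b ≠ 0 → IsUnit b := fun b hb => (residue_ne_zero_iff_isUnit b).1 hb
  have hal : Function.Injective (algebraMap B ℂ) := fun u v huv => Subtype.ext huv
  -- the normal subgroup
  let τ' : H →* Matrix (Fin n) (Fin n) (ResidueField B) := (φ.mapMatrix.toMonoidHom : _ →* _).comp σ
  have hτ' : ∀ g, τ' g = (σ g).map φ := fun g => rfl
  let N : Subgroup H := τ'.toHomUnits.ker
  have hN : N.Normal := MonoidHom.normal_ker _
  have hNmem : ∀ g, g ∈ N ↔ (σ g).map φ = 1 := by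
    intro g
    rw [MonoidHom.mem_ker, ← hτ', Units.ext_iff]
    rfl
  refine ⟨N, hN, ?_, ?_⟩
  · -- the power of `x`
    rw [hNmem]
    rcases Nat.eq_zero_or_pos n with hn | hn
    · subst hn
      exact Subsingleton.elim _ _
    have hmem : ∀ z ∈ T, z ∈ B := by
      intro z hz
      obtain ⟨m, hm, h1⟩ := hroot z hz
      exact Cfsg.Agent.H640.mem_of_pow_eq_one hm h1
    let b : ℂ → B := fun z => if h : z ∈ B then ⟨z, h⟩ else 0
    have hb : ∀ z ∈ T, algebraMap B ℂ (b z) = z := by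
      intro z hz
      have : b z = ⟨z, hmem z hz⟩ := dif_pos (hmem z hz)
      rw [this]
      rfl
    have h1 : aeval (σ x) (∏ z ∈ T, (Polynomial.X - C (b z))) = 0 := by
      apply Matrix.map_injective hal
      change (aeval (σ x) (∏ z ∈ T, (Polynomial.X - C (b z)))).map (algebraMap B ℂ) =
        (0 : Matrix (Fin n) (Fin n) B).map (algebraMap B ℂ)
      rw [aeval_map (algebraMap B ℂ), hσ, Polynomial.map_prod]
      have h2 : ∏ z ∈ T, ((Polynomial.X - C (b z)).map (algebraMap B ℂ)) = ∏ z ∈ T, (Polynomial.X - C z) := by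
        refine Finset.prod_congr rfl fun z hz => ?_
        rw [Polynomial.map_sub, Polynomial.map_X, Polynomial.map_C, hb z hz]
      rw [h2, aeval_conj _ _ _ hP1 hP2, h0, mul_zero, zero_mul]
      ext i j
      simp
    have h2 : aeval ((σ x).map φ) (∏ z ∈ T, (Polynomial.X - C (φ (b z)))) = 0 := by
      have h3 : (aeval (σ x) (∏ z ∈ T, (Polynomial.X - C (b z)))).map φ =
        (0 : Matrix (Fin n) (Fin n) B).map φ := by rw [h1]
      rw [aeval_map φ, Polynomial.map_prod] at h3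
      have h4 : ∏ z ∈ T, ((Polynomial.X - C (b z)).map φ) = ∏ z ∈ T, (Polynomial.X - C (φ (b z))) := by
        refine Finset.prod_congr rfl fun z hz => ?_
        rw [Polynomial.map_sub, Polynomial.map_X, Polynomial.map_C]
      rw [h4] at h3
      rw [h3]
      ext i j
      simp
    have hne : T.Nonempty := by
      rw [Finset.nonempty_iff_ne_empty]
      intro hT
      rw [hT, Finset.prod_empty, map_one] at h2
      have h3 := congrArg (fun M : Matrix (Fin n) (Fin n) (ResidueField B) => M ⟨0, hn⟩ ⟨0, hn⟩) h2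
      simp at h3
    obtain ⟨z₀, hz₀⟩ := hne
    have hall : ∀ z ∈ T, φ (b z) = 1 := by
      intro z hz
      obtain ⟨k, hk⟩ := hpow z hz
      have h3 : b z ^ l ^ k = 1 := by
        apply hal
        rw [map_pow, hb z hz, hk, map_one]
      have h4 := congrArg φ h3
      rw [map_pow, map_one, ← sub_eq_zero, show (1 : ResidueField B) = 1 ^ l ^ k from (one_pow _).symm,
        ← sub_pow_char_pow (p := l)] at h4
      exact sub_eq_zero.1 (eq_zero_of_pow_eq_zero h4)
    have h3 : ((σ x).map φ - (1 : Matrix (Fin n) (Fin n) (ResidueField B))) ^ T.card = 0 := by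
      rw [Finset.prod_congr rfl (fun z hz => by rw [hall z hz] :
        ∀ z ∈ T, (Polynomial.X - C (φ (b z))) = Polynomial.X - C 1), Finset.prod_const, map_pow, map_sub,
        aeval_X, aeval_C, map_one] at h2
      exact h2
    have h4 : ((σ x).map φ - (1 : Matrix (Fin n) (Fin n) (ResidueField B))) ^ l ^ a = 0 :=
      pow_eq_zero_of_le hcard h3
    have : Nonempty (Fin n) := ⟨⟨0, hn⟩⟩
    have hchar : CharP (Matrix (Fin n) (Fin n) (ResidueField B)) l := inferInstance
    rw [sub_pow_char_pow_of_commute _ _ (Commute.one_right _), sub_eq_zero] at h4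
    have h5 : (σ (x ^ l ^ a)).map φ = ((σ x).map φ) ^ l ^ a := by
      rw [map_pow]
      exact map_pow φ.mapMatrix (σ x) _
    rw [h5, h4, one_pow]
  · -- elements of `N`
    intro h hh
    obtain ⟨k, m, hm, hord⟩ : ∃ k m : ℕ, ¬ l ∣ m ∧ orderOf h = l ^ k * m := by
      obtain ⟨k, m, hm, h1⟩ := Nat.exists_eq_pow_mul_and_not_dvd (orderOf_pos h).ne' l (Fact.out : l.Prime).ne_one
      exact ⟨k, m, hm, h1⟩
    have hm0 : m ≠ 0 := by
      rintro rfl
      exact hm (dvd_zero l)
    have ho : orderOf (h ^ l ^ k) = m := by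
      rw [orderOf_pow, hord, Nat.gcd_eq_right (Dvd.intro _ rfl),
        Nat.mul_div_cancel_left _ (pow_pos (Fact.out : l.Prime).pos k)]
    have hNk : h ^ l ^ k ∈ N := N.pow_mem hh _
    rw [hNmem] at hNk
    -- a primitive root of unity
    obtain ⟨ζ, hζ⟩ : ∃ ζ : B, IsPrimitiveRoot ζ m := by
      have hζ0 := Complex.isPrimitiveRoot_exp m hm0
      have hmem : Complex.exp (2 * Real.pi * Complex.I / m) ∈ B :=
        Cfsg.Agent.H640.mem_of_pow_eq_one hm0 hζ0.pow_eq_one
      refine ⟨⟨_, hmem⟩, ?_⟩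
      exact IsPrimitiveRoot.of_map_of_injective (f := algebraMap B ℂ) hζ0 hal
    have hmk : (m : ResidueField B) ≠ 0 := by
      intro h1
      exact hm ((CharP.cast_eq_zero_iff (ResidueField B) l m).1 h1)
    have hYm : (σ (h ^ l ^ k)) ^ m = 1 := by
      rw [← map_pow, ← ho, pow_orderOf_eq_one, map_one]
    rcases Nat.eq_zero_or_pos n with hn | hn
    · subst hn
      exact ⟨k, by rw [ho]; exact hm, Subsingleton.elim _ _⟩
    obtain ⟨z, hz⟩ := scalar_lift hu (σ (h ^ l ^ k)) hmk hζ hYm (c := 1) (by rw [hNk, one_smul])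
    have hz1 : z = 1 := by
      refine eq_one_of_map (φ := φ) hmk ?_ ?_
      · have h1 := hYm
        rw [hz, _root_.smul_pow, one_pow] at h1
        have h3 := congrArg (fun M : Matrix (Fin n) (Fin n) B => M ⟨0, hn⟩ ⟨0, hn⟩) h1
        simpa only [_root_.Matrix.smul_apply, _root_.Matrix.one_apply_eq, _root_.smul_eq_mul, _root_.mul_one] using h3
      · have h1 := hNk
        rw [hz] at h1
        have h3 := congrArg (fun M : Matrix (Fin n) (Fin n) (ResidueField B) => M ⟨0, hn⟩ ⟨0, hn⟩) h1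
        simpa only [_root_.Matrix.map_apply, _root_.Matrix.smul_apply, _root_.Matrix.one_apply_eq, _root_.smul_eq_mul, _root_.mul_one] using h3
    refine ⟨k, by rw [ho]; exact hm, ?_⟩
    have h1 := hσ (h ^ l ^ k)
    rw [hz, hz1, one_smul] at h1
    have h2 : (1 : Matrix (Fin n) (Fin n) B).map (algebraMap B ℂ) = 1 := by
      ext i j
      rw [Matrix.map_apply, Matrix.one_apply, Matrix.one_apply]
      split_ifs <;> simp only [_root_.ValuationSubring.algebraMap_apply, _root_.OneMemClass.coe_one, _root_.ZeroMemClass.coe_zero]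
    rw [h2] at h1
    calc τ (h ^ l ^ k) = (P * P') * τ (h ^ l ^ k) * (P * P') := by rw [hP1, one_mul, mul_one]
      _ = P * (P' * τ (h ^ l ^ k) * P) * P' := by simp only [mul_assoc]
      _ = 1 := by rw [← h1, mul_one, hP1]

/-- **The minimal polynomial lemma, faithful version.** -/
theorem poly_one {F : Type*} [Field F] [Finite F] {p : ℕ} [Fact p.Prime] [CharP F p] (hcop : ¬ p ∣ Nat.card H)
    {n : ℕ} (σ : H →* GL (Fin n) F) (hσ : Function.Injective σ) {l : ℕ} [Fact l.Prime] {x : H} {a b : ℕ} {P : F[X]}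
    (hP : P ≠ 0)
    (h0 : aeval ((σ x : GL (Fin n) F) : Matrix (Fin n) (Fin n) F) P = 0)
    (hx : x ^ l ^ b = 1) (hdeg : P.natDegree ≤ l ^ a) : x ^ l ^ a ∈ Cfsg.pCore l H := by
  classical
  let _ : Algebra (ZMod p) F := ZMod.algebra F p
  have hfin : Module.Finite (ZMod p) F := Module.Finite.of_finite
  let j : F →ₐ[ZMod p] SmallSimple.WittRing.kbar p := IsAlgClosed.lift
  let j' : F →+* SmallSimple.WittRing.kbar p := j
  have hj : Function.Injective j' := j.injective
  let σ' : H →* GL (Fin n) (SmallSimple.WittRing.kbar p) := (Matrix.GeneralLinearGroup.map (j : F →+* _)).comp σ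
  obtain ⟨τ, hτ⟩ := exists_lift (res_witt p) (D := H) (by
    intro h
    exact hcop ((CharP.cast_eq_zero_iff (SmallSimple.WittRing.kbar p) p _).1 h)) σ'
  obtain ⟨ι, hι⟩ := SmallSimple.WittRing.exists_embedding p
  let φ : SmallSimple.WittRing.A p →+* SmallSimple.WittRing.kbar p :=
    WittVector.constantCoeff (p := p) (R := SmallSimple.WittRing.kbar p)
  have hu : ∀ b, φ b ≠ 0 → IsUnit b := fun b hb => (res_witt p).isUnit hb
  have hτv : ∀ g, (((τ g : GL (Fin n) (SmallSimple.WittRing.A p)) :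
      Matrix (Fin n) (Fin n) (SmallSimple.WittRing.A p)).map φ) =
      ((σ g : GL (Fin n) F) : Matrix (Fin n) (Fin n) F).map j' := by
    intro g
    have h3 := congrArg (fun x : GL (Fin n) (SmallSimple.WittRing.kbar p) =>
      (x : Matrix (Fin n) (Fin n) (SmallSimple.WittRing.kbar p))) (hτ g)
    exact h3
  let f : H →* Matrix (Fin n) (Fin n) ℂ :=
    (ι.mapMatrix : Matrix (Fin n) (Fin n) (SmallSimple.WittRing.A p) →+* Matrix (Fin n) (Fin n) ℂ).toMonoidHom.comp
      ((Units.coeHom _).comp τ)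
  have hfv : ∀ g, f g = ((τ g : GL (Fin n) (SmallSimple.WittRing.A p)) :
      Matrix (Fin n) (Fin n) (SmallSimple.WittRing.A p)).map ι := fun g => rfl
  -- roots of unity
  have hm0 : 0 < orderOf x := orderOf_pos x
  have hmp : ¬ p ∣ orderOf x := fun h => hcop (h.trans (orderOf_dvd_natCard x))
  have hmk : ((orderOf x : ℕ) : SmallSimple.WittRing.kbar p) ≠ 0 := fun h =>
    hmp ((CharP.cast_eq_zero_iff (SmallSimple.WittRing.kbar p) p _).1 h)
  obtain ⟨ζ, hζ⟩ := SmallSimple.WittRing.exists_isPrimitiveRoot p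
    (n := orderOf x) ((Nat.Prime.coprime_iff_not_dvd (Fact.out : p.Prime)).2 hmp).symm
  have hprod := prod_roots hm0 hζ
  have hroot : ∀ z ∈ nthRootsFinset (orderOf x) (1 : SmallSimple.WittRing.A p), z ^ orderOf x = 1 :=
    fun z hz => (mem_nthRootsFinset hm0 _).1 hz
  let Tall := nthRootsFinset (orderOf x) (1 : SmallSimple.WittRing.A p)
  let Q : (SmallSimple.WittRing.kbar p)[X] := Polynomial.X ^ l ^ b - 1
  let P' := P.map j'
  have hP' : P' ≠ 0 := (Polynomial.map_ne_zero_iff hj).2 hP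
  let T1 := Tall.filter fun z => P'.IsRoot (φ z) ∧ Q.IsRoot (φ z)
  let T2 := Tall.filter fun z => ¬ (P'.IsRoot (φ z) ∧ Q.IsRoot (φ z))
  have hPx : aeval (((σ x : GL (Fin n) F) : Matrix (Fin n) (Fin n) F).map j') P' = 0 := by
    rw [← aeval_map, h0]
    ext i k
    simp
  have hQx : aeval (((σ x : GL (Fin n) F) : Matrix (Fin n) (Fin n) F).map j') Q = 0 := by
    have h2 : Q = (Polynomial.X ^ l ^ b - 1 : F[X]).map j' := by
      rw [Polynomial.map_sub, Polynomial.map_pow, Polynomial.map_X, Polynomial.map_one]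
    have h3 : ((σ x : GL (Fin n) F) : Matrix (Fin n) (Fin n) F) ^ l ^ b = 1 := by
      rw [← Units.val_pow_eq_pow_val, ← map_pow, hx, map_one, Units.val_one]
    rw [h2, ← aeval_map, map_sub, map_pow, aeval_X, map_one, h3, sub_self]
    ext i k
    simp
  have h1 : aeval ((τ x : GL (Fin n) (SmallSimple.WittRing.A p)) :
      Matrix (Fin n) (Fin n) (SmallSimple.WittRing.A p)) (∏ z ∈ T1, (Polynomial.X - C z)) = 0 := by
    refine aeval_eq_zero_of (φ := φ) hu _ _ (∏ z ∈ T2, (Polynomial.X - C z)) (EuclideanDomain.gcd P' Q) ?_ ?_ ?_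
    · rw [Finset.prod_filter_mul_prod_filter_not, hprod, map_sub, map_pow, aeval_X, map_one]
      have h2 : (τ x) ^ orderOf x = 1 := by rw [← map_pow, pow_orderOf_eq_one, map_one]
      have h3 := congrArg (fun x : GL (Fin n) (SmallSimple.WittRing.A p) =>
        (x : Matrix (Fin n) (Fin n) (SmallSimple.WittRing.A p))) h2
      simp only [Units.val_pow_eq_pow_val, Units.val_one] at h3
      rw [h3, sub_self]
    · rw [hτv, EuclideanDomain.gcd_eq_gcd_ab P' Q, map_add, map_mul, map_mul, hPx, hQx, zero_mul, zero_mul, add_zero]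
    · rw [Polynomial.map_prod]
      refine IsCoprime.prod_right fun z hz => ?_
      rw [Polynomial.map_sub, Polynomial.map_X, Polynomial.map_C]
      rw [isCoprime_comm, (Polynomial.irreducible_X_sub_C (φ z)).coprime_iff_not_dvd]
      intro h2
      refine (Finset.mem_filter.1 hz).2 ⟨?_, ?_⟩
      · exact Polynomial.dvd_iff_isRoot.1 (h2.trans (EuclideanDomain.gcd_dvd_left _ _))
      · exact Polynomial.dvd_iff_isRoot.1 (h2.trans (EuclideanDomain.gcd_dvd_right _ _))
  have hinj : ∀ z ∈ T1, ∀ w ∈ T1, φ z = φ w → z = w := by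
    intro z hz w hw hzw
    exact eq_of_map hmk (hroot z (Finset.mem_filter.1 hz).1) (hroot w (Finset.mem_filter.1 hw).1) hzw
  have hQr : ∀ z ∈ T1, (φ z) ^ l ^ b = 1 := by
    intro z hz
    have h2 := (Finset.mem_filter.1 hz).2.2
    rw [Polynomial.IsRoot.def, Polynomial.eval_sub, Polynomial.eval_pow, Polynomial.eval_X, Polynomial.eval_one,
      sub_eq_zero] at h2
    exact h2
  obtain ⟨N, hN, hxN, hNs⟩ := char0_one (l := l) (x := x) (a := a) f (T1.image ι) (by
      have h2 : ∏ w ∈ T1.image ι, (Polynomial.X - C w) = (∏ z ∈ T1, (Polynomial.X - C z)).map ι := by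
        rw [Polynomial.map_prod, Finset.prod_image (fun a _ b _ hab => hι hab)]
        refine Finset.prod_congr rfl fun z hz => ?_
        rw [Polynomial.map_sub, Polynomial.map_X, Polynomial.map_C]
      rw [hfv, h2, ← aeval_map, h1]
      ext i k
      simp)
    (by
      intro z hz
      obtain ⟨w, hw, rfl⟩ := Finset.mem_image.1 hz
      refine ⟨orderOf x, hm0.ne', ?_⟩
      rw [← map_pow, hroot w (Finset.mem_filter.1 hw).1, map_one])
    (by
      intro z hz
      obtain ⟨z', hz', rfl⟩ := Finset.mem_image.1 hz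
      refine ⟨b, ?_⟩
      rw [← map_pow]
      have h2 : z' ^ l ^ b = 1 := by
        refine eq_of_map (φ := φ) hmk (r := orderOf x) ?_ (one_pow _) ?_
        · rw [← pow_mul, mul_comm, pow_mul, hroot z' (Finset.mem_filter.1 hz').1, one_pow]
        · rw [map_pow, hQr z' hz', map_one]
      rw [h2, map_one])
    (by
      refine Finset.card_image_le.trans (le_trans ?_ hdeg)
      have h2 : P'.natDegree = P.natDegree := Polynomial.natDegree_map_eq_of_injective hj P
      rw [← h2]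
      refine le_trans ?_ (le_trans (Multiset.toFinset_card_le P'.roots) (Polynomial.card_roots' P'))
      refine Finset.card_le_card_of_injOn φ (fun z hz => ?_) (fun z hz w hw h => hinj z hz w hw h)
      simp only [Finset.mem_coe, Multiset.mem_toFinset]
      exact (Polynomial.mem_roots hP').2 (Finset.mem_filter.1 hz).2.1)
  have hNp : IsPGroup l N := by
    intro h
    obtain ⟨k, hk, hc⟩ := hNs h h.2
    refine ⟨k, Subtype.ext ?_⟩
    rw [hfv] at hc
    have h2 : ((τ ((h : H) ^ l ^ k) : GL (Fin n) (SmallSimple.WittRing.A p)) :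
        Matrix (Fin n) (Fin n) (SmallSimple.WittRing.A p)) = 1 := by
      apply Matrix.map_injective hι
      change ((τ ((h : H) ^ l ^ k) : GL (Fin n) (SmallSimple.WittRing.A p)) :
        Matrix (Fin n) (Fin n) (SmallSimple.WittRing.A p)).map ι =
          (1 : Matrix (Fin n) (Fin n) (SmallSimple.WittRing.A p)).map ι
      rw [hc]
      ext i m
      rw [Matrix.map_apply, Matrix.one_apply, Matrix.one_apply]
      split_ifs <;> simp
    apply hσ
    apply Units.ext
    apply Matrix.map_injective hj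
    change ((σ ((h : H) ^ l ^ k) : GL (Fin n) F) : Matrix (Fin n) (Fin n) F).map j' =
      ((σ ((1 : N) : H) : GL (Fin n) F) : Matrix (Fin n) (Fin n) F).map j'
    rw [← hτv, h2, Subgroup.coe_one, map_one]
    ext i m
    rw [Matrix.map_apply, Matrix.map_apply, Units.val_one, Matrix.one_apply, Matrix.one_apply]
    split_ifs <;> simp only [_root_.map_one, _root_.map_zero]
  exact (le_sSup (show N ∈ {N : Subgroup H | N.Normal ∧ IsPGroup l N} from ⟨hN, hNp⟩) : N ≤ Cfsg.pCore l H) hxN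

end Cfsg.Agent.H340.MP
end

-- part: H340/MP/FT
section
/-!
# Elements of prime order with small support (helper340)

`mem_pCore` : `H` a finite `p'`-group acting faithfully on `V` over a finite field of characteristic `p`, `y ∈ H` of
prime order `r`, `4 dim [V,y] + 1 < r`. Then `y ∈ O_r(H)`. (Two conjugates of `y` act faithfully in degree
`≤ 2 dim [V,y]`, so they generate an `r`-group by Feit-Thompson; Baer-Suzuki.)
-/

set_option autoImplicit false

namespace Cfsg.Agent.H340.MP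

open Module

section

variable {F V : Type*} [Field F] [AddCommGroup V] [Module F V] {H : Type*} [Group H]

/-- the commutator space of an element -/
def comSp (ρ : H →* (V ≃ₗ[F] V)) (y : H) : Submodule F V :=
  LinearMap.range ((ρ y : V ≃ₗ[F] V).toLinearMap - LinearMap.id)

theorem mem_comSp (ρ : H →* (V ≃ₗ[F] V)) (y : H) (v : V) : ρ y v - v ∈ comSp ρ y := ⟨v, rfl⟩

theorem comSp_conj (ρ : H →* (V ≃ₗ[F] V)) (g y : H) :
    comSp ρ (g * y * g⁻¹) = (comSp ρ y).map (ρ g).toLinearMap := by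
  ext v
  constructor
  · rintro ⟨w, rfl⟩
    refine ⟨ρ y (ρ g⁻¹ w) - ρ g⁻¹ w, mem_comSp ρ y _, ?_⟩
    have h1 : ρ g (ρ g⁻¹ w) = w := by
      rw [← LinearEquiv.mul_apply, ← map_mul, mul_inv_cancel, map_one]
      rfl
    show ρ g (ρ y (ρ g⁻¹ w) - ρ g⁻¹ w) = ρ (g * y * g⁻¹) w - w
    rw [map_sub, h1, map_mul, map_mul]
    rfl
  · rintro ⟨_, ⟨w, rfl⟩, rfl⟩
    refine ⟨ρ g w, ?_⟩
    show ρ (g * y * g⁻¹) (ρ g w) - ρ g w = ρ g (ρ y w - w)
    have h1 : ρ g⁻¹ (ρ g w) = w := by
      rw [← LinearEquiv.mul_apply, ← map_mul, inv_mul_cancel, map_one]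
      rfl
    rw [map_sub, map_mul, map_mul, LinearEquiv.mul_apply, LinearEquiv.mul_apply, h1]

theorem finrank_comSp_conj (ρ : H →* (V ≃ₗ[F] V)) (g y : H) :
    finrank F (comSp ρ (g * y * g⁻¹)) = finrank F (comSp ρ y) := by
  rw [comSp_conj]
  exact LinearEquiv.finrank_eq ((ρ g).submoduleMap (comSp ρ y)).symm

end

theorem isPGroup_of_le {F V : Type*} [Field F] [Finite F] [AddCommGroup V] [Module F V] [FiniteDimensional F V]
    {p : ℕ} [Fact p.Prime] [CharP F p] {H : Type*} [Group H] [Finite H] (hcop : ¬ p ∣ Nat.card H)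
    (ρ : H →* (V ≃ₗ[F] V)) (hρ : Function.Injective ρ) {r : ℕ} [Fact r.Prime] {a b : H} (ha : a ^ r = 1)
    (hb : b ^ r = 1) (hd : 2 * (finrank F (comSp ρ a) + finrank F (comSp ρ b)) + 1 < r) :
    IsPGroup r ↥(Subgroup.closure {a, b}) := by
  classical
  set U : Submodule F V := comSp ρ a ⊔ comSp ρ b with hU
  set Y : Subgroup H := Subgroup.closure {a, b} with hY
  have hgen : ∀ g ∈ Y, ∀ v : V, ρ g v - v ∈ U := by
    intro g hg
    induction hg using Subgroup.closure_induction with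
    | mem x hx =>
      intro v
      rcases hx with rfl | hx
      · exact Submodule.mem_sup_left (mem_comSp ρ _ v)
      · rw [Set.mem_singleton_iff] at hx
        subst hx
        exact Submodule.mem_sup_right (mem_comSp ρ _ v)
    | one => intro v; rw [map_one]; show v - v ∈ U; rw [sub_self]; exact U.zero_mem
    | mul x y _ _ hx hy =>
      intro v
      have h1 : ρ (x * y) v - v = (ρ x (ρ y v) - ρ y v) + (ρ y v - v) := by
        rw [map_mul, LinearEquiv.mul_apply]; abel
      rw [h1]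
      exact U.add_mem (hx _) (hy _)
    | inv x _ hx =>
      intro v
      have h1 : ρ x (ρ x⁻¹ v) = v := by
        rw [← LinearEquiv.mul_apply, ← map_mul, mul_inv_cancel, map_one]
        rfl
      have h2 := hx (ρ x⁻¹ v)
      rw [h1] at h2
      have h3 := U.neg_mem h2
      rwa [neg_sub] at h3
  have hinv : ∀ g ∈ Y, ∀ v ∈ U, ρ g v ∈ U := by
    intro g hg v hv
    have h1 := U.add_mem (hgen g hg v) hv
    rwa [sub_add_cancel] at h1
  -- the representation on `U`
  let rep : Y →* (U ≃ₗ[F] U) :=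
    { toFun := fun g => LinearEquiv.ofLinearMap
        ((ρ (g : H)).toLinearMap.restrict (fun v hv => hinv g g.2 v hv))
        ((ρ ((g : H)⁻¹)).toLinearMap.restrict (fun v hv => hinv _ (Y.inv_mem g.2) v hv))
        (by
          apply LinearMap.ext
          intro v
          apply Subtype.ext
          show ρ (g : H) (ρ ((g : H)⁻¹) v) = v
          rw [← LinearEquiv.mul_apply, ← map_mul, mul_inv_cancel, map_one]
          rfl)
        (by
          apply LinearMap.ext
          intro v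
          apply Subtype.ext
          show ρ ((g : H)⁻¹) (ρ (g : H) v) = v
          rw [← LinearEquiv.mul_apply, ← map_mul, inv_mul_cancel, map_one]
          rfl)
      map_one' := by
        apply LinearEquiv.ext
        intro v
        apply Subtype.ext
        show ρ ((1 : Y) : H) v = v
        rw [Subgroup.coe_one, map_one]
        rfl
      map_mul' := fun g h => by
        apply LinearEquiv.ext
        intro v
        apply Subtype.ext
        show ρ ((g * h : Y) : H) v = ρ (g : H) (ρ (h : H) v)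
        rw [Subgroup.coe_mul, map_mul]
        rfl }
  have hrep : ∀ (g : Y) (v : U), ((rep g v : U) : V) = ρ (g : H) v := fun g v => rfl
  have hinj : Function.Injective rep := by
    rw [injective_iff_map_eq_one]
    intro g hg
    have h1 : ∀ u ∈ U, ρ (g : H) u = u := by
      intro u hu
      have h2 := congrArg (fun e : U ≃ₗ[F] U => ((e ⟨u, hu⟩ : U) : V)) hg
      exact h2
    have h2 : ∀ (k : ℕ) (v : V), ρ ((g : H) ^ k) v = v + (k : F) • (ρ (g : H) v - v) := by
      intro k v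
      induction k with
      | zero => rw [pow_zero, map_one, Nat.cast_zero, zero_smul, add_zero]; rfl
      | succ k ih =>
        rw [pow_succ', map_mul, LinearEquiv.mul_apply, ih, map_add, map_smul, h1 _ (hgen g g.2 v), Nat.cast_succ,
          add_smul, one_smul]
        abel
    have h3 : (g : H) ^ p = 1 := by
      apply hρ
      apply LinearEquiv.ext
      intro v
      rw [h2, CharP.cast_eq_zero, zero_smul, add_zero, map_one]
      rfl
    have h4 : orderOf (g : H) ∣ p := orderOf_dvd_of_pow_eq_one h3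
    rcases (Nat.dvd_prime (Fact.out : p.Prime)).1 h4 with h5 | h5
    · exact Subtype.ext (orderOf_eq_one_iff.1 h5)
    · exfalso
      exact hcop (h5 ▸ orderOf_dvd_natCard (g : H))
  -- complex representation
  let B := Module.finBasis F U
  let m := finrank F U
  let e : (U ≃ₗ[F] U) ≃* GL (Fin m) F := (LinearMap.GeneralLinearGroup.generalLinearEquiv F U).symm.trans
      (Units.mapEquiv (LinearMap.toMatrixAlgEquiv B).toMulEquiv)
  let σ : Y →* GL (Fin m) F := e.toMonoidHom.comp rep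
  have hσ : Function.Injective σ := by
    intro u v huv
    exact hinj (e.injective huv)
  have hcopY : ¬ p ∣ Nat.card Y := fun h => hcop (h.trans (Subgroup.card_subgroup_dvd_card Y))
  obtain ⟨τ, hτ⟩ := Cfsg.Agent.H831.RepLift.exists_complex hcopY σ hσ
  have hm : m ≤ finrank F (comSp ρ a) + finrank F (comSp ρ b) := Submodule.finrank_add_le_finrank_add_finrank _ _
  have haY : a ∈ Y := Subgroup.subset_closure (Set.mem_insert _ _)
  have hbY : b ∈ Y := Subgroup.subset_closure (Set.mem_insert_of_mem _ rfl)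
  have hnorm : ∀ P : Sylow r Y, (P : Subgroup Y).Normal := by
    rcases Nat.eq_zero_or_pos m with hm0 | hm0
    · have hsub : ∀ u v : Y, u = v := by
        intro u v
        apply hτ
        apply LinearMap.ext
        intro w
        have : Subsingleton (Fin m → ℂ) := by
          rw [hm0]
          infer_instance
        exact Subsingleton.elim _ _
      intro P
      constructor
      intro n hn g
      rwa [hsub (g * n * g⁻¹) n]
    · intro P
      exact Cfsg.Agent.H717.FT.normal_of_lt hm0 τ hτ (by omega) P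
  obtain ⟨P⟩ : Nonempty (Sylow r Y) := inferInstance
  have hPn := hnorm P
  have hall : ∀ u : Y, u ^ r = 1 → u ∈ (P : Subgroup Y) := by
    intro u hu
    have h1 : IsPGroup r ↥(Subgroup.zpowers u) := by
      rw [IsPGroup.iff_card]
      rw [Nat.card_zpowers]
      rcases (Nat.dvd_prime (Fact.out : r.Prime)).1 (orderOf_dvd_of_pow_eq_one hu) with h2 | h2
      · exact ⟨0, by rw [h2, pow_zero]⟩
      · exact ⟨1, by rw [h2, pow_one]⟩
    obtain ⟨Q, hQ⟩ := h1.exists_le_sylow
    have h3 : Q = P := by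
      have hun := Sylow.unique_of_normal P hPn
      exact Subsingleton.elim _ _
    rw [← h3]
    exact hQ (Subgroup.mem_zpowers u)
  have htop : (P : Subgroup Y) = ⊤ := by
    rw [eq_top_iff]
    have h1 : Subgroup.closure {(⟨a, haY⟩ : Y), ⟨b, hbY⟩} ≤ (P : Subgroup Y) := by
      rw [Subgroup.closure_le]
      rintro u (rfl | hu)
      · exact hall _ (Subtype.ext ha)
      · rw [Set.mem_singleton_iff] at hu
        subst hu
        exact hall _ (Subtype.ext hb)
    refine le_trans ?_ h1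
    intro u _
    have h2 : (Subgroup.closure {(⟨a, haY⟩ : Y), ⟨b, hbY⟩}).map Y.subtype = Y := by
      rw [MonoidHom.map_closure, Set.image_pair]
      rfl
    have h3 : (u : H) ∈ (Subgroup.closure {(⟨a, haY⟩ : Y), ⟨b, hbY⟩}).map Y.subtype := by
      rw [h2]
      exact u.2
    obtain ⟨w, hw, hwu⟩ := h3
    have h4 : w = u := Subtype.ext hwu
    rwa [← h4]
  have h1 : IsPGroup r ↥(P : Subgroup Y) := P.isPGroup'
  rw [htop] at h1
  exact h1.of_equiv Subgroup.topEquiv

/-- **Elements of prime order with small support lie in `O_r`.** -/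
theorem mem_pCore {F V : Type*} [Field F] [Finite F] [AddCommGroup V] [Module F V] [FiniteDimensional F V]
    {p : ℕ} [Fact p.Prime] [CharP F p] {H : Type*} [Group H] [Finite H] (hcop : ¬ p ∣ Nat.card H)
    (ρ : H →* (V ≃ₗ[F] V)) (hρ : Function.Injective ρ) {r : ℕ} [Fact r.Prime] {y : H} (hy : y ^ r = 1)
    (hd : 4 * finrank F (comSp ρ y) + 1 < r) : y ∈ Cfsg.pCore r H := by
  classical
  have hz : IsPGroup r ↥(Subgroup.zpowers y) := by
    rw [IsPGroup.iff_card, Nat.card_zpowers]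
    rcases (Nat.dvd_prime (Fact.out : r.Prime)).1 (orderOf_dvd_of_pow_eq_one hy) with h2 | h2
    · exact ⟨0, by rw [h2, pow_zero]⟩
    · exact ⟨1, by rw [h2, pow_one]⟩
  obtain ⟨N, hN, hNp, hyN⟩ := Cfsg.Agent.S0199.result (Subgroup.zpowers y) hz (fun g => by
    have h1 := isPGroup_of_le hcop ρ hρ (r := r) (a := y) (b := g * y * g⁻¹) hy
      (by rw [conj_pow, hy, mul_one, mul_inv_cancel]) (by rw [finrank_comSp_conj]; omega)
    refine h1.to_le ?_
    rw [MonoidHom.map_zpowers]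
    refine sup_le ?_ ?_
    · rw [Subgroup.zpowers_le]
      exact Subgroup.subset_closure (Set.mem_insert _ _)
    · rw [Subgroup.zpowers_le]
      exact Subgroup.subset_closure (Set.mem_insert_of_mem _ rfl))
  exact (le_sSup (show N ∈ {N : Subgroup H | N.Normal ∧ IsPGroup r N} from ⟨hN, hNp⟩) : N ≤ Cfsg.pCore r H)
    (hyN (Subgroup.mem_zpowers y))

end Cfsg.Agent.H340.MP
end

-- part: H340/RV/Small
section
/-!
# Isometries with one given irreducible factor (helper340)

`exists_small` : `T` an isometry of order prime to `p`, `f` irreducible with `ker f(T) ≠ 0`; there is an isometry `y` with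
`ker f(y) ≠ 0` which is the identity outside a nondegenerate subspace of dimension `≤ deg f` (`≤ 2 deg f` when `f` is not
self reciprocal).
-/

set_option autoImplicit false

namespace Cfsg.Agent.H340.RV

open Module Polynomial

variable {F V : Type*} [Field F] [AddCommGroup V] [Module F V] [FiniteDimensional F V] {B : V →ₗ[F] V →ₗ[F] F}

theorem case_one (hs : ∀ u v, B u v = B v u) {T : V ≃ₗ[F] V}
    (hT : ∀ u v, B (T u) (T v) = B u v) {N : ℕ} (hN : N ≠ 0) (hTN : T ^ N = 1) {f : F[X]} (hf : Irreducible f)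
    (hm : f.Monic) {M : ℕ} (hM : f ∣ X ^ M - 1) {v : V} (hv : aeval (T : V →ₗ[F] V) f v = 0) (hvv : B v v ≠ 0) :
    ∃ y : V ≃ₗ[F] V, (∀ u v, B (y u) (y v) = B u v) ∧ y ^ M = 1 ∧ (∃ v, v ≠ 0 ∧ aeval (y : V →ₗ[F] V) f v = 0) ∧
      aeval (y : V →ₗ[F] V) ((X - 1) * f) = 0 ∧
      finrank F (LinearMap.range ((y : V →ₗ[F] V) - LinearMap.id)) ≤ f.natDegree := by
  have hTS : ∀ u v, B (T u) v = B u (T.symm v) := fun u v => by
    rw [← hT u (T.symm v), LinearEquiv.apply_symm_apply]
  have hsym := pow_symm_mem (F := F) hN hTN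
  have hW : ∀ w ∈ cyc (T : V →ₗ[F] V) v, T w ∈ cyc (T : V →ₗ[F] V) v := fun w hw => by
    have h1 := aeval_mem_cyc hw (X : F[X])
    rwa [aeval_X] at h1
  have hW' : ∀ w ∈ cyc (T : V →ₗ[F] V) v, T.symm w ∈ cyc (T : V →ₗ[F] V) v := fun w hw => by
    have h1 := aeval_mem_cyc hw (X ^ (N - 1) : F[X])
    rw [← hsym] at h1
    exact h1
  have hWS : ∀ (g : F[X]), ∀ w ∈ cyc (T : V →ₗ[F] V) v,
      aeval ((T.symm : V ≃ₗ[F] V) : V →ₗ[F] V) g w ∈ cyc (T : V →ₗ[F] V) v := fun g w hw => by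
    rw [hsym, ← aeval_comp]
    exact aeval_mem_cyc hw _
  obtain ⟨y, hy, h1, h2, h3⟩ := exists_ext hs hT hW hW' (by
    intro w hw hw'
    by_contra hw0
    obtain ⟨h, hh⟩ := exists_aeval_eq hf hv hw hw0
    apply hvv
    nth_rewrite 1 [← hh]
    rw [adj (S := ((T.symm : V ≃ₗ[F] V) : V →ₗ[F] V)) hTS, hs]
    exact hw' _ (hWS h v (self_mem_cyc _ _)))
  obtain ⟨h4, h5, h6, h7⟩ := ext_props hW h1 h2 h3
  have hv0 : v ≠ 0 := by
    rintro rfl
    exact hvv (by simp)
  refine ⟨y, hy, h6 M ?_, ⟨v, hv0, ?_⟩, h5 f fun w hw => aeval_zero_of_mem_cyc hw hv,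
    (Submodule.finrank_mono h7).trans (finrank_cyc_le hm hv)⟩
  · intro w hw
    obtain ⟨k, hk⟩ := hM
    rw [hk, mul_comm, map_mul, Module.End.mul_apply, aeval_zero_of_mem_cyc hw hv, map_zero]
  · rw [h4 f v (self_mem_cyc _ _), hv]

theorem case_two (hs : ∀ u v, B u v = B v u) {T : V ≃ₗ[F] V}
    (hT : ∀ u v, B (T u) (T v) = B u v) {N : ℕ} (hN : N ≠ 0) (hTN : T ^ N = 1) {f : F[X]} (hf : Irreducible f)
    (hm : f.Monic) {M : ℕ} (hM : f ∣ X ^ M - 1) {v w : V} (hv : aeval (T : V →ₗ[F] V) f v = 0)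
    (hw : aeval ((T.symm : V ≃ₗ[F] V) : V →ₗ[F] V) f w = 0) (hvw : B v w ≠ 0)
    (hi1 : ∀ a b, aeval (T : V →ₗ[F] V) f a = 0 → aeval (T : V →ₗ[F] V) f b = 0 → B a b = 0) :
    ∃ y : V ≃ₗ[F] V, (∀ u v, B (y u) (y v) = B u v) ∧ y ^ M = 1 ∧ (∃ v, v ≠ 0 ∧ aeval (y : V →ₗ[F] V) f v = 0) ∧
      ¬ f ∣ rv f ∧ aeval (y : V →ₗ[F] V) ((X - 1) * (f * rv f)) = 0 ∧
      finrank F (LinearMap.range ((y : V →ₗ[F] V) - LinearMap.id)) ≤ 2 * f.natDegree := by
  have hTS : ∀ u v, B (T u) v = B u (T.symm v) := fun u v => by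
    rw [← hT u (T.symm v), LinearEquiv.apply_symm_apply]
  have hST : ∀ u v, B (T.symm u) v = B u (T v) := fun u v => by
    rw [hs, ← hTS, hs]
  have hsym := pow_symm_mem (F := F) hN hTN
  have hTN' : (T.symm) ^ N = 1 := by
    show (T⁻¹) ^ N = 1
    rw [inv_pow, hTN, inv_one]
  have hsym' := pow_symm_mem (F := F) hN hTN'
  rw [LinearEquiv.symm_symm] at hsym'
  set S : V →ₗ[F] V := ((T.symm : V ≃ₗ[F] V) : V →ₗ[F] V) with hS
  set T' : V →ₗ[F] V := (T : V →ₗ[F] V) with hT'
  have hTv : ∀ (g : F[X]), ∀ a ∈ cyc T' v, aeval T' g a ∈ cyc T' v := fun g a ha => aeval_mem_cyc ha g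
  have hSv : ∀ (g : F[X]), ∀ a ∈ cyc T' v, aeval S g a ∈ cyc T' v := fun g a ha => by
    rw [hsym, ← aeval_comp]
    exact aeval_mem_cyc ha _
  have hSw : ∀ (g : F[X]), ∀ a ∈ cyc S w, aeval S g a ∈ cyc S w := fun g a ha => aeval_mem_cyc ha g
  have hTw : ∀ (g : F[X]), ∀ a ∈ cyc S w, aeval T' g a ∈ cyc S w := fun g a ha => by
    rw [hsym', ← aeval_comp]
    exact aeval_mem_cyc ha _
  have hW : ∀ x ∈ cyc T' v ⊔ cyc S w, T x ∈ cyc T' v ⊔ cyc S w := fun x hx => by
    obtain ⟨a, ha, b, hb, rfl⟩ := Submodule.mem_sup.1 hx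
    rw [map_add]
    refine add_mem (Submodule.mem_sup_left ?_) (Submodule.mem_sup_right ?_)
    · have h1 := hTv X a ha
      rwa [aeval_X] at h1
    · have h1 := hTw X b hb
      rwa [aeval_X] at h1
  have hW' : ∀ x ∈ cyc T' v ⊔ cyc S w, T.symm x ∈ cyc T' v ⊔ cyc S w := fun x hx => by
    obtain ⟨a, ha, b, hb, rfl⟩ := Submodule.mem_sup.1 hx
    rw [map_add]
    refine add_mem (Submodule.mem_sup_left ?_) (Submodule.mem_sup_right ?_)
    · have h1 := hSv X a ha
      rwa [aeval_X] at h1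
    · have h1 := hSw X b hb
      rwa [aeval_X] at h1
  have hka : ∀ a ∈ cyc T' v, aeval T' f a = 0 := fun a ha => aeval_zero_of_mem_cyc ha hv
  have hkb : ∀ a ∈ cyc S w, aeval S f a = 0 := fun a ha => aeval_zero_of_mem_cyc ha hw
  obtain ⟨y, hy, h1, h2, h3⟩ := exists_ext hs hT hW hW' (by
    intro x hx hx'
    obtain ⟨a, ha, b, hb, rfl⟩ := Submodule.mem_sup.1 hx
    have hb0 : b = 0 := by
      by_contra hb0
      obtain ⟨h, hh⟩ := exists_aeval_eq hf hw hb hb0
      apply hvw
      rw [← hh, ← adj (T := T') hTS]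
      have h4 := hx' (aeval T' h v) (Submodule.mem_sup_left (hTv h v (self_mem_cyc _ _)))
      rw [map_add, hi1 _ a (hka _ (hTv h v (self_mem_cyc _ _))) (hka a ha), zero_add] at h4
      exact h4
    have ha0 : a = 0 := by
      by_contra ha0
      obtain ⟨h, hh⟩ := exists_aeval_eq hf hv ha ha0
      apply hvw
      rw [← hh, adj (S := S) hTS]
      have h4 := hx' (aeval S h w) (Submodule.mem_sup_right (hSw h w (self_mem_cyc _ _)))
      rw [hb0, add_zero, hs] at h4
      exact h4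
    rw [ha0, hb0, add_zero])
  obtain ⟨h4, h5, h6, h7⟩ := ext_props hW h1 h2 h3
  have hv0 : v ≠ 0 := by
    rintro rfl
    exact hvw (by simp)
  have hTS1 : T' * S = 1 := by
    ext u
    show T (T.symm u) = u
    rw [LinearEquiv.apply_symm_apply]
  have hkb' : ∀ a ∈ cyc S w, aeval T' (rv f) a = 0 := fun a ha => by
    rw [aeval_rv hTS1, Module.End.mul_apply, hkb a ha, map_zero]
  refine ⟨y, hy, h6 M ?_, ⟨v, hv0, ?_⟩, ?_, h5 _ ?_, (Submodule.finrank_mono h7).trans ?_⟩
  · intro x hx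
    obtain ⟨a, ha, b, hb, rfl⟩ := Submodule.mem_sup.1 hx
    obtain ⟨k, hk⟩ := hM
    have h8 : aeval T' (X ^ M - 1 : F[X]) a = 0 := by
      rw [hk, mul_comm, map_mul, Module.End.mul_apply, hka a ha, map_zero]
    have h9 : aeval S (X ^ M - 1 : F[X]) b = 0 := by
      rw [hk, mul_comm, map_mul, Module.End.mul_apply, hkb b hb, map_zero]
    have h10 : aeval T' (X ^ M - 1 : F[X]) b = 0 := by
      rw [map_sub, map_pow, aeval_X, map_one, LinearMap.sub_apply, Module.End.one_apply, sub_eq_zero] at h9 ⊢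
      nth_rewrite 1 [← h9]
      rw [← Module.End.mul_apply, pow_mul_pow_eq hTS1, Module.End.one_apply]
    rw [map_add, h8, h10, add_zero]
  · rw [h4 f v (Submodule.mem_sup_left (self_mem_cyc _ _)), hv]
  · rintro ⟨k, hk⟩
    apply hvw
    refine hi1 v w hv ?_
    have hk0 : k ≠ 0 := by
      rintro rfl
      exact rv_ne_zero hm.ne_zero (by rw [hk, mul_zero])
    have hkd : k.natDegree = 0 := by
      have h8 := natDegree_rv_le f
      rw [hk, natDegree_mul hm.ne_zero hk0] at h8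
      omega
    obtain ⟨c, rfl⟩ := natDegree_eq_zero.1 hkd
    have hc : c ≠ 0 := fun h => hk0 (by rw [h, C_0])
    have h9 := hkb' w (self_mem_cyc _ _)
    rw [hk, mul_comm, map_mul, aeval_C, Module.End.mul_apply, Module.algebraMap_end_apply] at h9
    exact (smul_eq_zero.1 h9).resolve_left hc
  · intro x hx
    obtain ⟨a, ha, b, hb, rfl⟩ := Submodule.mem_sup.1 hx
    rw [map_add, map_mul, Module.End.mul_apply, Module.End.mul_apply, hkb' b hb, map_zero, add_zero,
      ← Module.End.mul_apply, ← map_mul, mul_comm, map_mul, Module.End.mul_apply, hka a ha, map_zero]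
  · have h8 := Submodule.finrank_add_le_finrank_add_finrank (cyc T' v) (cyc S w)
    have h9 := finrank_cyc_le hm hv
    have h10 := finrank_cyc_le hm hw
    omega

theorem exists_small (h2 : (2 : F) ≠ 0) (hs : ∀ u v, B u v = B v u) (hnd : ∀ v, (∀ u, B v u = 0) → v = 0)
    {T : V ≃ₗ[F] V} (hT : ∀ u v, B (T u) (T v) = B u v) {N : ℕ} (hN : (N : F) ≠ 0) (hTN : T ^ N = 1) {f : F[X]}
    (hf : Irreducible f) (hm : f.Monic) {M : ℕ} (hM : f ∣ X ^ M - 1) {v : V} (hv0 : v ≠ 0)
    (hv : aeval (T : V →ₗ[F] V) f v = 0) :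
    ∃ y : V ≃ₗ[F] V, (∀ u v, B (y u) (y v) = B u v) ∧ y ^ M = 1 ∧ (∃ v, v ≠ 0 ∧ aeval (y : V →ₗ[F] V) f v = 0) ∧
      ((aeval (y : V →ₗ[F] V) ((X - 1) * f) = 0 ∧
        finrank F (LinearMap.range ((y : V →ₗ[F] V) - LinearMap.id)) ≤ f.natDegree) ∨
      (¬ f ∣ rv f ∧ aeval (y : V →ₗ[F] V) ((X - 1) * (f * rv f)) = 0 ∧
        finrank F (LinearMap.range ((y : V →ₗ[F] V) - LinearMap.id)) ≤ 2 * f.natDegree)) := by
  have hN0 : N ≠ 0 := by
    rintro rfl
    exact hN (by simp)
  have hTS : ∀ u v, B (T u) v = B u (T.symm v) := fun u v => by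
    rw [← hT u (T.symm v), LinearEquiv.apply_symm_apply]
  have hS : ∀ u v, B (T.symm u) (T.symm v) = B u v := fun u v => by
    rw [← hTS, LinearEquiv.apply_symm_apply]
  have hTN' : (T.symm) ^ N = 1 := by
    show (T⁻¹) ^ N = 1
    rw [inv_pow, hTN, inv_one]
  have hpol : ∀ (R : V →ₗ[F] V), (∀ v, aeval R f v = 0 → B v v = 0) →
      ∀ a b, aeval R f a = 0 → aeval R f b = 0 → B a b = 0 := by
    intro R hR a b ha hb
    have h3 := hR (a + b) (by rw [map_add, ha, hb, add_zero])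
    rw [map_add, map_add, LinearMap.add_apply, LinearMap.add_apply, hR a ha, hR b hb, hs b a, zero_add, add_zero,
      ← two_mul] at h3
    exact (mul_eq_zero.1 h3).resolve_left h2
  by_cases h1 : ∀ v, aeval (T : V →ₗ[F] V) f v = 0 → B v v = 0
  · by_cases h1' : ∀ v, aeval ((T.symm : V ≃ₗ[F] V) : V →ₗ[F] V) f v = 0 → B v v = 0
    · have hu : ∃ u, B v u ≠ 0 := by
        by_contra hcon
        push Not at hcon
        exact hv0 (hnd v hcon)
      obtain ⟨u, hu⟩ := hu
      have hfX : f ∣ X ^ N - 1 := by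
        by_contra hcon
        obtain ⟨a, b, hab⟩ := hf.coprime_iff_not_dvd.2 hcon
        have h3 : aeval (T : V →ₗ[F] V) (a * f + b * (X ^ N - 1)) v = v := by
          rw [hab, map_one, Module.End.one_apply]
        simp only [map_add, LinearMap.add_apply, map_mul, map_mul, Module.End.mul_apply, Module.End.mul_apply, hv, map_zero,
          zero_add, map_sub, map_pow, aeval_X, map_one, LinearMap.sub_apply, end_pow_apply, hTN,
          Module.End.one_apply, show (1 : V ≃ₗ[F] V) v = v from rfl, sub_self, map_zero] at h3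
        exact hv0 h3.symm
      obtain ⟨g, hg⟩ := hfX
      have hsep : (X ^ N - 1 : F[X]).Separable := (X_pow_sub_one_separable_iff).2 hN
      rw [hg] at hsep
      obtain ⟨a, b, hab⟩ := hsep.isCoprime
      set S : V →ₗ[F] V := ((T.symm : V ≃ₗ[F] V) : V →ₗ[F] V) with hSd
      have hSN : aeval S (X ^ N - 1 : F[X]) = 0 := by
        ext x
        rw [map_sub, map_pow, aeval_X, map_one, LinearMap.sub_apply, hSd, end_pow_apply, hTN',
          Module.End.one_apply, show (1 : V ≃ₗ[F] V) x = x from rfl, sub_self, LinearMap.zero_apply]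
      let w : V := aeval S (b * g) u
      have hw : aeval S f w = 0 := by
        show aeval S f (aeval S (b * g) u) = 0
        rw [← Module.End.mul_apply, ← map_mul, show f * (b * g) = b * (f * g) by ring, ← hg, map_mul, hSN, mul_zero,
          LinearMap.zero_apply]
      have hvw : B v w ≠ 0 := by
        intro hcon
        apply hu
        have h3 : aeval S (a * f + b * g) u = u := by rw [hab, map_one, Module.End.one_apply]
        rw [← h3, map_add, LinearMap.add_apply, map_add, show aeval S (b * g) u = w from rfl, hcon, add_zero, mul_comm,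
          map_mul, Module.End.mul_apply, ← adj (T := (T : V →ₗ[F] V)) hTS, hv, map_zero, LinearMap.zero_apply]
      obtain ⟨y, hy1, hy2, hy3, hy4⟩ := case_two hs hT hN0 hTN hf hm hM hv hw hvw (hpol _ h1)
      exact ⟨y, hy1, hy2, hy3, Or.inr hy4⟩
    · push Not at h1'
      obtain ⟨v', hv', hvv'⟩ := h1'
      obtain ⟨y, hy1, hy2, hy3, hy4⟩ := case_one hs hS hN0 hTN' hf hm hM hv' hvv'
      exact ⟨y, hy1, hy2, hy3, Or.inl hy4⟩
  · push Not at h1
    obtain ⟨v', hv', hvv'⟩ := h1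
    obtain ⟨y, hy1, hy2, hy3, hy4⟩ := case_one hs hT hN0 hTN hf hm hM hv' hvv'
    exact ⟨y, hy1, hy2, hy3, Or.inl hy4⟩

end Cfsg.Agent.H340.RV
end

-- part: H340/RV/NT
section
/-!
# Orders of the eigenvalues (helper340)
-/

set_option autoImplicit false

namespace Cfsg.Agent.H340.RV

open Polynomial

section Ord

theorem dvd_of_modEq {a m j : ℕ} (h : a ^ j ≡ 1 [MOD m]) : orderOf ((a : ℕ) : ZMod m) ∣ j := by
  rw [orderOf_dvd_iff_pow_eq_one, ← Nat.cast_pow]
  have h1 := (ZMod.natCast_eq_natCast_iff _ _ _).2 h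
  rwa [Nat.cast_one] at h1

theorem modEq_of_dvd {a m j : ℕ} (h : orderOf ((a : ℕ) : ZMod m) ∣ j) : a ^ j ≡ 1 [MOD m] := by
  rw [orderOf_dvd_iff_pow_eq_one, ← Nat.cast_pow] at h
  rw [← ZMod.natCast_eq_natCast_iff, h, Nat.cast_one]

theorem modEq_orderOf (a m : ℕ) : a ^ orderOf ((a : ℕ) : ZMod m) ≡ 1 [MOD m] := modEq_of_dvd dvd_rfl

theorem exists_prime_pow {a ℓ : ℕ} (hℓ : ℓ.Prime) {m : ℕ} (hm0 : m ≠ 0) (hm : a.Coprime m)
    (h : ℓ ∣ orderOf ((a : ℕ) : ZMod m)) :
    ∃ r b, r.Prime ∧ 1 ≤ b ∧ r ^ b ∣ m ∧ ℓ ∣ orderOf ((a : ℕ) : ZMod (r ^ b)) := by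
  induction m using Nat.recOnPosPrimePosCoprime with
  | prime_pow p n hp hn => exact ⟨p, n, hp, hn, dvd_rfl, h⟩
  | zero => exact absurd rfl hm0
  | one =>
    exfalso
    have h1 : orderOf ((a : ℕ) : ZMod 1) ∣ 1 := dvd_of_modEq (Nat.modEq_one)
    exact hℓ.one_lt.ne' (Nat.dvd_one.1 (h.trans h1))
  | coprime x y hx hy hxy ihx ihy =>
    have h1 : orderOf ((a : ℕ) : ZMod (x * y)) ∣ orderOf ((a : ℕ) : ZMod x) * orderOf ((a : ℕ) : ZMod y) := by
      refine dvd_of_modEq ?_
      rw [← Nat.modEq_and_modEq_iff_modEq_mul hxy]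
      exact ⟨modEq_of_dvd (dvd_mul_right _ _), modEq_of_dvd (dvd_mul_left _ _)⟩
    rcases (hℓ.dvd_mul).1 (h.trans h1) with h2 | h2
    · obtain ⟨r, b, h3, h4, h5, h6⟩ := ihx (by omega) (hm.coprime_mul_right_right) h2
      exact ⟨r, b, h3, h4, h5.trans (dvd_mul_right _ _), h6⟩
    · obtain ⟨r, b, h3, h4, h5, h6⟩ := ihy (by omega) (hm.coprime_mul_left_right) h2
      exact ⟨r, b, h3, h4, h5.trans (dvd_mul_left _ _), h6⟩

theorem modEq_pow_prime_pow {r x : ℕ} (h : x ≡ 1 [MOD r]) (b : ℕ) : x ^ r ^ b ≡ 1 [MOD r ^ (b + 1)] := by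
  have h1 : ((r : ℕ) : ℤ) ∣ (x : ℤ) - 1 := by
    have h2 := (Nat.modEq_iff_dvd.1 h.symm)
    simpa using h2
  have h2 := dvd_sub_pow_of_dvd_sub (R := ℤ) (p := r) h1 b
  refine (Nat.modEq_iff_dvd.2 ?_).symm
  push_cast
  simpa only [_root_.one_pow] using h2

theorem dvd_or_eq {a ℓ r b : ℕ} (hℓ : ℓ.Prime) (hr : r.Prime) (hb : 1 ≤ b)
    (h : ℓ ∣ orderOf ((a : ℕ) : ZMod (r ^ b))) : ℓ ∣ orderOf ((a : ℕ) : ZMod r) ∨ ℓ = r ∧ 2 ≤ b := by
  obtain ⟨c, rfl⟩ : ∃ c, b = c + 1 := ⟨b - 1, by omega⟩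
  have h1 : orderOf ((a : ℕ) : ZMod (r ^ (c + 1))) ∣ orderOf ((a : ℕ) : ZMod r) * r ^ c := by
    refine dvd_of_modEq ?_
    rw [pow_mul]
    exact modEq_pow_prime_pow (modEq_orderOf a r) c
  rcases (hℓ.dvd_mul).1 (h.trans h1) with h2 | h2
  · exact Or.inl h2
  · right
    refine ⟨(Nat.prime_dvd_prime_iff_eq hℓ hr).1 (hℓ.dvd_of_dvd_pow h2), ?_⟩
    rcases Nat.eq_zero_or_pos c with rfl | hc
    · rw [pow_zero] at h2
      exact absurd (Nat.dvd_one.1 h2) hℓ.one_lt.ne'
    · omega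

theorem orderOf_dvd_sub_one {a r : ℕ} (hr : r.Prime) (h : a.Coprime r) : orderOf ((a : ℕ) : ZMod r) ∣ r - 1 := by
  have _ : Fact r.Prime := ⟨hr⟩
  rw [orderOf_dvd_iff_pow_eq_one]
  refine ZMod.pow_card_sub_one_eq_one ?_
  rw [Ne, ZMod.natCast_eq_zero_iff]
  intro h1
  have h2 := Nat.dvd_gcd h1 dvd_rfl
  rw [h] at h2
  exact hr.one_lt.ne' (Nat.dvd_one.1 h2)

end Ord

section Deg

variable {F K : Type*} [Field F] [Finite F] [Field K] [Algebra F K]

theorem natDegree_dvd_iff {f : F[X]} (hf : Irreducible f) {μ : Kˣ} (hμ : aeval (μ : K) f = 0) {j : ℕ} :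
    f.natDegree ∣ j ↔ μ ^ Nat.card F ^ j = μ := by
  rw [hf.natDegree_dvd_iff_dvd_X_pow_card_pow_sub_X, ← hf.dvd_iff_aeval_eq_zero hμ, map_sub, map_pow, aeval_X,
    sub_eq_zero, ← Units.val_pow_eq_pow_val]
  exact ⟨fun h => Units.ext h, fun h => congrArg _ h⟩

theorem pow_eq_self_of_modEq {μ : Kˣ} {a : ℕ} (h : a ≡ 1 [MOD orderOf μ]) : μ ^ a = μ := by
  conv_rhs => rw [← pow_one μ]
  exact pow_eq_pow_iff_modEq.2 h

theorem natDegree_mul_dvd {f : F[X]} (hf : Irreducible f) {μ : Kˣ} (hμ : aeval (μ : K) f = 0) {q0 n ℓ r : ℕ}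
    (hq : Nat.card F = q0 ^ n) (hℓn : ℓ ∣ n) (hℓ : ℓ ∣ orderOf ((q0 : ℕ) : ZMod r)) (hr : r.Prime)
    (hc : q0.Coprime r) (ho : orderOf μ = r) : f.natDegree * ℓ ∣ r - 1 := by
  refine dvd_trans ?_ (orderOf_dvd_sub_one hr hc)
  obtain ⟨k, hk⟩ := hℓ
  obtain ⟨n', rfl⟩ := hℓn
  rw [hk, mul_comm]
  refine mul_dvd_mul_left _ ((natDegree_dvd_iff hf hμ).2 (pow_eq_self_of_modEq ?_))
  rw [hq, ho, ← pow_mul, show ℓ * n' * k = ℓ * k * n' by ring, pow_mul, ← hk]
  simpa using (modEq_orderOf q0 r).pow n'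

theorem natDegree_dvd_sub_one {f : F[X]} (hf : Irreducible f) {μ : Kˣ} (hμ : aeval (μ : K) f = 0) {q0 n r : ℕ}
    (hq : Nat.card F = q0 ^ n) (hrn : r ∣ n) (hr : r.Prime) (hc : q0.Coprime r) (ho : orderOf μ = r ^ 2) :
    f.natDegree ∣ r - 1 := by
  refine (natDegree_dvd_iff hf hμ).2 (pow_eq_self_of_modEq ?_)
  obtain ⟨n', rfl⟩ := hrn
  have h1 : (q0 ^ n') ^ (r - 1) ≡ 1 [MOD r] := modEq_of_dvd (orderOf_dvd_sub_one hr (hc.pow_left n'))
  have h2 := modEq_pow_prime_pow h1 1
  rw [ho, hq]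
  rw [← pow_mul, ← pow_mul, pow_one] at h2
  rwa [← pow_mul, show r * n' * (r - 1) = n' * ((r - 1) * r) by ring]

omit [Finite F] in
theorem root_map {p : ℕ} [Fact p.Prime] [CharP F p] {f : F[X]} {σ : F →+* F} {t : ℕ} (hσ : ∀ x, σ x = x ^ p ^ t)
    {μ : K} (h : aeval μ f = 0) : aeval (μ ^ p ^ t) (f.map σ) = 0 := by
  have hK : CharP K p := charP_of_injective_algebraMap (algebraMap F K).injective p
  have h1 : (algebraMap F K).comp σ = (iterateFrobenius K p t).comp (algebraMap F K) := by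
    ext x
    rw [RingHom.comp_apply, RingHom.comp_apply, hσ, map_pow, iterateFrobenius_def]
  rw [aeval_def, eval₂_map, h1, ← iterateFrobenius_def, ← hom_eval₂, ← aeval_def, h, map_zero]

theorem root_pow {p : ℕ} [Fact p.Prime] [CharP F p] {f : F[X]} {μ : K} (h : aeval μ f = 0) (j : ℕ) :
    aeval (μ ^ Nat.card F ^ j) f = 0 := by
  have _ : Fintype F := Fintype.ofFinite F
  obtain ⟨s, _, hs⟩ := FiniteField.card F p
  have h1 := root_map (p := p) (σ := RingHom.id F) (t := s * j) (f := f) (fun x => by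
    rw [pow_mul, ← hs, FiniteField.pow_card_pow]
    rfl) h
  rwa [pow_mul, ← hs, ← Nat.card_eq_fintype_card, Polynomial.map_id] at h1

/-- if the degree is even, the polynomial is self reciprocal -/
theorem root_inv {p : ℕ} [Fact p.Prime] [CharP F p] {f : F[X]} (hf : Irreducible f) {μ : Kˣ}
    (hμ : aeval (μ : K) f = 0) {r c : ℕ} (hr : r.Prime) (hr2 : r ≠ 2) (ho : orderOf μ = r ^ c)
    (he : Even f.natDegree) : aeval ((μ⁻¹ : Kˣ) : K) f = 0 := by
  obtain ⟨k, hk⟩ := he
  have hk0 : 0 < k := by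
    have := hf.natDegree_pos
    omega
  have h1 : μ ^ Nat.card F ^ f.natDegree = μ := (natDegree_dvd_iff hf hμ).1 dvd_rfl
  have h2 : ¬ μ ^ Nat.card F ^ k = μ := fun h => by
    have h3 := Nat.le_of_dvd hk0 ((natDegree_dvd_iff hf hμ).2 h)
    omega
  have h3 : μ⁻¹ = μ ^ Nat.card F ^ k := by
    set a : ℕ := Nat.card F ^ k with ha
    have ha1 : 1 ≤ a := Nat.one_le_pow _ _ Nat.card_pos
    have h4 : μ ^ (a * a) = μ := by
      rw [ha, ← pow_add, ← hk, h1]
    have h5 : r ^ c ∣ (a - 1) * (a + 1) := by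
      rw [← ho]
      refine orderOf_dvd_of_pow_eq_one ?_
      have h6 : (a - 1) * (a + 1) + 1 = a * a := by
        obtain ⟨b, hb⟩ := Nat.exists_eq_add_of_le ha1
        rw [hb, Nat.add_sub_cancel_left]
        ring
      have h7 : μ ^ ((a - 1) * (a + 1)) * μ = μ := by
        rw [← pow_succ, h6, h4]
      exact mul_eq_right.1 h7
    have h6 : ¬ r ^ c ∣ a - 1 := by
      intro h
      apply h2
      have h7 : μ ^ (a - 1) = 1 := by
        rw [← orderOf_dvd_iff_pow_eq_one, ho]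
        exact h
      rw [← Nat.sub_add_cancel ha1, pow_succ, h7, one_mul]
    have h7 : r ^ c ∣ a + 1 := by
      by_cases h8 : r ∣ a - 1
      · have h9 : ¬ r ∣ a + 1 := by
          intro h9
          have h10 := Nat.dvd_sub h9 h8
          have h11 : a + 1 - (a - 1) = 2 := by omega
          rw [h11] at h10
          exact hr2 ((Nat.prime_dvd_prime_iff_eq hr Nat.prime_two).1 h10)
        exact absurd ((Nat.Coprime.pow_left c ((Nat.Prime.coprime_iff_not_dvd hr).2 h9)).dvd_of_dvd_mul_right h5) h6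
      · exact (Nat.Coprime.pow_left c ((Nat.Prime.coprime_iff_not_dvd hr).2 h8)).dvd_of_dvd_mul_left h5
    rw [inv_eq_iff_mul_eq_one, ← pow_succ', ← orderOf_dvd_iff_pow_eq_one, ho]
    exact h7
  rw [h3, Units.val_pow_eq_pow_val]
  exact root_pow (p := p) hμ k

/-- enough: a power of the Frobenius of `F` -/
theorem map_eq {p : ℕ} [Fact p.Prime] [CharP F p] {f : F[X]} (hf : Irreducible f) (hm : f.Monic) {σ : F ≃+* F}
    {t : ℕ} (hσ : ∀ x, σ x = x ^ p ^ t) {μ : Kˣ} (hμ : aeval (μ : K) f = 0) {j : ℕ}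
    (hj : μ ^ p ^ t = μ ^ Nat.card F ^ j) : f.map (σ : F →+* F) = f := by
  have h1 := root_map (p := p) (σ := (σ : F →+* F)) (fun x => hσ x) hμ
  have h2 := root_pow (p := p) hμ j
  rw [← Units.val_pow_eq_pow_val] at h1 h2
  rw [hj] at h1
  have h3 : Irreducible (f.map (σ : F →+* F)) :=
    (MulEquiv.irreducible_iff (Polynomial.mapEquiv σ)).2 hf
  exact (minpoly.eq_of_irreducible_of_monic h3 h1 (hm.map _)).trans
    (minpoly.eq_of_irreducible_of_monic hf h2 hm).symm

end Deg

end Cfsg.Agent.H340.RV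
end

-- part: H340/RV/Nine
section
/-!
# An isometry of order nine on a plane (helper340)
-/

set_option autoImplicit false

namespace Cfsg.Agent.H340.RV

open Module Polynomial

section Field

variable {F K : Type*} [Field F] [Finite F] [Field K] [Algebra F K] [Algebra.IsAlgebraic F K]

theorem mem_range_of_pow_card {x : K} (h : x ^ Nat.card F = x) : ∃ s : F, algebraMap F K s = x := by
  have hx : IsIntegral F x := Algebra.IsIntegral.isIntegral x
  have h1 : (minpoly F x).natDegree ∣ 1 := by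
    rw [(minpoly.irreducible hx).natDegree_dvd_iff_dvd_X_pow_card_pow_sub_X,
      ← (minpoly.irreducible hx).dvd_iff_aeval_eq_zero (minpoly.aeval F x), map_sub, map_pow, aeval_X, pow_one, h,
      sub_self]
  exact minpoly.natDegree_eq_one_iff.1 (Nat.dvd_one.1 h1)

theorem exists_s {ω : Kˣ} (h9 : orderOf ω = 9) (hq : Nat.card F ^ 2 ≡ 1 [MOD 9]) :
    ∃ s : F, algebraMap F K s = ω + (ω⁻¹ : Kˣ) := by
  have _ : Fintype F := Fintype.ofFinite F
  have h1 : Nat.card F % 9 = 1 ∨ Nat.card F % 9 = 8 := by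
    have h2 : (Nat.card F % 9) ^ 2 % 9 = 1 := by
      have h3 : (Nat.card F % 9) ^ 2 ≡ Nat.card F ^ 2 [MOD 9] := (Nat.mod_modEq _ _).pow 2
      exact h3.trans hq
    have h4 : Nat.card F % 9 < 9 := Nat.mod_lt _ (by norm_num)
    interval_cases (Nat.card F % 9) <;> simp_all
  refine mem_range_of_pow_card ?_
  obtain ⟨p, hp⟩ := CharP.exists F
  obtain ⟨n, hpr, hn⟩ := FiniteField.card F p
  have _ : Fact p.Prime := ⟨hpr⟩
  have hK : CharP K p := charP_of_injective_algebraMap (algebraMap F K).injective p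
  have h3 : ((ω : K) + (ω⁻¹ : Kˣ)) ^ Nat.card F = (ω : K) ^ Nat.card F + ((ω⁻¹ : Kˣ) : K) ^ Nat.card F := by
    rw [Nat.card_eq_fintype_card, hn]
    exact add_pow_char_pow (ω : K) _ p n
  rw [h3, ← Units.val_pow_eq_pow_val, ← Units.val_pow_eq_pow_val]
  have h4 : ∀ m, ω ^ m = ω ^ (m % 9) := fun m => by rw [← h9, pow_mod_orderOf]
  rw [inv_pow, h4]
  rcases h1 with h1 | h1
  · rw [h1, pow_one]
  · rw [h1]
    have h5 : ω ^ 8 = ω⁻¹ := by
      rw [eq_inv_iff_mul_eq_one, ← pow_succ]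
      exact orderOf_dvd_iff_pow_eq_one.1 (by rw [h9])
    rw [h5, inv_inv, add_comm]

end Field

section Plane

variable {F V : Type*} [Field F] [AddCommGroup V] [Module F V] {B : V →ₗ[F] V →ₗ[F] F}

/-- a product of two reflections -/
theorem exists_rot (hs : ∀ u v, B u v = B v u) {a b : V} {s α : F} (hα : α ≠ 0) (ha : B a a = α)
    (hb : B b b = α) (hab : 2 * B a b = s * α) :
    ∃ y : V ≃ₗ[F] V, (∀ u v, B (y u) (y v) = B u v) ∧
      aeval (y : V →ₗ[F] V) (X ^ 2 - C (s ^ 2 - 2) * X + 1 : F[X]) a = 0 ∧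
      aeval (y : V →ₗ[F] V) ((X - 1) * (X ^ 2 - C (s ^ 2 - 2) * X + 1) : F[X]) = 0 := by
  have hfa : ((2 / α) • B a) a = 2 := by
    rw [LinearMap.smul_apply, ha, smul_eq_mul, div_mul_cancel₀ _ hα]
  have hfb : ((2 / α) • B b) b = 2 := by
    rw [LinearMap.smul_apply, hb, smul_eq_mul, div_mul_cancel₀ _ hα]
  have hra : ∀ v, Module.reflection hfa v = v - ((2 / α) * B a v) • a := fun v => by
    rw [Module.reflection_apply, LinearMap.smul_apply, smul_eq_mul]
  have hrb : ∀ v, Module.reflection hfb v = v - ((2 / α) * B b v) • b := fun v => by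
    rw [Module.reflection_apply, LinearMap.smul_apply, smul_eq_mul]
  have hisoa : ∀ u v, B (Module.reflection hfa u) (Module.reflection hfa v) = B u v := fun u v => by
    rw [hra, hra]
    simp only [map_sub, map_smul, LinearMap.sub_apply, LinearMap.smul_apply, smul_eq_mul, ha, hs u a]
    field_simp
    ring
  have hisob : ∀ u v, B (Module.reflection hfb u) (Module.reflection hfb v) = B u v := fun u v => by
    rw [hrb, hrb]
    simp only [map_sub, map_smul, LinearMap.sub_apply, LinearMap.smul_apply, smul_eq_mul, hb, hs u b]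
    field_simp
    ring
  let y : V ≃ₗ[F] V := Module.reflection hfa * Module.reflection hfb
  have hy : ∀ v, y v = v + (s * ((2 / α) * B b v) - (2 / α) * B a v) • a - ((2 / α) * B b v) • b := fun v => by
    show Module.reflection hfa (Module.reflection hfb v) = _
    rw [hra, hrb]
    simp only [map_sub, map_smul, smul_eq_mul]
    have h1 : 2 / α * (B a v - 2 / α * B b v * B a b) = (2 / α) * B a v - s * ((2 / α) * B b v) := by
      have h2 : 2 / α * (2 / α * B b v * B a b) = (2 / α * B b v) * (1 / α) * (2 * B a b) := by ring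
      rw [mul_sub, h2, hab]
      field_simp
    rw [h1]
    module
  have hba : 2 * B b a = s * α := by rw [hs, hab]
  have hya : y a = (s ^ 2 - 1) • a - s • b := by
    rw [hy, ha]
    have h1 : 2 / α * B b a = s := by
      rw [div_mul_eq_mul_div, hba, mul_div_cancel_right₀ _ hα]
    have h2 : 2 / α * α = 2 := div_mul_cancel₀ _ hα
    rw [h1, h2]
    module
  have hyb : y b = s • a - b := by
    rw [hy, hb]
    have h1 : 2 / α * B a b = s := by
      rw [div_mul_eq_mul_div, hab, mul_div_cancel_right₀ _ hα]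
    have h2 : 2 / α * α = 2 := div_mul_cancel₀ _ hα
    rw [h1, h2]
    module
  have hQ : ∀ v, aeval (y : V →ₗ[F] V) (X ^ 2 - C (s ^ 2 - 2) * X + 1 : F[X]) v = y (y v) - (s ^ 2 - 2) • y v + v := by
    intro v
    rw [map_add, map_sub, map_mul, map_pow, aeval_X, aeval_C, map_one, pow_two ((y : V →ₗ[F] V) : End F V)]
    rfl
  have hQa : aeval (y : V →ₗ[F] V) (X ^ 2 - C (s ^ 2 - 2) * X + 1 : F[X]) a = 0 := by
    rw [hQ, hya, map_sub, map_smul, map_smul, hya, hyb]
    module
  have hQb : aeval (y : V →ₗ[F] V) (X ^ 2 - C (s ^ 2 - 2) * X + 1 : F[X]) b = 0 := by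
    rw [hQ, hyb, map_sub, map_smul, hya, hyb]
    module
  refine ⟨y, fun u v => ?_, hQa, ?_⟩
  · show B (Module.reflection hfa (Module.reflection hfb u)) (Module.reflection hfa (Module.reflection hfb v)) = B u v
    rw [hisoa, hisob]
  · ext v
    rw [mul_comm, map_mul, Module.End.mul_apply, LinearMap.zero_apply]
    have h1 : aeval (y : V →ₗ[F] V) (X - 1 : F[X]) v =
        (s * ((2 / α) * B b v) - (2 / α) * B a v) • a - ((2 / α) * B b v) • b := by
      rw [map_sub, aeval_X, map_one]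
      show y v - v = _
      rw [hy]
      module
    rw [h1, map_sub, map_smul, map_smul, hQa, hQb, smul_zero, smul_zero, sub_zero]

theorem exists_ab [Finite F] [FiniteDimensional F V] (h2 : (2 : F) ≠ 0) (hs : ∀ u v, B u v = B v u)
    (hnd : ∀ v, (∀ u, B v u = 0) → v = 0) (h3 : 3 ≤ finrank F V) {s : F} :
    ∃ (a b : V) (α : F), α ≠ 0 ∧ B a a = α ∧ B b b = α ∧ 2 * B a b = s * α := by
  have _ : Fintype F := Fintype.ofFinite F
  have _ : Invertible (2 : F) := invertibleOfNonzero h2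
  obtain ⟨v, hv⟩ := LinearMap.BilinForm.exists_orthogonal_basis (B := B) ⟨hs⟩
  have hB : LinearMap.BilinForm.Nondegenerate B := by
    refine ⟨fun x hx => hnd x hx, fun x hx => hnd x fun u => by rw [hs, hx]⟩
  have hne := fun i => LinearMap.BilinForm.iIsOrtho.not_isOrtho_basis_self_of_nondegenerate (B := B) (v := v) hv hB i
  let i0 : Fin (finrank F V) := ⟨0, by omega⟩
  let i1 : Fin (finrank F V) := ⟨1, by omega⟩
  let i2 : Fin (finrank F V) := ⟨2, by omega⟩
  have hij : ∀ i j, i ≠ j → B (v i) (v j) = 0 := fun i j h => hv h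
  have h01 : i0 ≠ i1 := fun h => by simp [i0, i1] at h
  have h02 : i0 ≠ i2 := fun h => by simp [i0, i2] at h
  have h12 : i1 ≠ i2 := fun h => by simp [i1, i2] at h
  set c0 := B (v i0) (v i0) with hc0
  set c1 := B (v i1) (v i1) with hc1
  set c2 := B (v i2) (v i2) with hc2
  have hodd : Fintype.card F % 2 = 1 := by
    refine FiniteField.odd_card_of_char_ne_two ?_
    intro h
    apply h2
    have h3 : ((ringChar F : ℕ) : F) = 0 := ringChar.Nat.cast_ringChar
    rw [h] at h3
    exact_mod_cast h3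
  obtain ⟨x, y, hxy⟩ := FiniteField.exists_root_sum_quadratic (R := F) (f := C c1 * X ^ 2)
    (g := C c2 * X ^ 2 - C (c0 - s ^ 2 / 4 * c0)) (degree_C_mul_X_pow 2 (hne i1)) (by
      rw [degree_sub_eq_left_of_degree_lt]
      · exact degree_C_mul_X_pow 2 (hne i2)
      · rw [degree_C_mul_X_pow 2 (hne i2)]
        exact degree_C_le.trans_lt (by decide)) hodd
  refine ⟨v i0, (s / 2) • v i0 + x • v i1 + y • v i2, c0, hne i0, rfl, ?_, ?_⟩
  · have h4 : (4 : F) ≠ 0 := by
      have : (4 : F) = 2 * 2 := by norm_num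
      rw [this]
      exact mul_ne_zero h2 h2
    simp only [map_add, map_smul, LinearMap.add_apply, LinearMap.smul_apply, smul_eq_mul, hij _ _ h01, hij _ _ h02,
      hij _ _ h12, hij _ _ h01.symm, hij _ _ h02.symm, hij _ _ h12.symm, ← hc0, ← hc1, ← hc2, mul_zero, add_zero,
      zero_add]
    simp only [eval_mul, eval_C, eval_pow, eval_X, eval_sub] at hxy
    have h5 : s / 2 * (s / 2 * c0) = s ^ 2 / 4 * c0 := by
      field_simp
      ring
    rw [h5]
    linear_combination hxy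
  · simp only [map_add, map_smul, smul_eq_mul, hij _ _ h01, hij _ _ h02, ← hc0, mul_zero, add_zero]
    field_simp

end Plane

section Nine

variable {F V : Type*} [Field F] [AddCommGroup V] [Module F V] {B : V →ₗ[F] V →ₗ[F] F}

theorem exists_nine [Finite F] [FiniteDimensional F V] (h2 : (2 : F) ≠ 0) (h3 : (3 : F) ≠ 0)
    (hs : ∀ u v, B u v = B v u) (hnd : ∀ v, (∀ u, B v u = 0) → v = 0) (hd : 3 ≤ finrank F V)
    (hq : Nat.card F ^ 2 ≡ 1 [MOD 9]) :
    ∃ y : V ≃ₗ[F] V, (∀ u v, B (y u) (y v) = B u v) ∧ y ^ 9 = 1 ∧ y ^ 3 ≠ 1 ∧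
      ∃ P : F[X], P ≠ 0 ∧ P.natDegree ≤ 3 ∧ aeval (y : V →ₗ[F] V) P = 0 := by
  let K := AlgebraicClosure F
  have h9 : ((9 : ℕ) : K) ≠ 0 := by
    have h4 : ((9 : ℕ) : K) = algebraMap F K (3 * 3) := by
      rw [map_mul, map_ofNat]
      norm_num
    rw [h4]
    exact (_root_.map_ne_zero _).2 (mul_ne_zero h3 h3)
  have _ : NeZero ((9 : ℕ) : K) := ⟨h9⟩
  obtain ⟨ζ, hζ⟩ := HasEnoughRootsOfUnity.exists_primitiveRoot K 9
  have hζ0 : ζ ≠ 0 := hζ.ne_zero (by norm_num)
  let ω : Kˣ := Units.mk0 ζ hζ0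
  have hω : orderOf ω = 9 := by
    rw [← orderOf_units]
    exact hζ.eq_orderOf.symm
  obtain ⟨s, hsω⟩ := exists_s hω hq
  obtain ⟨a, b, α, hα, ha, hb, hab⟩ := exists_ab h2 hs hnd hd (s := s)
  obtain ⟨y, hy, hya, hyP⟩ := exists_rot hs hα ha hb hab
  have ha0 : a ≠ 0 := by
    rintro rfl
    exact hα (by rw [← ha]; simp)
  set Q : F[X] := X ^ 2 - C (s ^ 2 - 2) * X + 1 with hQ
  let z : Kˣ := ω ^ 2
  have hzo : ∀ k, z ^ k = 1 → 9 ∣ 2 * k := by
    intro k hk
    rw [← hω]
    refine orderOf_dvd_of_pow_eq_one ?_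
    rw [pow_mul]
    exact hk
  have hz1 : (z : K) ≠ 1 := fun h => by
    have h4 := hzo 1 (by rw [pow_one]; exact Units.ext h)
    omega
  have hz3 : (z : K) ^ 3 ≠ 1 := fun h => by
    have h4 := hzo 3 (Units.ext (by rw [Units.val_pow_eq_pow_val]; exact h))
    omega
  have hz9 : (z : K) ^ 9 = 1 := by
    rw [← Units.val_pow_eq_pow_val]
    show ((ω ^ 2) ^ 9 : Kˣ) = (1 : K)
    rw [← pow_mul, mul_comm, pow_mul, ← hω, pow_orderOf_eq_one, one_pow, Units.val_one]
  have hzi : ((z⁻¹ : Kˣ) : K) * z = 1 := Units.inv_mul z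
  have hzi' : (z : K) * ((z⁻¹ : Kˣ) : K) = 1 := Units.mul_inv z
  have hzz : (z : K) ≠ ((z⁻¹ : Kˣ) : K) := fun h => by
    have h4 := hzo 2 (by
      rw [pow_two]
      nth_rewrite 1 [Units.ext h]
      exact inv_mul_cancel z)
    omega
  have ht : algebraMap F K (s ^ 2 - 2) = z + (z⁻¹ : Kˣ) := by
    rw [map_sub, map_pow, hsω, map_ofNat]
    have h4 : (ω : K) * ((ω⁻¹ : Kˣ) : K) = 1 := Units.mul_inv ω
    have h5 : ((z⁻¹ : Kˣ) : K) = ((ω⁻¹ : Kˣ) : K) ^ 2 := by
      rw [← Units.val_pow_eq_pow_val, inv_pow]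
    rw [h5, show (z : K) = (ω : K) ^ 2 from Units.val_pow_eq_pow_val _ _]
    linear_combination 2 * h4
  have hQm : Q.map (algebraMap F K) = (X - C (z : K)) * (X - C ((z⁻¹ : Kˣ) : K)) := by
    rw [hQ, Polynomial.map_add, Polynomial.map_sub, Polynomial.map_mul, Polynomial.map_pow, Polynomial.map_X,
      Polynomial.map_C, Polynomial.map_one, ht]
    have h4 : (C (z : K) * C ((z⁻¹ : Kˣ) : K) : K[X]) = 1 := by rw [← C_mul, hzi', C_1]
    rw [C_add]
    linear_combination -h4
  have hQmonic : Q.Monic := by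
    have h4 : (Q.map (algebraMap F K)).Monic := by
      rw [hQm]
      exact (monic_X_sub_C _).mul (monic_X_sub_C _)
    exact Polynomial.monic_of_injective (algebraMap F K).injective h4
  have hPmonic : ((X - 1) * Q).Monic := by
    have : (X - 1 : F[X]) = X - C 1 := by rw [C_1]
    rw [this]
    exact (monic_X_sub_C _).mul hQmonic
  have hPd : (X - 1) * Q ∣ X ^ 9 - 1 := by
    rw [← Polynomial.map_dvd_map _ (algebraMap F K).injective hPmonic, Polynomial.map_mul, hQm, Polynomial.map_sub,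
      Polynomial.map_sub, Polynomial.map_pow, Polynomial.map_X, Polynomial.map_one]
    have hc : ∀ u v : K, u ≠ v → IsCoprime (X - C u) (X - C v) := fun u v h =>
      Polynomial.isCoprime_X_sub_C_of_isUnit_sub (sub_ne_zero.2 h).isUnit
    have hr : ∀ u : K, u ^ 9 = 1 → (X - C u) ∣ (X ^ 9 - 1 : K[X]) := fun u hu => by
      rw [dvd_iff_isRoot, IsRoot.def, eval_sub, eval_pow, eval_X, eval_one, hu, sub_self]
    have hzi9 : ((z⁻¹ : Kˣ) : K) ^ 9 = 1 := by
      have h4 : (((z⁻¹ : Kˣ) : K) * z) ^ 9 = 1 := by rw [hzi, one_pow]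
      rwa [mul_pow, hz9, mul_one] at h4
    have hzi1 : (1 : K) ≠ ((z⁻¹ : Kˣ) : K) := fun h => by
      rw [← h, one_mul] at hzi
      exact hz1 hzi
    rw [← C_1]
    refine IsCoprime.mul_dvd ?_ ?_ (IsCoprime.mul_dvd (hc _ _ hzz) ?_ ?_)
    · exact (hc _ _ hz1.symm).mul_right (hc _ _ hzi1)
    · rw [C_1]
      have h4 := hr 1 (one_pow _)
      rwa [C_1] at h4
    · rw [C_1]
      exact hr _ hz9
    · rw [C_1]
      exact hr _ hzi9
  refine ⟨y, hy, ?_, ?_, (X - 1) * Q, hPmonic.ne_zero, ?_, hyP⟩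
  · obtain ⟨R, hR⟩ := hPd
    have h4 : aeval (y : V →ₗ[F] V) (X ^ 9 - 1 : F[X]) = 0 := by
      rw [hR, map_mul, hyP, zero_mul]
    ext v
    have h5 := congrArg (fun f : End F V => f v) h4
    simp only [map_sub, map_pow, aeval_X, map_one] at h5
    rw [LinearMap.sub_apply, end_pow_apply, Module.End.one_apply, LinearMap.zero_apply, sub_eq_zero] at h5
    exact h5
  · intro hy3
    have hcop : IsCoprime Q (X ^ 3 - 1) := by
      rw [← Polynomial.isCoprime_map (algebraMap F K), hQm, Polynomial.map_sub, Polynomial.map_pow, Polynomial.map_X,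
        Polynomial.map_one]
      have hc : ∀ u : K, u ^ 3 ≠ 1 → IsCoprime (X - C u) (X ^ 3 - 1) := fun u hu => by
        rw [(irreducible_X_sub_C u).coprime_iff_not_dvd, dvd_iff_isRoot, IsRoot.def, eval_sub, eval_pow, eval_X,
          eval_one, sub_eq_zero]
        exact hu
      refine (hc _ hz3).mul_left (hc _ ?_)
      intro h
      apply hz3
      have h4 : (((z⁻¹ : Kˣ) : K) * z) ^ 3 = 1 := by rw [hzi, one_pow]
      rwa [mul_pow, h, one_mul] at h4
    obtain ⟨c, d, hcd⟩ := hcop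
    apply ha0
    have h4 : aeval (y : V →ₗ[F] V) (c * Q + d * (X ^ 3 - 1)) a = a := by rw [hcd, map_one, Module.End.one_apply]
    simp only [map_add, LinearMap.add_apply, map_mul, map_mul, Module.End.mul_apply, Module.End.mul_apply, hya, map_zero,
      zero_add, map_sub, map_pow, aeval_X, map_one, LinearMap.sub_apply, end_pow_apply, hy3,
      Module.End.one_apply, show (1 : V ≃ₗ[F] V) a = a from rfl, sub_self, map_zero] at h4
    exact h4.symm
  · have h4 : ((X - 1) * Q).natDegree = 3 := by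
      have h5 : (((X - 1) * Q).map (algebraMap F K)).natDegree = 3 := by
        rw [Polynomial.map_mul, hQm, Polynomial.map_sub, Polynomial.map_X, Polynomial.map_one, ← C_1,
          (monic_X_sub_C _).natDegree_mul ((monic_X_sub_C _).mul (monic_X_sub_C _)),
          (monic_X_sub_C _).natDegree_mul (monic_X_sub_C _), natDegree_X_sub_C, natDegree_X_sub_C, natDegree_X_sub_C]
      rwa [Polynomial.natDegree_map] at h5
    exact h4.le

end Nine

end Cfsg.Agent.H340.RV
end

-- part: H340/RV/Closed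
section
/-!
# Characteristic polynomials of Hall subgroups of orthogonal groups (helper340)

`charpoly_map` : `H` a `p'`-group of isometries of a symmetric form (`p ≠ 2`, dimension `≥ 3`), `3 ∣ |H|`, for every odd
prime divisor `r` of `|H|` every isometry of `r`-power order is conjugate (in `GL(V)`) to an element of `H`, and
`O_r(H) = 1` for all odd `r`. Then the characteristic polynomials of the elements of `H` are fixed by all field
automorphisms of odd order.
-/

set_option autoImplicit false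

namespace Cfsg.Agent.H340.RV

open Module Polynomial Cfsg.Agent.H340.MP

section Sigma

variable {F : Type*} [Field F] [Finite F] {p : ℕ} [Fact p.Prime] [CharP F p]

theorem exists_sigma (σ : F ≃+* F) (hσ : Odd (orderOf σ)) :
    ∃ g n k : ℕ, 0 < g ∧ Odd n ∧ Nat.card F = (p ^ g) ^ n ∧ ∀ x, σ x = x ^ p ^ (g * k) := by
  have _ : Algebra (ZMod p) F := ZMod.algebra F p
  have hfin : Module.Finite (ZMod p) F := Module.Finite.of_finite
  let τ : F ≃ₐ[ZMod p] F := AlgEquiv.ofRingEquiv (f := σ) (fun x => by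
    have h1 : (σ : F →+* F).comp (algebraMap (ZMod p) F) = algebraMap (ZMod p) F := RingHom.ext_zmod _ _
    exact congrArg (fun f : ZMod p →+* F => f x) h1)
  obtain ⟨i, hi⟩ := FiniteField.exists_forall_apply_eq_pow (ZMod p) p F τ
  have hi' : ∀ x, σ x = x ^ p ^ i := fun x => by
    have h1 := hi x
    rw [Nat.card_zmod] at h1
    exact h1
  set s := finrank (ZMod p) F with hs
  have hs0 : 0 < s := Module.finrank_pos
  have hcard : Nat.card F = p ^ s := by
    rw [Module.natCard_eq_pow_finrank (K := ZMod p), Nat.card_zmod]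
  have h1 : ∀ (m : ℕ) (x : F), (σ ^ m) x = x ^ p ^ (i * m) := by
    intro m
    induction m with
    | zero => intro x; simp
    | succ m ih =>
      intro x
      rw [pow_succ', RingAut.mul_apply, ih, hi', ← pow_mul, ← pow_add]
      congr 2
  have h2 : s ∣ i * orderOf σ := by
    rw [hs, ← FiniteField.orderOf_frobeniusAlgHom (ZMod p) F]
    refine orderOf_dvd_of_pow_eq_one ?_
    ext x
    rw [AlgHom.coe_pow, FiniteField.coe_frobeniusAlgHom, pow_iterate, ZMod.card]
    have h3 := h1 (orderOf σ) x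
    rw [pow_orderOf_eq_one] at h3
    exact h3.symm
  rcases Nat.eq_zero_or_pos i with rfl | hi0
  · refine ⟨s, 1, 0, hs0, odd_one, by rw [hcard, pow_one], fun x => ?_⟩
    rw [mul_zero]
    exact hi' x
  · obtain ⟨n, hn⟩ := Nat.gcd_dvd_left s i
    obtain ⟨k, hk⟩ := Nat.gcd_dvd_right s i
    have hg : 0 < Nat.gcd s i := Nat.gcd_pos_of_pos_left _ hs0
    refine ⟨Nat.gcd s i, n, k, hg, ?_, ?_, ?_⟩
    · have hnk : Nat.Coprime n k := by
        have h3 : n = s / Nat.gcd s i := (Nat.div_eq_of_eq_mul_right hg hn).symm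
        have h4 : k = i / Nat.gcd s i := (Nat.div_eq_of_eq_mul_right hg hk).symm
        rw [h3, h4]
        exact Nat.coprime_div_gcd_div_gcd hg
      have h3 : n ∣ k * orderOf σ := by
        have h4 : Nat.gcd s i * n ∣ Nat.gcd s i * (k * orderOf σ) := by
          rw [← hn, ← mul_assoc, ← hk]
          exact h2
        exact Nat.dvd_of_mul_dvd_mul_left hg h4
      exact hσ.of_dvd_nat (hnk.dvd_of_dvd_mul_left h3)
    · rw [hcard, ← pow_mul, ← hn]
    · intro x
      rw [← hk]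
      exact hi' x

end Sigma

section Eig

variable {F V : Type*} [Field F] [AddCommGroup V] [Module F V] [FiniteDimensional F V]
variable {K : Type*} [Field K] [Algebra F K]

/-- `μ` is an eigenvalue of `T` -/
def Eig (T : End F V) (μ : K) : Prop := ∃ v, v ≠ 0 ∧ aeval T (minpoly F μ) v = 0

omit [FiniteDimensional F V] in
theorem Eig.pow {T : End F V} {μ : K} (h : Eig T μ) (c : ℕ) : Eig (T ^ c) (μ ^ c) := by
  obtain ⟨v, hv0, hv⟩ := h
  refine ⟨v, hv0, ?_⟩
  obtain ⟨k, hk⟩ : minpoly F μ ∣ (minpoly F (μ ^ c)).comp (X ^ c) := by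
    refine minpoly.dvd F μ ?_
    rw [aeval_comp, map_pow, aeval_X, minpoly.aeval]
  have h1 : aeval (T ^ c) (minpoly F (μ ^ c)) = aeval T ((minpoly F (μ ^ c)).comp (X ^ c)) := by
    rw [aeval_comp, map_pow, aeval_X]
  rw [h1, hk, mul_comm, map_mul, Module.End.mul_apply, hv, map_zero]

omit [FiniteDimensional F V] in
theorem Eig.dvd [Algebra.IsAlgebraic F K] {T : End F V} {μ : K} (h : Eig T μ) {g : F[X]} (hg : aeval T g = 0) :
    aeval μ g = 0 := by
  obtain ⟨v, hv0, hv⟩ := h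
  have hirr := minpoly.irreducible (Algebra.IsIntegral.isIntegral (R := F) μ)
  by_contra hcon
  have h1 : ¬ minpoly F μ ∣ g := fun h => by
    obtain ⟨k, rfl⟩ := h
    rw [map_mul, minpoly.aeval, zero_mul] at hcon
    exact hcon rfl
  obtain ⟨a, b, hab⟩ := hirr.coprime_iff_not_dvd.2 h1
  have h3 : aeval T (a * minpoly F μ + b * g) v = v := by
    rw [hab, map_one, Module.End.one_apply]
  rw [map_add, LinearMap.add_apply, map_mul, map_mul, Module.End.mul_apply, Module.End.mul_apply, hv, map_zero,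
    zero_add, hg, LinearMap.zero_apply, map_zero] at h3
  exact hv0 h3.symm

omit [FiniteDimensional F V] in
theorem Eig.pow_eq_one [Algebra.IsAlgebraic F K] {T : V ≃ₗ[F] V} {μ : K} (h : Eig (T : V →ₗ[F] V) μ) {N : ℕ}
    (hN : T ^ N = 1) : μ ^ N = 1 := by
  have h1 := h.dvd (g := X ^ N - 1) (by
    ext x
    rw [map_sub, map_pow, aeval_X, map_one, LinearMap.sub_apply, end_pow_apply, hN,
      Module.End.one_apply, show (1 : V ≃ₗ[F] V) x = x from rfl, sub_self, LinearMap.zero_apply])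
  rwa [map_sub, map_pow, aeval_X, map_one, sub_eq_zero] at h1

/-- an irreducible factor of the characteristic polynomial -/
theorem exists_ker {T : End F V} {f : F[X]} (hf : Irreducible f) (hd : f ∣ LinearMap.charpoly T) :
    ∃ v, v ≠ 0 ∧ aeval T f v = 0 := by
  classical
  let K := AlgebraicClosure F
  let b := Module.finBasis F V
  let M := LinearMap.toMatrixAlgEquiv b T
  have hM : M.charpoly = LinearMap.charpoly T := LinearMap.charpoly_toMatrix T b
  obtain ⟨μ, hμ⟩ := IsAlgClosed.exists_aeval_eq_zero K f (degree_pos_of_irreducible hf).ne'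
  have h1 : (M.map (algebraMap F K)).charpoly.IsRoot μ := by
    rw [Matrix.charpoly_map, hM, IsRoot.def, eval_map_algebraMap]
    obtain ⟨g, hg⟩ := hd
    rw [hg, map_mul, hμ, zero_mul]
  have h2 : ∃ w, w ≠ 0 ∧ (Matrix.scalar _ μ - M.map (algebraMap F K)).mulVec w = 0 := by
    rw [Matrix.exists_mulVec_eq_zero_iff, ← Matrix.eval_charpoly]
    exact h1
  obtain ⟨w, hw0, hw⟩ := h2
  have h3 : (M.map (algebraMap F K)).mulVec w = μ • w := by
    rw [Matrix.sub_mulVec, sub_eq_zero] at hw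
    rw [← hw]
    ext i
    simp [Matrix.mulVec_diagonal]
  let TK : End K (_ → K) := Matrix.toLinAlgEquiv' (M.map (algebraMap F K))
  have h4 : TK.HasEigenvector μ w := by
    refine ⟨?_, hw0⟩
    rw [Module.End.mem_eigenspace_iff]
    exact h3
  have h5 : aeval TK (f.map (algebraMap F K)) w = 0 := by
    rw [Module.End.aeval_apply_of_hasEigenvector h4, eval_map_algebraMap, hμ, zero_smul]
  have h6 : ((aeval M f).map (algebraMap F K)).mulVec w = 0 := by
    rw [MP.aeval_map]
    have h7 : aeval TK (f.map (algebraMap F K)) =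
        Matrix.toLinAlgEquiv' (aeval (M.map (algebraMap F K)) (f.map (algebraMap F K))) :=
      aeval_algHom_apply (Matrix.toLinAlgEquiv' (R := K)).toAlgHom _ _
    rw [h7] at h5
    exact h5
  have h7 : (aeval M f).det = 0 := by
    have h8 : ((aeval M f).map (algebraMap F K)).det = 0 := Matrix.exists_mulVec_eq_zero_iff.1 ⟨w, hw0, h6⟩
    have h9 : algebraMap F K (aeval M f).det = 0 := by
      rw [RingHom.map_det]
      exact h8
    exact (map_eq_zero _).1 h9
  have h8 : LinearMap.det (aeval T f) = 0 := by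
    rw [← LinearMap.det_toMatrix b]
    have h9 : LinearMap.toMatrix b b (aeval T f) = aeval M f :=
      (aeval_algHom_apply (LinearMap.toMatrixAlgEquiv b).toAlgHom T f).symm
    rw [h9, h7]
  have h9 : LinearMap.ker (aeval T f) ≠ ⊥ := by
    intro h
    have h10 := LinearMap.bot_lt_ker_of_det_eq_zero h8
    rw [h] at h10
    exact lt_irrefl _ h10
  obtain ⟨v, hv, hv0⟩ := (Submodule.ne_bot_iff _).1 h9
  exact ⟨v, hv0, hv⟩

end Eig

section Main

variable {F V : Type*} [Field F] [Finite F] [AddCommGroup V] [Module F V] [FiniteDimensional F V]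
  {p : ℕ} [Fact p.Prime] [CharP F p] {H : Type*} [Group H] [Finite H]

theorem mem_pCore_of_aeval (hcop : ¬ p ∣ Nat.card H) (ρ : H →* (V ≃ₗ[F] V)) (hρ : Function.Injective ρ) {l : ℕ}
    [Fact l.Prime] {x : H} {a b : ℕ} {P : F[X]} (hP : P ≠ 0) (h0 : aeval (ρ x : V →ₗ[F] V) P = 0)
    (hx : x ^ l ^ b = 1) (hdeg : P.natDegree ≤ l ^ a) : x ^ l ^ a ∈ Cfsg.pCore l H := by
  classical
  let bs := Module.finBasis F V
  let f : H →* Matrix (Fin (finrank F V)) (Fin (finrank F V)) F :=
    ((LinearMap.toMatrixAlgEquiv bs).toAlgHom.toRingHom.toMonoidHom).comp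
      ((LinearEquiv.automorphismGroup.toLinearMapMonoidHom).comp ρ)
  refine poly_one hcop f.toHomUnits ?_ hP ?_ hx hdeg
  · intro x y hxy
    apply hρ
    have h1 : f x = f y := congrArg Units.val hxy
    have h2 : (ρ x : V →ₗ[F] V) = (ρ y : V →ₗ[F] V) := (LinearMap.toMatrixAlgEquiv bs).injective h1
    exact LinearEquiv.toLinearMap_injective h2
  · have h1 := aeval_algHom_apply (LinearMap.toMatrixAlgEquiv bs).toAlgHom (ρ x : V →ₗ[F] V) P
    rw [h0, map_zero] at h1
    exact h1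

/-- the situation of a Hall subgroup -/
structure Sit (p : ℕ) (B : V →ₗ[F] V →ₗ[F] F) (ρ : H →* (V ≃ₗ[F] V)) : Prop where
  two : (2 : F) ≠ 0
  symm : ∀ u v, B u v = B v u
  nondeg : ∀ v, (∀ u, B v u = 0) → v = 0
  dim : 3 ≤ finrank F V
  inj : Function.Injective ρ
  iso : ∀ h u v, B (ρ h u) (ρ h v) = B u v
  cop : ¬ p ∣ Nat.card H
  three : 3 ∣ Nat.card H
  hall : ∀ r : ℕ, r.Prime → r ≠ 2 → r ∣ Nat.card H → ∀ y : V ≃ₗ[F] V, (∀ u v, B (y u) (y v) = B u v) →
    (∃ k : ℕ, y ^ r ^ k = 1) → ∃ (g : V ≃ₗ[F] V) (h : H), ρ h = g * y * g⁻¹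
  core : ∀ r : ℕ, r.Prime → r ≠ 2 → Cfsg.pCore r H = ⊥

variable {B : V →ₗ[F] V →ₗ[F] F} {ρ : H →* (V ≃ₗ[F] V)}

theorem pow_eq_one_conj {G : Type*} [Group G] {g y : G} {n : ℕ} : (g * y * g⁻¹) ^ n = 1 ↔ y ^ n = 1 := by
  rw [conj_pow, mul_inv_eq_one, mul_eq_left]

/-- the polynomial test -/
theorem Sit.poly (S : Sit p B ρ) {r : ℕ} (hr : r.Prime) (hr2 : r ≠ 2) (hrH : r ∣ Nat.card H) {y : V ≃ₗ[F] V}
    (hy : ∀ u v, B (y u) (y v) = B u v) {b : ℕ} (hyb : y ^ r ^ b = 1) {P : F[X]} (hP : P ≠ 0)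
    (h0 : aeval (y : V →ₗ[F] V) P = 0) (hdeg : P.natDegree ≤ r) : y ^ r = 1 := by
  have _ : Fact r.Prime := ⟨hr⟩
  obtain ⟨g, h, hg⟩ := S.hall r hr hr2 hrH y hy ⟨b, hyb⟩
  have h1 : h ^ r ^ b = 1 := by
    apply S.inj
    rw [map_pow, map_one, hg, pow_eq_one_conj, hyb]
  have h2 : aeval (ρ h : V →ₗ[F] V) P = 0 := by
    rw [hg]
    have h3 : ((g * y * g⁻¹ : V ≃ₗ[F] V) : V →ₗ[F] V) = g.conjAlgEquiv F (y : V →ₗ[F] V) := by
      ext v
      rfl
    have h4 := aeval_algHom_apply (g.conjAlgEquiv F).toAlgHom (y : V →ₗ[F] V) P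
    rw [h0, map_zero] at h4
    rw [h3]
    exact h4
  have h3 := mem_pCore_of_aeval S.cop ρ S.inj (a := 1) hP h2 h1 (by rwa [pow_one])
  rw [S.core r hr hr2, Subgroup.mem_bot, pow_one] at h3
  have h4 : (ρ h) ^ r = 1 := by rw [← map_pow, h3, map_one]
  rwa [hg, pow_eq_one_conj] at h4

/-- the Feit-Thompson test -/
theorem Sit.small (S : Sit p B ρ) {r : ℕ} (hr : r.Prime) (hr2 : r ≠ 2) (hrH : r ∣ Nat.card H) {y : V ≃ₗ[F] V}
    (hy : ∀ u v, B (y u) (y v) = B u v) (hyr : y ^ r = 1)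
    (hd : 4 * finrank F (LinearMap.range ((y : V →ₗ[F] V) - LinearMap.id)) + 1 < r) : y = 1 := by
  have _ : Fact r.Prime := ⟨hr⟩
  obtain ⟨g, h, hg⟩ := S.hall r hr hr2 hrH y hy ⟨1, by rwa [pow_one]⟩
  have h1 : h ^ r = 1 := by
    apply S.inj
    rw [map_pow, map_one, hg, pow_eq_one_conj, hyr]
  have h2 : finrank F (comSp ρ h) = finrank F (LinearMap.range ((y : V →ₗ[F] V) - LinearMap.id)) := by
    have h3 := finrank_comSp_conj (MonoidHom.id (V ≃ₗ[F] V)) g y
    rw [← hg] at h3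
    exact h3
  have h3 := mem_pCore S.cop ρ S.inj h1 (by rw [h2]; exact hd)
  rw [S.core r hr hr2, Subgroup.mem_bot] at h3
  have h4 : (ρ h) ^ 1 = 1 := by rw [h3, map_one, one_pow]
  rw [hg, pow_eq_one_conj, pow_one] at h4
  exact h4

omit [Finite F] [FiniteDimensional F V] [Finite H] in
theorem orderOf_dvd_card {K : Type*} [Field K] [Algebra F K] [Algebra.IsAlgebraic F K] {h : H} {μ : Kˣ}
    (hE : Eig (ρ h : V →ₗ[F] V) (μ : K)) : orderOf μ ∣ Nat.card H := by
  have h1 : (μ : K) ^ Nat.card H = 1 := hE.pow_eq_one (by rw [← map_pow, pow_card_eq_one', map_one])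
  exact orderOf_dvd_of_pow_eq_one (Units.ext (by rw [Units.val_pow_eq_pow_val, h1, Units.val_one]))

omit [Finite H] in
/-- an isometry with a given eigenvalue -/
theorem Sit.exists_y (S : Sit p B ρ) {K : Type*} [Field K] [Algebra F K] [Algebra.IsAlgebraic F K] {h : H} {μ : Kˣ}
    (hE : Eig (ρ h : V →ₗ[F] V) (μ : K)) {r c : ℕ} (hr : r.Prime) (hr2 : r ≠ 2) (ho : orderOf μ = r ^ c) :
    ∃ (y : V ≃ₗ[F] V) (P : F[X]), (∀ u v, B (y u) (y v) = B u v) ∧ y ^ r ^ c = 1 ∧ Eig (y : V →ₗ[F] V) (μ : K) ∧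
      P ≠ 0 ∧ aeval (y : V →ₗ[F] V) P = 0 ∧
      ((P.natDegree ≤ 1 + (minpoly F (μ : K)).natDegree ∧
        finrank F (LinearMap.range ((y : V →ₗ[F] V) - LinearMap.id)) ≤ (minpoly F (μ : K)).natDegree) ∨
      (Odd (minpoly F (μ : K)).natDegree ∧ P.natDegree ≤ 1 + 2 * (minpoly F (μ : K)).natDegree ∧
        finrank F (LinearMap.range ((y : V →ₗ[F] V) - LinearMap.id)) ≤ 2 * (minpoly F (μ : K)).natDegree)) := by
  have hint := Algebra.IsIntegral.isIntegral (R := F) (μ : K)
  have hirr := minpoly.irreducible hint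
  have hm := minpoly.monic hint
  set f := minpoly F (μ : K) with hf
  obtain ⟨v, hv0, hv⟩ := hE
  have hN : ((orderOf h : ℕ) : F) ≠ 0 := fun h1 => S.cop
    (((CharP.cast_eq_zero_iff F p _).1 h1).trans (orderOf_dvd_natCard h))
  have hM : f ∣ X ^ r ^ c - 1 := by
    refine minpoly.dvd F (μ : K) ?_
    rw [map_sub, map_pow, aeval_X, map_one, ← Units.val_pow_eq_pow_val, ← ho, pow_orderOf_eq_one, Units.val_one,
      sub_self]
  obtain ⟨y, hy1, hy2, hy3, hy4⟩ := exists_small S.two S.symm S.nondeg (T := ρ h) (S.iso h) hN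
    (by rw [← map_pow, pow_orderOf_eq_one, map_one]) hirr hm hM hv0 hv
  have hX : (X - 1 : F[X]) ≠ 0 := by
    rw [← C_1]
    exact X_sub_C_ne_zero 1
  have hX1 : (X - 1 : F[X]).natDegree = 1 := by
    rw [← C_1]
    exact natDegree_X_sub_C 1
  rcases hy4 with ⟨h1, h2⟩ | ⟨h0, h1, h2⟩
  · refine ⟨y, (X - 1) * f, hy1, hy2, hy3, mul_ne_zero hX hm.ne_zero, h1, Or.inl ⟨?_, h2⟩⟩
    refine natDegree_mul_le.trans ?_
    rw [hX1]
  · refine ⟨y, (X - 1) * (f * rv f), hy1, hy2, hy3, mul_ne_zero hX (mul_ne_zero hm.ne_zero (rv_ne_zero hm.ne_zero)),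
      h1, Or.inr ⟨?_, ?_, h2⟩⟩
    · rw [← Nat.not_even_iff_odd]
      intro he
      apply h0
      refine minpoly.dvd F (μ : K) ?_
      rw [aeval_rv (y := ((μ⁻¹ : Kˣ) : K)) (Units.mul_inv μ),
        root_inv (p := p) hirr (minpoly.aeval F (μ : K)) hr hr2 ho he, mul_zero]
    · refine natDegree_mul_le.trans ?_
      rw [hX1]
      have h3 := natDegree_mul_le (p := f) (q := rv f)
      have h4 := natDegree_rv_le f
      omega

/-- the key: the eigenvalues generate extensions of degree prime to `n` -/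
theorem Sit.coprime (S : Sit p B ρ) {K : Type*} [Field K] [Algebra F K] [Algebra.IsAlgebraic F K] {h : H} {μ : Kˣ}
    (hE : Eig (ρ h : V →ₗ[F] V) (μ : K)) {g n : ℕ} (hq : Nat.card F = (p ^ g) ^ n) (hn : Odd n) :
    Nat.Coprime (orderOf ((p ^ g : ℕ) : ZMod (orderOf μ))) n := by
  have hmH := orderOf_dvd_card hE
  have hp : p.Prime := Fact.out
  have hm0 : orderOf μ ≠ 0 := fun h0 => by
    rw [h0, zero_dvd_iff] at hmH
    exact Nat.card_pos.ne' hmH
  have hcopH : ∀ d, d ∣ Nat.card H → (p ^ g).Coprime d := fun d hd =>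
    Nat.Coprime.pow_left g ((Nat.Prime.coprime_iff_not_dvd hp).2 fun h1 => S.cop (h1.trans hd))
  by_contra hcon
  obtain ⟨ℓ, hℓ, hℓ1, hℓ2⟩ := Nat.Prime.not_coprime_iff_dvd.1 hcon
  have hℓn2 : ℓ ≠ 2 := by
    rintro rfl
    exact (Nat.not_even_iff_odd.2 hn) (even_iff_two_dvd.2 hℓ2)
  -- three does not divide `n`
  have hn3 : ¬ 3 ∣ n := by
    rintro ⟨n', rfl⟩
    have h3F : (3 : F) ≠ 0 := by
      intro h1
      apply S.cop
      have h2 : ((3 : ℕ) : F) = 0 := by exact_mod_cast h1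
      exact ((CharP.cast_eq_zero_iff F p _).1 h2).trans S.three
    have h1 : ((p ^ g) ^ n') ^ 2 ≡ 1 [MOD 3] := by
      have h2 := hcopH 3 S.three
      exact modEq_of_dvd (orderOf_dvd_sub_one Nat.prime_three (h2.pow_left n'))
    have h2 : Nat.card F ^ 2 ≡ 1 [MOD 9] := by
      have h3 := modEq_pow_prime_pow h1 1
      rw [hq]
      have h4 : ((p ^ g) ^ (3 * n')) ^ 2 = (((p ^ g) ^ n') ^ 2) ^ 3 ^ 1 := by
        generalize p ^ g = a
        ring
      rw [h4]
      exact h3
    obtain ⟨y, hy, hy9, hy3, P, hP, hPd, hPy⟩ := exists_nine S.two h3F S.symm S.nondeg S.dim h2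
    exact hy3 (S.poly Nat.prime_three (by norm_num) S.three hy (b := 2) (by norm_num; exact hy9) hP hPy hPd)
  have hℓ5 : 5 ≤ ℓ := by
    by_contra h5
    have h6 := hℓ.two_le
    interval_cases ℓ
    · exact hℓn2 rfl
    · exact hn3 hℓ2
    · exact absurd hℓ (by decide)
  obtain ⟨r, b, hr, hb, hrm, hℓr⟩ := exists_prime_pow hℓ hm0 (hcopH _ hmH) hℓ1
  have hrm1 : r ∣ orderOf μ := (dvd_pow_self r (by omega)).trans hrm
  have hrH : r ∣ Nat.card H := hrm1.trans hmH
  have hfin : ∀ c, c ≤ b → ∃ (h' : H) (ν : Kˣ), Eig (ρ h' : V →ₗ[F] V) (ν : K) ∧ orderOf ν = r ^ c := by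
    intro c hc
    have hd : r ^ c ∣ orderOf μ := (pow_dvd_pow r hc).trans hrm
    refine ⟨h ^ (orderOf μ / r ^ c), μ ^ (orderOf μ / r ^ c), ?_, orderOf_pow_orderOf_div hm0 hd⟩
    have h1 := hE.pow (orderOf μ / r ^ c)
    rw [← Units.val_pow_eq_pow_val] at h1
    rw [map_pow]
    have h2 : ((ρ h ^ (orderOf μ / r ^ c) : V ≃ₗ[F] V) : V →ₗ[F] V) = (ρ h : V →ₗ[F] V) ^ (orderOf μ / r ^ c) :=
      map_pow (LinearEquiv.automorphismGroup.toLinearMapMonoidHom) _ _
    rw [h2]
    exact h1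
  rcases dvd_or_eq hℓ hr hb hℓr with h1 | ⟨h1, h2⟩
  · -- `ℓ` divides the order of `q₀` modulo `r`
    have hr1 : ℓ ∣ r - 1 := h1.trans (orderOf_dvd_sub_one hr (hcopH r hrH))
    have hrpos : 0 < r - 1 := by have := hr.two_le; omega
    have hr5 : 5 < r := by
      have := Nat.le_of_dvd hrpos hr1
      omega
    obtain ⟨h', ν, hE', ho⟩ := hfin 1 hb
    obtain ⟨y, P, hy1, hy2, hy3, -, -, hy6⟩ := S.exists_y hE' hr (by omega) ho
    rw [pow_one] at hy2 ho
    have h3 : (minpoly F (ν : K)).natDegree * ℓ ∣ r - 1 :=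
      natDegree_mul_dvd (minpoly.irreducible (Algebra.IsIntegral.isIntegral (R := F) (ν : K)))
        (minpoly.aeval F (ν : K)) hq hℓ2 h1 hr (hcopH r hrH) ho
    set e := (minpoly F (ν : K)).natDegree with he
    have he1 : 0 < e := minpoly.natDegree_pos (Algebra.IsIntegral.isIntegral (R := F) (ν : K))
    have h4 := Nat.le_of_dvd hrpos h3
    have h4' : e * 5 ≤ e * ℓ := Nat.mul_le_mul_left e hℓ5
    have hy : y = 1 := by
      refine S.small hr (by omega) hrH hy1 hy2 ?_
      rcases hy6 with ⟨-, h5⟩ | ⟨h5, -, h6⟩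
      · omega
      · have h7 : 2 * (e * ℓ) ∣ r - 1 := by
          refine Nat.Coprime.mul_dvd_of_dvd_of_dvd ?_ ?_ h3
          · rw [Nat.coprime_two_left]
            exact h5.mul (hℓ.odd_of_ne_two hℓn2)
          · exact (hr.even_sub_one (by omega)).two_dvd
        have h8 := Nat.le_of_dvd hrpos h7
        omega
    have h5 : (ν : K) ^ 1 = 1 := hy3.pow_eq_one (by rw [pow_one, hy])
    rw [pow_one, Units.val_eq_one] at h5
    rw [h5, orderOf_one] at ho
    omega
  · -- `ℓ = r` divides `n`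
    subst h1
    obtain ⟨h', ν, hE', ho⟩ := hfin 2 h2
    obtain ⟨y, P, hy1, hy2, hy3, hy4, hy5, hy6⟩ := S.exists_y hE' hr hℓn2 ho
    have h3 : (minpoly F (ν : K)).natDegree ∣ ℓ - 1 :=
      natDegree_dvd_sub_one (minpoly.irreducible (Algebra.IsIntegral.isIntegral (R := F) (ν : K)))
        (minpoly.aeval F (ν : K)) hq hℓ2 hr (hcopH ℓ hrH) ho
    set e := (minpoly F (ν : K)).natDegree with he
    have hpos : 0 < ℓ - 1 := by omega
    have h4 := Nat.le_of_dvd hpos h3
    have hy : y ^ ℓ = 1 := by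
      refine S.poly hr hℓn2 hrH hy1 hy2 hy4 hy5 ?_
      rcases hy6 with ⟨h5, -⟩ | ⟨h5, h6, -⟩
      · omega
      · have h7 : 2 * e ∣ ℓ - 1 := by
          refine Nat.Coprime.mul_dvd_of_dvd_of_dvd ?_ ?_ h3
          · rw [Nat.coprime_two_left]
            exact h5
          · exact (hr.even_sub_one hℓn2).two_dvd
        have h8 := Nat.le_of_dvd hpos h7
        omega
    have h5 : (ν : K) ^ ℓ = 1 := hy3.pow_eq_one hy
    have h6 : orderOf ν ∣ ℓ := orderOf_dvd_of_pow_eq_one (Units.ext (by rw [Units.val_pow_eq_pow_val, h5, Units.val_one]))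
    rw [ho] at h6
    have h7 := Nat.le_of_dvd (by omega) h6
    nlinarith only [hℓ5, h7]

theorem pow_modEq_pow {q m a b : ℕ} (h : a ≡ b [MOD orderOf ((q : ℕ) : ZMod m)]) : q ^ a ≡ q ^ b [MOD m] := by
  rw [← ZMod.natCast_eq_natCast_iff, Nat.cast_pow, Nat.cast_pow, ← pow_mod_orderOf _ a, h, pow_mod_orderOf]

/-- **Characteristic polynomials of the elements of `H` are fixed by field automorphisms of odd order.** -/
theorem Sit.charpoly_map (S : Sit p B ρ) (σ : F ≃+* F) (hσ : Odd (orderOf σ)) (h : H) :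
    (LinearMap.charpoly (ρ h : V →ₗ[F] V)).map (σ : F →+* F) = LinearMap.charpoly (ρ h : V →ₗ[F] V) := by
  classical
  obtain ⟨g, n, k, hg, hn, hq, hσx⟩ := exists_sigma (p := p) σ hσ
  let K := AlgebraicClosure F
  have hmonic : (LinearMap.charpoly (ρ h : V →ₗ[F] V)).Monic := LinearMap.charpoly_monic _
  have hfac : ∀ f ∈ UniqueFactorizationMonoid.normalizedFactors (LinearMap.charpoly (ρ h : V →ₗ[F] V)),
      f.map (σ : F →+* F) = f := by
    intro f hf
    have hirr := UniqueFactorizationMonoid.irreducible_of_normalized_factor f hf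
    have hdvd := UniqueFactorizationMonoid.dvd_of_mem_normalizedFactors hf
    have hfm : f.Monic := by
      have h1 := UniqueFactorizationMonoid.normalize_normalized_factor f hf
      rw [← h1]
      exact monic_normalize hirr.ne_zero
    obtain ⟨μ, hμ⟩ := IsAlgClosed.exists_aeval_eq_zero K f (degree_pos_of_irreducible hirr).ne'
    have hfmin : f = minpoly F μ := minpoly.eq_of_irreducible_of_monic hirr hμ hfm
    have hE : Eig (ρ h : V →ₗ[F] V) μ := by
      obtain ⟨v, hv0, hv⟩ := exists_ker hirr hdvd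
      exact ⟨v, hv0, by rw [← hfmin]; exact hv⟩
    have hμN : μ ^ Nat.card H = 1 := hE.pow_eq_one (by rw [← map_pow, pow_card_eq_one', map_one])
    have hμ0 : μ ≠ 0 := by
      rintro rfl
      rw [zero_pow Nat.card_pos.ne'] at hμN
      exact zero_ne_one hμN
    let ν : Kˣ := Units.mk0 μ hμ0
    have hcop := S.coprime (h := h) (μ := ν) hE hq hn
    obtain ⟨j, hj⟩ : ∃ j, n * j ≡ k [MOD orderOf ((p ^ g : ℕ) : ZMod (orderOf ν))] := by
      by_cases h0 : orderOf ((p ^ g : ℕ) : ZMod (orderOf ν)) = 0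
      · rw [h0, Nat.coprime_zero_left] at hcop
        exact ⟨k, by rw [hcop, one_mul]⟩
      · obtain ⟨j, -, hj⟩ := Nat.exists_mul_mod_eq_of_coprime k hcop.symm h0
        exact ⟨j, hj⟩
    refine map_eq (p := p) hirr hfm (t := g * k) hσx (μ := ν) hμ (j := j) ?_
    rw [pow_eq_pow_iff_modEq, hq, ← pow_mul (p ^ g) n j, pow_mul p g k]
    exact (pow_modEq_pow hj).symm
  have hprod := UniqueFactorizationMonoid.prod_normalizedFactors_eq hmonic.ne_zero
  rw [hmonic.normalize_eq_self] at hprod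
  rw [← hprod, Polynomial.map_multiset_prod]
  congr 1
  conv_rhs => rw [← Multiset.map_id (UniqueFactorizationMonoid.normalizedFactors (LinearMap.charpoly (ρ h : V →ₗ[F] V)))]
  exact Multiset.map_congr rfl fun f hf => hfac f hf

theorem Sit.trace_map (S : Sit p B ρ) (σ : F ≃+* F) (hσ : Odd (orderOf σ)) (h : H) :
    σ (LinearMap.trace F V (ρ h : V →ₗ[F] V)) = LinearMap.trace F V (ρ h : V →ₗ[F] V) := by
  classical
  let b := Module.finBasis F V
  rw [LinearMap.trace_eq_matrix_trace F b, Matrix.trace_eq_neg_charpoly_nextCoeff, LinearMap.charpoly_toMatrix, map_neg]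
  congr 1
  have h1 := S.charpoly_map σ hσ h
  have h2 := nextCoeff_map (f := (σ : F →+* F)) σ.injective (LinearMap.charpoly (ρ h : V →ₗ[F] V))
  rw [h1] at h2
  exact h2.symm

end Main

end Cfsg.Agent.H340.RV
end

-- part: H485/RV/Row
section
/-!
# The `N`-row for the orthogonal groups (TEAM RV, helper485)

* `exists_two_of_three`: `3'`-subgroups of odd index in `Omega` have a noncentral normal 2-subgroup: the blocks of a
maximal family of orthonormal 4-frames are permuted by `H` (helper556, helper170), so the elements of `H` which are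
scalars `± 1` on the blocks and trivial on the complement form a normal 2-subgroup.
* `traces_fixed`: helper340's theorem on characteristic polynomials for subgroups of `Omega`.
* `nAt_omega`, `nRow_omega`: the row for `POmega F Q`, dimension at least 7 (the case `O_r(H) ≠ 1` is helper556's).
* `nRow_oOdd`, `nRow_oPlus`, `nRow_oMinus`: the three families.
-/

set_option autoImplicit false
set_option linter.unusedSectionVars false

namespace Cfsg.Agent.H485.RV

section blk

open Module QuadraticMap Cfsg.Agent.H167.OP Cfsg.Agent.H170.HL Cfsg.Agent.H170.HL.OmRow Cfsg.Agent.H556.Om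

variable {F : Type} [Field F] {ι : Type} [Fintype ι] [DecidableEq ι] {Q : QuadraticForm F (ι → F)}
  {H : Subgroup (Cfsg.Omega F (⇑Q))} {m : ℕ} {E : Fin m × A4 → ι → F}

/-- the elements of `H` which are scalars on the blocks -/
def Sc (H : Subgroup (Cfsg.Omega F (⇑Q))) (E : Fin m × A4 → ι → F) : Subgroup (Cfsg.Omega F (⇑Q)) where
  carrier := {g | g ∈ H ∧ (∃ s : Fin m → F, (∀ k, s k * s k = 1) ∧ ∀ k, ∀ u ∈ Us E k, rep (inc (⇑Q)) g u = s k • u) ∧
    ∀ u ∈ Wc Q E, rep (inc (⇑Q)) g u = u}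
  one_mem' := ⟨H.one_mem, ⟨fun _ => 1, fun _ => one_mul 1, fun k u _ => by
    rw [map_one, one_smul, Module.End.one_apply]⟩, fun u _ => by rw [map_one, Module.End.one_apply]⟩
  mul_mem' := by
    rintro g h ⟨hg, ⟨s, hs, hgs⟩, hgW⟩ ⟨hh, ⟨t, ht, hht⟩, hhW⟩
    refine ⟨H.mul_mem hg hh, ⟨fun k => s k * t k, fun k => ?_, fun k u hu => ?_⟩, fun u hu => ?_⟩
    · rw [mul_mul_mul_comm, hs, ht, one_mul]
    · rw [map_mul, Module.End.mul_apply, hht k u hu, map_smul, hgs k u hu, smul_smul, mul_comm]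
    · rw [map_mul, Module.End.mul_apply, hhW u hu, hgW u hu]
  inv_mem' := by
    rintro g ⟨hg, ⟨s, hs, hgs⟩, hgW⟩
    have key : ∀ u, rep (inc (⇑Q)) g⁻¹ (rep (inc (⇑Q)) g u) = u := by
      intro u
      rw [← Module.End.mul_apply, ← map_mul, inv_mul_cancel, map_one, Module.End.one_apply]
    refine ⟨H.inv_mem hg, ⟨s, hs, fun k u hu => ?_⟩, fun u hu => ?_⟩
    · have h1 := key (s k • u)
      rw [map_smul, hgs k u hu, smul_smul, hs, one_smul] at h1
      exact h1
    · have h1 := key u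
      rwa [hgW u hu] at h1

theorem sc_isPGroup (h2 : (2 : F) ≠ 0) (hE : Frame (polarBilin Q) E) : IsPGroup 2 (Sc H E) := by
  rintro ⟨g, hg⟩
  refine ⟨1, ?_⟩
  apply Subtype.ext
  show g ^ 2 ^ 1 = 1
  rw [pow_one, pow_two]
  apply rep_inj (Q := Q)
  rw [map_one]
  obtain ⟨s, hs, hgs⟩ := hg.2.1
  refine ext_frame hE h2 (fun j => ?_) fun w hw => ?_
  · obtain ⟨k, a⟩ := j
    rw [map_mul, Module.End.mul_apply, hgs k _ (mem_Us k a), map_smul, hgs k _ (mem_Us k a), smul_smul, hs, one_smul,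
      Module.End.one_apply]
  · rw [map_mul, Module.End.mul_apply, hg.2.2 w hw, hg.2.2 w hw, Module.End.one_apply]

theorem inv_rep (g : Cfsg.Omega F (⇑Q)) (u : ι → F) : rep (inc (⇑Q)) g (rep (inc (⇑Q)) g⁻¹ u) = u := by
  rw [← Module.End.mul_apply, ← map_mul, mul_inv_cancel, map_one, Module.End.one_apply]

theorem rep_inv (g : Cfsg.Omega F (⇑Q)) (u : ι → F) : rep (inc (⇑Q)) g⁻¹ (rep (inc (⇑Q)) g u) = u := by
  rw [← Module.End.mul_apply, ← map_mul, inv_mul_cancel, map_one, Module.End.one_apply]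

theorem wc_inv {g : Cfsg.Omega F (⇑Q)} {τ : Equiv.Perm (Fin m)}
    (hg : ∀ k, (Us E k).map (rep (inc (⇑Q)) g) = Us E (τ k)) {u : ι → F} (hu : u ∈ Wc Q E) :
    rep (inc (⇑Q)) g⁻¹ u ∈ Wc Q E := by
  rintro ⟨k, a⟩
  have h1 : ∀ l, ∀ v ∈ Us E l, polarBilin Q v u = 0 := by
    intro l v hv
    induction hv using Submodule.span_induction with
    | mem v hv =>
      obtain ⟨b, rfl⟩ := hv
      exact hu (l, b)
    | zero => rw [map_zero, LinearMap.zero_apply]
    | add v w _ _ h1 h2 => rw [map_add, LinearMap.add_apply, h1, h2, add_zero]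
    | smul c v _ h1 => rw [map_smul, LinearMap.smul_apply, h1, smul_zero]
  rw [← polar_omega g, inv_rep]
  refine h1 (τ k) _ ?_
  rw [← hg k]
  exact ⟨_, mem_Us k a, rfl⟩

theorem us_inv {g : Cfsg.Omega F (⇑Q)} {τ : Equiv.Perm (Fin m)}
    (hg : ∀ k, (Us E k).map (rep (inc (⇑Q)) g) = Us E (τ k)) {k : Fin m} {u : ι → F} (hu : u ∈ Us E k) :
    rep (inc (⇑Q)) g⁻¹ u ∈ Us E (τ.symm k) := by
  have h1 := hg (τ.symm k)
  rw [Equiv.apply_symm_apply] at h1
  rw [← h1] at hu
  obtain ⟨v, hv, rfl⟩ := hu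
  rw [rep_inv]
  exact hv

/-- **A `3'`-subgroup of odd index has a noncentral normal 2-subgroup.** -/
theorem exists_two_of_three [Finite F] (h : HH Q H) (h7 : 7 ≤ Fintype.card ι) :
    ∃ N : Subgroup (Cfsg.Omega F (⇑Q)), N ≤ H ∧ IsPGroup 2 N ∧ (∀ g ∈ H, ∀ n ∈ N, g * n * g⁻¹ ∈ N) ∧
      ∃ n ∈ N, n ∉ Subgroup.center (Cfsg.Omega F (⇑Q)) := by
  have hfin : Finite (Cfsg.Omega F (⇑Q)) := inferInstance
  obtain ⟨m, E₀, hE₀, hcard, hmax⟩ := exists_max (Q := Q) h.gq.nd h.two
  obtain ⟨E, hE, hR⟩ := h.exists_family hE₀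
  have hm : 0 < m := by omega
  refine ⟨Sc H E, fun g hg => hg.1, sc_isPGroup h.two hE, ?_, ?_⟩
  · rintro g hg n ⟨hn, ⟨s, hs, hns⟩, hnW⟩
    obtain ⟨τ, hτ⟩ := h.exists_perm hE hmax hR hg
    rw [mem_NN] at hτ
    refine ⟨H.mul_mem (H.mul_mem hg hn) (H.inv_mem hg), ⟨fun k => s (τ.symm k), fun k => hs _, fun k u hu => ?_⟩,
      fun u hu => ?_⟩
    · rw [map_mul, map_mul, Module.End.mul_apply, Module.End.mul_apply, hns _ _ (us_inv hτ hu), map_smul, inv_rep]
    · rw [map_mul, map_mul, Module.End.mul_apply, Module.End.mul_apply, hnW _ (wc_inv hτ hu), inv_rep]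
  · -- `- 1` on the first block
    let k0 : Fin m := ⟨0, hm⟩
    have hF0 := Ek_frame hE k0
    have h01 : ((0, 0) : A4) ≠ (0, 1) := by decide
    have h23 : ((1, 0) : A4) ≠ (1, 1) := by decide
    obtain ⟨x, hx⟩ := exists_sg h.gq h.two hF0 h01
    obtain ⟨y, hy⟩ := exists_sg h.gq h.two hF0 h23
    have hxR : x ∈ RG Q (Ek E k0) := Subgroup.subset_closure (Or.inr ⟨_, _, h01, hx⟩)
    have hyR : y ∈ RG Q (Ek E k0) := Subgroup.subset_closure (Or.inr ⟨_, _, h23, hy⟩)
    have hxy : rep (inc (⇑Q)) (x * y) = mono (polarBilin Q) (Ek E k0) (fun _ => -1) id := by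
      rw [map_mul, hx, hy, mono_mul hF0 h.two]
      congr 1
      funext a
      have h8 : ∀ a : A4, (a = (1, 0) ∨ a = (1, 1)) ↔ ¬ (a = (0, 0) ∨ a = (0, 1)) := by decide
      simp only [sg, id]
      by_cases h9 : a = (0, 0) ∨ a = (0, 1)
      · rw [if_neg (fun h => (h8 a).1 h h9), if_pos h9, one_mul]
      · rw [if_pos ((h8 a).2 h9), if_neg h9, mul_one]
    have horth : ∀ u, (∀ a, polarBilin Q (Ek E k0 a) u = 0) → rep (inc (⇑Q)) (x * y) u = u := by
      intro u hu
      rw [hxy, mono_orth hu]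
    have hneg : ∀ u ∈ Us E k0, rep (inc (⇑Q)) (x * y) u = - u := by
      intro u hu
      induction hu using Submodule.span_induction with
      | mem v hv =>
        obtain ⟨b, rfl⟩ := hv
        rw [hxy, mono_e hF0 h.two, neg_one_smul]
        rfl
      | zero => rw [map_zero, neg_zero]
      | add v w _ _ h1 h2 => rw [map_add, h1, h2, neg_add]
      | smul c v _ h1 => rw [map_smul, h1, smul_neg]
    refine ⟨x * y, ⟨hR k0 ((RG Q (Ek E k0)).mul_mem hxR hyR), ⟨fun k => if k = k0 then -1 else 1, fun k => ?_,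
      fun k u hu => ?_⟩, fun u hu => horth u fun a => hu (k0, a)⟩, ?_⟩
    · dsimp only
      split_ifs <;> norm_num
    · dsimp only
      split_ifs with hk
      · subst hk
        rw [hneg u hu, neg_one_smul]
      · rw [one_smul]
        exact horth u fun a => Us_orth hE (Ne.symm hk) (mem_Us k0 a) hu
    · intro hc
      have h4 := (Cfsg.Agent.LieClassical.OmegaCenter.mem_center_omega_iff Q h.gq.nd h.gq.card h.gq.sing _).mp hc
      have h4' : inc (⇑Q) (x * y) = 1 ∨ inc (⇑Q) (x * y) = -1 := h4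
      have key : ∀ u : ι → F, u = -u → u = 0 := by
        intro u hu
        have h5 : (2 : F) • u = 0 := by
          rw [two_smul]
          nth_rewrite 2 [hu]
          exact add_neg_cancel u
        exact (smul_eq_zero.1 h5).resolve_left h.two
      rcases h4' with h5 | h5
      · have h6 : rep (inc (⇑Q)) (x * y) (E (k0, (0, 0))) = E (k0, (0, 0)) := by
          rw [rep_apply, h5, Matrix.one_mulVec]
        rw [hneg _ (mem_Us k0 _)] at h6
        have h8 := hE.self (k0, (0, 0))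
        rw [key _ h6.symm, map_zero] at h8
        exact h.two h8.symm
      · obtain ⟨w, hw, hw0⟩ := exists_next (Q := Q) h.gq.nd h.two (x := Ek E k0) (fun j => by
          rw [hF0.self]; exact h.two) hF0.orth (by
            have : Fintype.card A4 = 4 := rfl
            omega)
        have h6 : rep (inc (⇑Q)) (x * y) w = - w := by
          rw [rep_apply, h5, Matrix.neg_mulVec, Matrix.one_mulVec]
        rw [horth w hw] at h6
        apply hw0
        rw [key _ h6, map_zero]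

end blk

section rows

open Module QuadraticMap Cfsg.Agent.H167.OP Cfsg.Agent.H170.HL Cfsg.Agent.H170.HL.OmRow Cfsg.Agent.H556.Om
open Cfsg.Agent.AutOrth Cfsg.Agent.AutOrth.Main Cfsg.Agent.LieClassical.OrthTrans
open Cfsg

universe u

variable {F : Type} [Field F] {ι : Type} [Fintype ι] [DecidableEq ι] {Q : QuadraticForm F (ι → F)}

/-- a noncentral normal 2-subgroup -/
def NTwo (H : Subgroup (Cfsg.Omega F (⇑Q))) : Prop :=
  ∃ N : Subgroup (Cfsg.Omega F (⇑Q)), N ≤ H ∧ IsPGroup 2 N ∧ (∀ g ∈ H, ∀ n ∈ N, g * n * g⁻¹ ∈ N) ∧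
    ∃ n ∈ N, n ∉ Subgroup.center (Cfsg.Omega F (⇑Q))

/-! ### traces -/

/-- the homomorphism to linear automorphisms -/
noncomputable def ro (Q : QuadraticForm F (ι → F)) : Cfsg.Omega F (⇑Q) →* ((ι → F) ≃ₗ[F] (ι → F)) :=
  (Cfsg.Agent.LieClassical.OrthFinite.isometryHom Q).comp (Cfsg.Omega F (⇑Q)).subtype

theorem ro_injective : Function.Injective (ro Q) :=
  (Cfsg.Agent.LieClassical.OrthFinite.isometryHom_injective Q).comp Subtype.val_injective

/-- isometries of odd order lie in `Omega` -/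
theorem exists_ro (hQ : GoodQ Q) (h2 : (2 : F) ≠ 0) {y : (ι → F) ≃ₗ[F] (ι → F)}
    (hy : ∀ u v, polarBilin Q (y u) (y v) = polarBilin Q u v) {t : ℕ} (ht : Odd t) (hyt : y ^ t = 1) :
    ∃ g : Cfsg.Omega F (⇑Q), ro Q g = y := by
  have h1 : ∀ v, Q (y v) = Q v := by
    intro v
    have h3 := hy v v
    rw [two_Q, two_Q] at h3
    exact mul_left_cancel₀ h2 h3
  obtain ⟨g, hg⟩ := (Cfsg.Agent.LieClassical.OrthFinite.isometryEquiv Q).surjective ⟨y, h1⟩
  have hg' : Cfsg.Agent.LieClassical.OrthFinite.isometryHom Q g = y := congrArg Subtype.val hg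
  have h3 : g ^ t = 1 := by
    apply Cfsg.Agent.LieClassical.OrthFinite.isometryHom_injective Q
    rw [map_pow, hg', hyt, map_one]
  exact ⟨⟨g, mem_omega_of_odd hQ ht h3⟩, hg'⟩

seal _root_.Equiv.swap in
theorem exists_three [Finite F] (hQ : GoodQ Q) (h2 : (2 : F) ≠ 0) (h7 : 7 ≤ Fintype.card ι) :
    ∃ y : Cfsg.Omega F (⇑Q), orderOf y = 3 := by
  have hF0 : Frame (polarBilin Q) (fun i : Empty => (i.elim : ι → F)) := ⟨fun i => i.elim, fun i => i.elim⟩
  obtain ⟨e, hF, -⟩ := exists_frames hQ.nd h2 hF0 (Fintype.card ι - 1) (by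
    rw [Fintype.card_eq_zero]; omega)
  let a : Fin (Fintype.card ι - 1) := ⟨0, by omega⟩
  let b : Fin (Fintype.card ι - 1) := ⟨1, by omega⟩
  let c : Fin (Fintype.card ι - 1) := ⟨2, by omega⟩
  have hab : a ≠ b := fun h => absurd (congrArg Fin.val h) (by simp [a, b])
  have hac : a ≠ c := fun h => absurd (congrArg Fin.val h) (by simp [a, c])
  have hbc : b ≠ c := fun h => absurd (congrArg Fin.val h) (by simp [b, c])
  have h3 := Equiv.Perm.isThreeCycle_swap_mul_swap_same hab hac hbc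
  set σ := Equiv.swap a b * Equiv.swap a c with hσ
  have hσ3 : σ ^ 3 = 1 := by rw [← h3.orderOf, pow_orderOf_eq_one]
  obtain ⟨g, hg⟩ := exists_perm hQ h2 hF h3.sign
  have := Fact.mk Nat.prime_three
  refine ⟨g, orderOf_eq_prime ?_ ?_⟩
  · apply rep_inj (Q := Q)
    simp only [pow_succ g 2, pow_two g, map_mul (rep (inc ⇑Q)) (g * g) g, map_mul (rep (inc ⇑Q)) g g, hg, mono_mul hF h2, mono_mul hF h2, map_one]
    refine mono_one hF h2 (fun j => by simp) fun j => ?_
    have h4 := congrArg (fun τ : Equiv.Perm _ => τ j) hσ3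
    exact h4
  · intro h0
    rw [h0, map_one] at hg
    have hne : σ ≠ 1 := by
      intro h
      have := h3.orderOf
      rw [h, orderOf_one] at this
      omega
    obtain ⟨j, hj⟩ : ∃ j, σ j ≠ j := by
      by_contra hcon
      push Not at hcon
      exact hne (Equiv.ext hcon)
    have h4 := congrArg (fun T : Module.End F (ι → F) => T (e j)) hg
    simp only [Module.End.one_apply, mono_e hF h2, one_smul] at h4
    have h5 := hF.orth _ _ hj
    rw [← h4, hF.self] at h5
    exact h2 h5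

/-- helper340's theorem for subgroups of `Omega` -/
theorem traces_fixed [Finite F] (hQ : GoodQ Q) (h2 : (2 : F) ≠ 0) (h7 : 7 ≤ Fintype.card ι) {p : ℕ} [CharP F p]
    (hp : p.Prime) {H : Subgroup (Cfsg.Omega F (⇑Q))} (hcard : (Nat.card H : F) ≠ 0)
    (hall : ∀ r : ℕ, r.Prime → r ≠ 2 → (r = 3 ∨ r ∣ Nat.card H) → ∀ (y : Cfsg.Omega F (⇑Q)) (n : ℕ), y ^ r ^ n = 1 →
      ∃ c : Cfsg.Omega F (⇑Q), c * y * c⁻¹ ∈ H)
    (hr : ∀ r : ℕ, r.Prime → r ≠ 2 → Cfsg.pCore r H = ⊥) (σ : F ≃+* F) (hσ : Odd (orderOf σ)) (h : Cfsg.Omega F (⇑Q))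
    (hh : h ∈ H) :
    σ (LinearMap.trace F (ι → F) (rep (inc (⇑Q)) h)) = LinearMap.trace F (ι → F) (rep (inc (⇑Q)) h) := by
  have hfin : Finite (Cfsg.Omega F (⇑Q)) := inferInstance
  have := Fact.mk hp
  have S : H340.RV.Sit p (polarBilin Q) ((ro Q).comp H.subtype) :=
    { two := h2
      symm := fun u v => polar_symm u v
      nondeg := fun v hv => hQ.nd.1 v hv
      dim := by rw [Module.finrank_fintype_fun_eq_card]; omega
      inj := ro_injective.comp Subtype.val_injective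
      iso := fun h u v => polar_omega (h : Cfsg.Omega F (⇑Q)) u v
      cop := fun hd => hcard ((CharP.cast_eq_zero_iff F p _).2 hd)
      three := by
        obtain ⟨y, hy⟩ := exists_three hQ h2 h7
        obtain ⟨c, hc⟩ := hall 3 Nat.prime_three (by norm_num) (Or.inl rfl) y 1 (by
          rw [pow_one, ← hy, pow_orderOf_eq_one])
        have h3 : orderOf (⟨c * y * c⁻¹, hc⟩ : H) = 3 := by
          rw [Subgroup.orderOf_mk, ← hy]
          exact (MulEquiv.orderOf_eq (MulAut.conj c) y)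
        rw [← h3]
        exact orderOf_dvd_natCard _
      hall := by
        rintro r hr0 hr2 hr3 y hy ⟨n, hyn⟩
        obtain ⟨g, rfl⟩ := exists_ro hQ h2 hy ((hr0.odd_of_ne_two hr2).pow (n := n)) hyn
        have hgn : g ^ r ^ n = 1 := ro_injective (by rw [map_pow, hyn, map_one])
        obtain ⟨c, hc⟩ := hall r hr0 hr2 (Or.inr hr3) g n hgn
        refine ⟨ro Q c, ⟨_, hc⟩, ?_⟩
        show ro Q (c * g * c⁻¹) = _
        simp only [map_mul, map_mul, map_inv]
      core := hr }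
  exact S.trace_map σ hσ ⟨h, hh⟩

section frame

variable {J : Type*} [Fintype J] [DecidableEq J] {e : J → ι → F}

/-- the diagonal 2-group of a frame -/
def DG (h2 : (2 : F) ≠ 0) (hF : Frame (polarBilin Q) e) : Subgroup (Cfsg.Omega F (⇑Q)) where
  carrier := {x | ∃ s : J → F, (∀ j, s j * s j = 1) ∧ rep (inc (⇑Q)) x = mono (polarBilin Q) e s id}
  one_mem' := ⟨fun _ => 1, fun _ => one_mul 1, by
    rw [map_one]
    exact (mono_one hF h2 (fun _ => rfl) fun j => rfl).symm⟩
  mul_mem' := by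
    rintro x y ⟨s, hs, hx⟩ ⟨t, ht, hy⟩
    refine ⟨fun j => t j * s j, fun j => ?_, ?_⟩
    · rw [mul_mul_mul_comm, hs, ht, one_mul]
    · rw [map_mul, hx, hy, mono_mul hF h2]
      rfl
  inv_mem' := by
    rintro x ⟨s, hs, hx⟩
    refine ⟨s, hs, ?_⟩
    have h3 : mono (polarBilin Q) e s id * rep (inc (⇑Q)) x = 1 := by
      rw [hx, mono_mul hF h2]
      exact mono_one hF h2 (fun j => hs j) fun j => rfl
    have h4 : rep (inc (⇑Q)) x * rep (inc (⇑Q)) x⁻¹ = 1 := by rw [← map_mul, mul_inv_cancel, map_one]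
    calc rep (inc (⇑Q)) x⁻¹ = (mono (polarBilin Q) e s id * rep (inc (⇑Q)) x) * rep (inc (⇑Q)) x⁻¹ := by
          rw [h3, one_mul]
      _ = _ := by rw [mul_assoc, h4, mul_one]

theorem DG_isPGroup (h2 : (2 : F) ≠ 0) (hF : Frame (polarBilin Q) e) : IsPGroup 2 (DG h2 hF) := by
  rintro ⟨x, s, hs, hx⟩
  refine ⟨1, Subtype.ext ?_⟩
  show x ^ 2 ^ 1 = 1
  rw [pow_one, pow_two]
  apply rep_inj
  rw [map_mul, hx, mono_mul hF h2, map_one]
  exact mono_one hF h2 (fun j => hs j) fun j => rfl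

theorem sg_mem_DG (h2 : (2 : F) ≠ 0) (hF : Frame (polarBilin Q) e) {j k : J} {x : Cfsg.Omega F (⇑Q)}
    (hx : rep (inc (⇑Q)) x = mono (polarBilin Q) e (H556.Om.sg F j k) id) : x ∈ DG h2 hF :=
  ⟨_, fun i => by
    simp only [H556.Om.sg]
    split_ifs <;> norm_num, hx⟩

end frame

theorem exists_conj_r {G : Type*} [Group G] [Finite G] {K : Subgroup G} {r : ℕ} (hr : r.Prime) (hK : ¬ r ∣ K.index)
    {x : G} {n : ℕ} (hx : x ^ r ^ n = 1) : ∃ c : G, c * x * c⁻¹ ∈ K := by
  have := Fact.mk hr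
  have h1 : IsPGroup r (Subgroup.zpowers x) := by
    rintro ⟨y, hy⟩
    obtain ⟨k, rfl⟩ := hy
    refine ⟨n, ?_⟩
    apply Subtype.ext
    rw [Subgroup.coe_pow, Subgroup.coe_one]
    show (x ^ k) ^ r ^ n = 1
    rw [← zpow_natCast, ← zpow_mul, mul_comm, zpow_mul, zpow_natCast, hx, one_zpow]
  have h2 : ¬ r ∣ Nat.card (G ⧸ K) := hK
  obtain ⟨a, ha⟩ := h1.nonempty_fixed_point_of_prime_not_dvd_card (G ⧸ K) h2
  obtain ⟨c, rfl⟩ := QuotientGroup.mk_surjective a
  refine ⟨c⁻¹, ?_⟩
  have h3 := ha ⟨x, Subgroup.mem_zpowers x⟩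
  have h4 : (QuotientGroup.mk (x * c) : G ⧸ K) = QuotientGroup.mk c := h3
  rw [QuotientGroup.eq] at h4
  have h5 := K.inv_mem h4
  simpa only [mul_assoc, _root_.inv_inv, _root_.mul_inv_rev] using h5

section row

variable [Finite F] {S : Type u} [Group S] [Finite S]

/-- the projection -/
def pr (e : S ≃* Cfsg.POmega F (⇑Q)) : Cfsg.Omega F (⇑Q) →* S :=
  ((e.symm : Cfsg.POmega F (⇑Q) →* S).comp (QuotientGroup.mk' (Subgroup.center (Cfsg.Omega F (⇑Q)))) :)

theorem pr_surjective (e : S ≃* Cfsg.POmega F (⇑Q)) : Function.Surjective (pr e) :=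
  e.symm.surjective.comp (QuotientGroup.mk'_surjective _)

theorem pr_apply (e : S ≃* Cfsg.POmega F (⇑Q)) (g : Cfsg.Omega F (⇑Q)) : e (pr e g) = QuotientGroup.mk g :=
  e.apply_symm_apply _

seal _root_.Finset.sum _root_.dotProduct in
theorem pr_eq_one (e : S ≃* Cfsg.POmega F (⇑Q)) {g : Cfsg.Omega F (⇑Q)} :
    pr e g = 1 ↔ g ∈ Subgroup.center (Cfsg.Omega F (⇑Q)) := by
  rw [← QuotientGroup.eq_one_iff, ← pr_apply e]
  constructor
  · intro h; rw [h, map_one]
  · intro h; exact e.injective (h.trans (map_one e).symm)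

theorem mul_self_of_pr (hQ : GoodQ Q) (e : S ≃* Cfsg.POmega F (⇑Q)) {k : Cfsg.Omega F (⇑Q)} (h : pr e k = 1) :
    k * k = 1 := by
  have h1 := (Cfsg.Agent.LieClassical.OmegaCenter.mem_center_omega_iff Q hQ.nd hQ.card hQ.sing k).mp
    ((pr_eq_one e).1 h)
  apply inc_injective
  rw [map_mul, map_one]
  have h1' : inc (⇑Q) k = 1 ∨ inc (⇑Q) k = -1 := h1
  rcases h1' with h | h
  · rw [h, one_mul]
  · rw [h, neg_mul_neg, one_mul]

variable {π : Set ℕ}

theorem hall_comap (hQ : GoodQ Q) (e : S ≃* Cfsg.POmega F (⇑Q)) (h2π : 2 ∈ π) {H : Subgroup S} (hH : IsPiHall π H) :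
    IsPiHall π (H.comap (pr e)) := by
  have hfin : Finite (Cfsg.Omega F (⇑Q)) := inferInstance
  constructor
  · intro r hr hd
    have := Fact.mk hr
    obtain ⟨x, hx⟩ := exists_prime_orderOf_dvd_card' (G := H.comap (pr e)) r hd
    by_cases h1 : pr e (x : Cfsg.Omega F (⇑Q)) = 1
    · have h3 : x * x = 1 := Subtype.ext (mul_self_of_pr hQ e h1)
      have h4 : r ∣ 2 := by
        rw [← hx]
        exact orderOf_dvd_of_pow_eq_one (by rw [pow_two]; exact h3)
      rw [(Nat.prime_dvd_prime_iff_eq hr Nat.prime_two).mp h4]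
      exact h2π
    · apply hH.1 r hr
      let z : H := ⟨pr e x, x.2⟩
      have h3 : z ^ r = 1 := by
        apply Subtype.ext
        show (pr e x) ^ r = 1
        rw [← map_pow]
        have : x ^ r = 1 := by rw [← hx, pow_orderOf_eq_one]
        have h4 : (x : Cfsg.Omega F (⇑Q)) ^ r = 1 := congrArg Subtype.val this
        rw [h4, map_one]
      have h4 : orderOf z = r := orderOf_eq_prime h3 fun h => h1 (congrArg Subtype.val h)
      rw [← h4]
      exact orderOf_dvd_natCard z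
  · intro r hr hrπ hd
    rw [Subgroup.index_comap_of_surjective H (pr_surjective e)] at hd
    exact hH.2 r hr hrπ hd

theorem nAt_of_NTwo (e : S ≃* Cfsg.POmega F (⇑Q)) {H : Subgroup S} (h : NTwo (H.comap (pr e))) : H165.RV.NAt H := by
  obtain ⟨N, hN, h2, hn, n, hnN, hnc⟩ := h
  refine H165.RV.NAt.of_isPGroup (N := N.map (pr e)) ?_ ?_ (h2.map _) ?_
  · intro h0
    have h1 : pr e n ∈ N.map (pr e) := ⟨n, hnN, rfl⟩
    rw [h0, Subgroup.mem_bot, pr_eq_one] at h1
    exact hnc h1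
  · rintro _ ⟨x, hx, rfl⟩
    exact hN hx
  · rintro h hh _ ⟨x, hx, rfl⟩
    obtain ⟨g, rfl⟩ := pr_surjective e h
    exact ⟨g * x * g⁻¹, hn g hh x hx, by simp only [map_mul, map_mul, map_inv]⟩

theorem norm_map_pCore {G : Type*} {S : Type*} [Group G] [Group S] (f : G →* S) (hf : Function.Surjective f)
    (H : Subgroup S) (r : ℕ) : ∀ h ∈ H, ∀ b ∈ (Cfsg.pCore r (H.comap f)).map (f.comp (H.comap f).subtype),
      h * b * h⁻¹ ∈ (Cfsg.pCore r (H.comap f)).map (f.comp (H.comap f).subtype) := by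
  rintro h hh _ ⟨x, hx, rfl⟩
  obtain ⟨g, rfl⟩ := hf h
  have hn : (Cfsg.pCore r (H.comap f)).Normal := inferInstance
  refine ⟨(⟨g, hh⟩ * x * ⟨g, hh⟩⁻¹ :), hn.conj_mem x hx ⟨g, hh⟩, ?_⟩
  simp only [_root_.MonoidHom.coe_comp, _root_.Subgroup.coe_subtype, _root_.Function.comp_apply, _root_.Subgroup.coe_mul, _root_.InvMemClass.coe_inv, _root_.map_mul, _root_.map_inv]

/-- **The `N`-row for `POmega`.** -/
theorem nAt_omega (hG : Good Q) (hQ : GoodQ Q) {p : ℕ} [CharP F p] (hp : p.Prime)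
    (hpπ : p ∉ π) (h2π : 2 ∈ π) (h7 : 7 ≤ Fintype.card ι) (e : S ≃* Cfsg.POmega F (⇑Q)) {H : Subgroup S}
    (hH : IsPiHall π H) : H165.RV.NAt H := by
  have hfin : Finite (Cfsg.Omega F (⇑Q)) := inferInstance
  have h2 : (2 : F) ≠ 0 := by
    intro h
    have h1 : ((2 : ℕ) : F) = 0 := by exact_mod_cast h
    rw [CharP.cast_eq_zero_iff F p, Nat.prime_dvd_prime_iff_eq hp Nat.prime_two] at h1
    exact hpπ (h1 ▸ h2π)
  have hK := hall_comap hQ e h2π hH
  have hidx : ¬ 2 ∣ (H.comap (pr e)).index := hK.2 2 Nat.prime_two h2π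
  have hcard : (Nat.card (H.comap (pr e)) : F) ≠ 0 := by
    intro h0
    rw [CharP.cast_eq_zero_iff F p] at h0
    exact hpπ (hK.1 p hp h0)
  by_cases h3π : 3 ∈ π
  swap
  · have hHH : HH Q (H.comap (pr e)) :=
      { gq := hQ
        two := h2
        claim := claimAll F ι Q h2 hQ
        idx := hidx
        three := fun hd => h3π (hK.1 3 Nat.prime_three hd)
        card := hcard }
    exact nAt_of_NTwo e (exists_two_of_three hHH h7)
  by_cases hr : ∀ r : ℕ, r.Prime → r ≠ 2 → Cfsg.pCore r (H.comap (pr e)) = ⊥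
  swap
  · push Not at hr
    obtain ⟨r, hr, hr2, hR0⟩ := hr
    have := Fact.mk hr
    have hRr : IsPGroup r (Cfsg.pCore r (H.comap (pr e))) := Cfsg.Agent.OddOrderLocal.PLengthOne.isPGroup_pCore r
    have hnm : (Cfsg.pCore r (H.comap (pr e))).Normal := inferInstance
    refine H556.OddCore.nAt_of_odd hp h2 hQ (by omega) rfl e (H := H) (hH.2 2 Nat.prime_two h2π)
      (fun hd => hpπ (hH.1 p hp hd)) hr hr2
      (B := (Cfsg.pCore r (H.comap (pr e))).map ((pr e).comp (H.comap (pr e)).subtype)) ?_ ?_ (hRr.map _) ?_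
    · rintro _ ⟨x, -, rfl⟩
      exact x.2
    · intro h0
      apply hR0
      rw [eq_bot_iff]
      intro x hx
      have h3 : pr e x ∈ (Cfsg.pCore r (H.comap (pr e))).map ((pr e).comp (H.comap (pr e)).subtype) := ⟨x, hx, rfl⟩
      rw [h0, Subgroup.mem_bot] at h3
      have h4 : x * x = 1 := Subtype.ext (mul_self_of_pr hQ e h3)
      obtain ⟨k, hk⟩ := hRr ⟨x, hx⟩
      have hk' : x ^ r ^ k = 1 := congrArg Subtype.val hk
      rw [Subgroup.mem_bot, ← orderOf_eq_one_iff]
      have h5 : orderOf x ∣ 2 := orderOf_dvd_of_pow_eq_one (by rw [pow_two]; exact h4)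
      have h6 : orderOf x ∣ r ^ k := orderOf_dvd_of_pow_eq_one hk'
      have h8 : Nat.Coprime 2 (r ^ k) := Nat.Coprime.pow_right _ ((Nat.coprime_primes Nat.prime_two hr).2 (Ne.symm hr2))
      exact Nat.eq_one_of_dvd_coprimes h8 h5 h6
    · exact norm_map_pCore (pr e) (pr_surjective e) H r
  have htr := traces_fixed hQ h2 h7 hp hcard ?_ hr
  swap
  · intro r hr hr2 hr3 y n hy
    have hrπ : r ∈ π := by
      rcases hr3 with rfl | hd
      · exact h3π
      · exact hK.1 r hr hd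
    exact exists_conj_r hr (hK.2 r hr hrπ) hy
  intro P hP φ hφ hfix
  -- the frame
  have hn : 7 ≤ Fintype.card ι := h7
  have hF0 : Frame (polarBilin Q) (fun i : Empty => (i.elim : ι → F)) := ⟨fun i => i.elim, fun i => i.elim⟩
  obtain ⟨e₀, hF₀, -⟩ := exists_frames hQ.nd h2 hF0 (Fintype.card ι - 1) (by
    rw [Fintype.card_eq_zero]; omega)
  obtain ⟨w₀, hw₀, hw₀0⟩ := exists_next hQ.nd h2 (x := e₀) (fun j => by rw [hF₀.self]; exact h2) hF₀.orth (by
    rw [Fintype.card_fin]; omega)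
  have : Fact (Nat.Prime 2) := ⟨Nat.prime_two⟩
  obtain ⟨c, hc⟩ := exists_conj (H := (P : Subgroup S)) P.not_dvd_index ((DG_isPGroup h2 hF₀).map (pr e))
  obtain ⟨g₀, rfl⟩ := pr_surjective e c
  have hF : Frame (polarBilin Q) (fun j => rep (inc (⇑Q)) g₀ (e₀ j)) := hF₀.map (polar_omega g₀)
  have hw : ∀ j, polarBilin Q (rep (inc (⇑Q)) g₀ (e₀ j)) (rep (inc (⇑Q)) g₀ w₀) = 0 := fun j => by
    rw [polar_omega, hw₀]
  have hw0 : polarBilin Q (rep (inc (⇑Q)) g₀ w₀) (rep (inc (⇑Q)) g₀ w₀) ≠ 0 := by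
    rw [polar_omega]; exact hw₀0
  have hcJ : Fintype.card (Fin (Fintype.card ι - 1)) + 1 = Fintype.card ι := by
    rw [Fintype.card_fin]; omega
  have hPg : ∀ j k, j ≠ k → ∀ g : Cfsg.Omega F (⇑Q),
      rep (inc (⇑Q)) g = mono (polarBilin Q) (fun j => rep (inc (⇑Q)) g₀ (e₀ j)) (H556.Om.sg F j k) id →
      pr e g ∈ P := by
    intro j k hjk g hg
    have h3 := sg_mem_DG h2 hF₀ (conj_mono hg)
    have h4 := hc _ ⟨_, h3, rfl⟩
    have h5 : pr e g₀ * pr e (g₀⁻¹ * g * g₀) * (pr e g₀)⁻¹ = pr e g := by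
      rw [← map_inv, ← map_mul, ← map_mul]
      congr 1
      group
    rw [h5] at h4
    exact h4
  let α : MulAut (Cfsg.POmega F (⇑Q)) := MulAut.congr e φ
  have hα : ∀ g, α (QuotientGroup.mk g) = e (φ (pr e g)) := fun g => by
    show e (φ (e.symm _)) = _
    rw [← pr_apply e, MulEquiv.symm_apply_apply]
  have hαo : Odd (orderOf α) := by
    have : orderOf α = orderOf φ := MulEquiv.orderOf_eq (MulAut.congr e) φ
    rwa [this]
  have hαfix : ∀ j k, j ≠ k → ∀ g : Cfsg.Omega F (⇑Q),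
      rep (inc (⇑Q)) g = mono (polarBilin Q) (fun j => rep (inc (⇑Q)) g₀ (e₀ j)) (H556.Om.sg F j k) id →
      α (QuotientGroup.mk g) = QuotientGroup.mk g := by
    intro j k hjk g hg
    rw [hα, hfix _ (hPg j k hjk g hg), pr_apply]
  have hI : Ind (⇑Q) α := ind_of_frame hG hQ h7 h2 hF hw hw0 hcJ hαfix
  have key : ∀ h ∈ H, φ h = h := by
    intro h hh
    obtain ⟨g, rfl⟩ := pr_surjective e h
    have h3 := fix_of_frame hG hQ h2 hF hw hw0 hcJ (by rw [Fintype.card_fin]; omega) (H := H.comap (pr e))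
      (fun j k hjk g hg => hP (hPg j k hjk g hg)) htr hαo hI hαfix (h := g) hh
    rw [hα, ← pr_apply e] at h3
    exact e.injective h3
  have hHne : H ≠ ⊥ := by
    intro h0
    have h3 : (P : Subgroup S) = ⊥ := by
      rw [eq_bot_iff]
      exact hP.trans h0.le
    have hjk : (⟨0, by omega⟩ : Fin (Fintype.card ι - 1)) ≠ ⟨1, by omega⟩ := by
      intro h; exact absurd (congrArg Fin.val h) (by norm_num)
    obtain ⟨g, hg⟩ := exists_sg hQ h2 hF hjk
    have h5 := hPg _ _ hjk g hg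
    have h6 : pr e g = 1 := by
      have h7 : pr e g ∈ (P : Subgroup S) := h5
      rwa [h3, Subgroup.mem_bot] at h7
    have hsg := isSg_of h2 hF hw hg
    have h8 := (Cfsg.Agent.LieClassical.OmegaCenter.mem_center_omega_iff Q hQ.nd hQ.card hQ.sing _).mp
      ((pr_eq_one e).1 h6)
    have h8' : inc (⇑Q) g = 1 ∨ inc (⇑Q) g = -1 := h8
    have key2 : ∀ u : ι → F, u = -u → u = 0 := by
      intro u hu
      have h5 : (2 : F) • u = 0 := by
        rw [two_smul]
        nth_rewrite 2 [hu]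
        exact add_neg_cancel u
      exact (smul_eq_zero.1 h5).resolve_left h2
    have hne : ∀ j, rep (inc (⇑Q)) g₀ (e₀ j) ≠ 0 := by
      intro j h0
      have h9 := hF.self j
      simp only [h0, map_zero] at h9
      exact h2 h9.symm
    rcases h8' with h9 | h9
    · have h10 := hsg (some ⟨0, by omega⟩)
      rw [if_pos (Or.inl rfl), rep_apply, h9, Matrix.one_mulVec] at h10
      exact hne _ (key2 _ h10)
    · have h10 := hsg (some ⟨2, by omega⟩)
      rw [if_neg (by simp only [_root_.Option.some.injEq, _root_.Fin.mk.injEq, _root_.OfNat.ofNat_ne_zero, _root_.OfNat.ofNat_ne_one, _root_.or_self, _root_.not_false_eq_true]), rep_apply, h9, Matrix.neg_mulVec, Matrix.one_mulVec] at h10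
      exact hne _ (key2 _ h10.symm)
  refine ⟨H, hHne, le_rfl, fun h hh n hn => H.mul_mem (H.mul_mem hh hn) (H.inv_mem hh), ?_⟩
  ext x
  constructor
  · rintro ⟨y, hy, rfl⟩
    have : (φ : S ≃* S).toMonoidHom y = y := key y hy
    rw [this]; exact hy
  · intro hx
    exact ⟨x, hx, key x hx⟩

theorem nRow_omega (hG : Good Q) (hQ : GoodQ Q) {p : ℕ} [CharP F p] (hp : p.Prime)
    (hpπ : p ∉ π) (h2π : 2 ∈ π) (h7 : 7 ≤ Fintype.card ι) {Q' : (ι → F) → F} (hQQ : ⇑Q = Q')
    (e : S ≃* Cfsg.POmega F Q') : H165.RV.NRow π S := by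
  subst hQQ
  exact fun H hH => nAt_omega hG hQ hp hpπ h2π h7 e hH

end row

/-! ### the three families -/

section families

variable {S : Type u} [Group S] [Finite S] {π : Set ℕ}

theorem two_ne_zero_of {F : Type} [Field F] {p : ℕ} [CharP F p] (hp : p.Prime) (hpπ : p ∉ π) (h2π : 2 ∈ π) :
    (2 : F) ≠ 0 := by
  intro h
  have h1 : ((2 : ℕ) : F) = 0 := by exact_mod_cast h
  rw [CharP.cast_eq_zero_iff F p, Nat.prime_dvd_prime_iff_eq hp Nat.prime_two] at h1
  exact hpπ (h1 ▸ h2π)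

theorem nRow_oOdd {p : ℕ} (hp : p.Prime) (hpπ : p ∉ π) (h2π : 2 ∈ π) (hG : IsPOmegaOddChar p S) :
    H165.RV.NRow π S := by
  obtain ⟨F, _, _, hchar, m, hm, hoddF, ⟨e⟩⟩ := hG
  have h2 : (2 : F) ≠ 0 := two_ne_zero_of hp hpπ h2π
  have hgq : GoodQ (Cfsg.Agent.LieClassical.OrthForms.oddForm m F) := goodQ_odd (by omega) h2
  have hg : Good (Cfsg.Agent.LieClassical.OrthForms.oddForm m F) := by
    rw [oddForm_eq]; exact good_odd (by omega) h2
  have hc : 7 ≤ Fintype.card (Unit ⊕ Fin m ⊕ Fin m) := by simp only [_root_.Fintype.card_sum, _root_.Fintype.card_unique, _root_.Fintype.card_fin]; omega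
  exact nRow_omega hg hgq hp hpπ h2π hc (Cfsg.Agent.LieClassical.OrthForms.coe_oddForm m F) e

theorem nRow_oPlus {p : ℕ} (hp : p.Prime) (hpπ : p ∉ π) (h2π : 2 ∈ π) (hG : IsPOmegaPlusChar p S) :
    H165.RV.NRow π S := by
  obtain ⟨F, _, _, hchar, m, hm, ⟨e⟩⟩ := hG
  have h2 : (2 : F) ≠ 0 := two_ne_zero_of hp hpπ h2π
  have hgq : GoodQ (Cfsg.Agent.LieClassical.OrthForms.plusForm m F) := goodQ_plus (by omega)
  have hg : Good (Cfsg.Agent.LieClassical.OrthForms.plusForm m F) := by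
    rw [plusForm_eq]; exact good_plus (by omega)
  have hc : 7 ≤ Fintype.card (Fin m ⊕ Fin m) := by simp only [_root_.Fintype.card_sum, _root_.Fintype.card_fin]; omega
  exact nRow_omega hg hgq hp hpπ h2π hc (Cfsg.Agent.LieClassical.OrthForms.coe_plusForm m F) e

theorem nRow_oMinus {p : ℕ} (hp : p.Prime) (hpπ : p ∉ π) (h2π : 2 ∈ π) (hG : IsPOmegaMinusChar p S) :
    H165.RV.NRow π S := by
  obtain ⟨F, _, _, hchar, m, a, b, hm, hab, ⟨e⟩⟩ := hG
  have h2 : (2 : F) ≠ 0 := two_ne_zero_of hp hpπ h2π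
  have hgq : GoodQ (Cfsg.Agent.LieClassical.OrthForms.minusForm (m - 1) F a b) := goodQ_minus (by omega) a b hab
  have hg : Good (Cfsg.Agent.LieClassical.OrthForms.minusForm (m - 1) F a b) := by
    rw [minusForm_eq]; exact good_minus (by omega) hab
  have hc : 7 ≤ Fintype.card ((Fin (m - 1) ⊕ Fin (m - 1)) ⊕ Fin 2) := by simp only [_root_.Fintype.card_sum, _root_.Fintype.card_fin, _root_.Nat.reduceLeDiff]; omega
  exact nRow_omega hg hgq hp hpπ h2π hc (Cfsg.Agent.LieClassical.OrthForms.coe_minusForm (m - 1) F a b) e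

end families

end rows

end Cfsg.Agent.H485.RV
end

private theorem dce_9e602ebcbee6 : _root_.True := by
  try have : _root_.True := by simp only [_root_.Cfsg.Agent.H485.RV.bs.eq_1]
  try have : _root_.True := by simp only [_root_.Cfsg.Agent.H485.RV.Pj.eq_1]
  exact _root_.True.intro
end
end
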